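import Cfsg.Agent.Lib.MaxSub.SlThree.ExtraFrame

/-!
An absolutely irreducible extraspecial subgroup of exponent three of `GL₃(p)` is conjugate to `heis`.
-/

set_option autoImplicit false
set_option linter.unusedSectionVars false
set_option linter.unusedSimpArgs false

namespace CfsgLib.MaxSub.SlThree.Extra

open Matrix
open scoped MatrixGroups

variable {F : Type*} [Field F] [Fintype F]

theorem charP_prime {p : ℕ} (hp : p.Prime) (hF : Fintype.card F = p) : CharP F p := by
  obtain ⟨q, hq⟩ := CharP.exists F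
  obtain ⟨n, hqp, hn⟩ := FiniteField.card F q
  have : q = p := by
    have h1 : q ∣ p := by rw [← hF, hn]; exact dvd_pow_self q n.pos.ne'
    exact (Nat.prime_dvd_prime_iff_eq hqp hp).1 h1
  exact this ▸ hq

theorem small_ne_zero {p : ℕ} (hp : p.Prime) (hF : Fintype.card F = p) (h1 : p % 3 = 1) :
    (2 : F) ≠ 0 ∧ (3 : F) ≠ 0 := by
  have := charP_prime hp hF
  have key : ∀ n : ℕ, n.Prime → n ≠ p → ((n : ℕ) : F) ≠ 0 := fun n hn hne h =>
    hne ((Nat.prime_dvd_prime_iff_eq hp hn).1 ((CharP.cast_eq_zero_iff F p n).1 h)).symm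
  refine ⟨?_, ?_⟩
  · simpa using key 2 Nat.prime_two (by omega)
  · simpa using key 3 Nat.prime_three (by omega)

variable {R : Subgroup (GL (Fin 3) F)}

theorem scalar_of_central (hS : Cfsg.Geo.IsSymplecticTypeGroup 3 R)
    (hA : Cfsg.Geo.ActsAbsolutelyIrreducibly (Cfsg.Geo.matrixSet R)) {z : GL (Fin 3) F}
    (hz : ∀ g ∈ R, z * g = g * z) : ∃ c : F, (z : Matrix (Fin 3) (Fin 3) F) = c • 1 := by
  refine hA.2 _ ?_
  rintro _ ⟨g, hg, rfl⟩
  exact congrArg Units.val (hz g hg)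

theorem pow_three_eq_one (hS : Cfsg.Geo.IsSymplecticTypeGroup 3 R)
    (hA : Cfsg.Geo.ActsAbsolutelyIrreducibly (Cfsg.Geo.matrixSet R)) {g : GL (Fin 3) F}
    (hg : g ∈ R) : g ^ 3 = 1 := by
  have h := Monoid.pow_exponent_eq_one (⟨g, hg⟩ : R)
  rw [hS.exponent_eq, show 3 * Nat.gcd 2 3 = 3 from rfl] at h
  exact congrArg Subtype.val h

/-- Two generators with scalar commutator. -/
theorem exists_pair (hS : Cfsg.Geo.IsSymplecticTypeGroup 3 R)
    (hA : Cfsg.Geo.ActsAbsolutelyIrreducibly (Cfsg.Geo.matrixSet R)) :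
    ∃ x ∈ R, ∃ y ∈ R, ∃ c : F, c ≠ 1 ∧
      (x : Matrix (Fin 3) (Fin 3) F) * (y : Matrix (Fin 3) (Fin 3) F) =
        c • ((y : Matrix (Fin 3) (Fin 3) F) * (x : Matrix (Fin 3) (Fin 3) F)) ∧
      (∀ g ∈ R, ∃ d : F, (x : Matrix (Fin 3) (Fin 3) F) * (g : Matrix (Fin 3) (Fin 3) F) =
        d • ((g : Matrix (Fin 3) (Fin 3) F) * (x : Matrix (Fin 3) (Fin 3) F))) := by
  classical
  -- `R` is not abelian
  have hna : ¬ ∀ g : R, ∀ h : R, g * h = h * g := by
    intro hab
    have hsc : ∀ g ∈ R, ∃ c : F, (g : Matrix (Fin 3) (Fin 3) F) = c • 1 := fun g hg =>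
      scalar_of_central hS hA fun k hk => congrArg Subtype.val (hab ⟨g, hg⟩ ⟨k, hk⟩)
    let W : Submodule F (Fin 3 → F) := Submodule.span F {Pi.single 0 1}
    rcases hA.1 W (by
        rintro _ ⟨g, hg, rfl⟩
        obtain ⟨c, hc⟩ := hsc g hg
        rintro _ ⟨v, hv, rfl⟩
        simp only [Matrix.toLin'_apply, hc, Matrix.smul_mulVec, Matrix.one_mulVec]
        exact W.smul_mem c hv) with h | h
    · have := Submodule.mem_span_singleton_self (R := F) (Pi.single 0 1 : Fin 3 → F)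
      rw [show Submodule.span F {(Pi.single 0 1 : Fin 3 → F)} = ⊥ from h, Submodule.mem_bot] at this
      simpa using congrFun this 0
    · obtain ⟨a, ha⟩ := Submodule.mem_span_singleton.1
        ((show Submodule.span F {(Pi.single 0 1 : Fin 3 → F)} = ⊤ from h) ▸
          Submodule.mem_top (x := (Pi.single 1 1 : Fin 3 → F)))
      simpa using congrFun ha 1
  have : Group.IsNilpotent R := hS.pGroup.isNilpotent (hp := ⟨Nat.prime_three⟩)
  have hne : Subgroup.center R ≠ ⊤ := fun h => hna fun g k =>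
    (Subgroup.mem_center_iff.1 (h ▸ Subgroup.mem_top k) g)
  -- an element of the second centre
  have : Nontrivial (R ⧸ Subgroup.center R) := QuotientGroup.nontrivial_iff.2 hne
  have hq : IsPGroup 3 (R ⧸ Subgroup.center R) := hS.pGroup.to_quotient _
  have : Fact (Nat.Prime 3) := ⟨Nat.prime_three⟩
  haveI := hq.center_nontrivial
  obtain ⟨⟨q, hqc⟩, hq1⟩ := exists_ne (1 : Subgroup.center (R ⧸ Subgroup.center R))
  obtain ⟨x, rfl⟩ := QuotientGroup.mk_surjective q
  have hxc : x ∉ Subgroup.center R := fun h => hq1 (Subtype.ext ((QuotientGroup.eq_one_iff x).2 h))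
  have hcomm : ∀ g : R, ∃ d : F, ((x : GL (Fin 3) F) : Matrix (Fin 3) (Fin 3) F) *
      ((g : GL (Fin 3) F) : Matrix (Fin 3) (Fin 3) F) =
      d • (((g : GL (Fin 3) F) : Matrix (Fin 3) (Fin 3) F) * ((x : GL (Fin 3) F) : Matrix (Fin 3) (Fin 3) F)) := by
    intro g
    have h := Subgroup.mem_center_iff.1 hqc (g : R ⧸ Subgroup.center R)
    rw [← QuotientGroup.mk_mul, ← QuotientGroup.mk_mul, QuotientGroup.eq] at h
    obtain ⟨d, hd⟩ := scalar_of_central hS hA (z := (((g * x)⁻¹ * (x * g) : R) : GL (Fin 3) F))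
      fun k hk => (congrArg Subtype.val (Subgroup.mem_center_iff.1 h ⟨k, hk⟩)).symm
    refine ⟨d, ?_⟩
    have e : ∀ z : R, z = (g * x)⁻¹ * (x * g) →
        (x : GL (Fin 3) F) * (g : GL (Fin 3) F) = (g : GL (Fin 3) F) * (x : GL (Fin 3) F) * (z : GL (Fin 3) F) := by
      rintro z rfl
      exact congrArg Subtype.val (show x * g = g * x * ((g * x)⁻¹ * (x * g)) by group)
    have e' := congrArg Units.val (e _ rfl)
    rw [Units.val_mul, Units.val_mul, Units.val_mul, hd, Matrix.mul_smul, mul_one] at e'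
    exact e'
  obtain ⟨y, hy⟩ : ∃ y : R, x * y ≠ y * x := by
    by_contra h
    push Not at h
    exact hxc (Subgroup.mem_center_iff.2 fun y => (h y).symm)
  obtain ⟨c, hc⟩ := hcomm y
  refine ⟨x, x.2, y, y.2, c, fun h1 => hy (Subtype.ext (Units.ext ?_)), hc, fun g hg => hcomm ⟨g, hg⟩⟩
  simpa [h1] using hc

/-- The conjugating matrix. -/
theorem exists_heis_of (hS : Cfsg.Geo.IsSymplecticTypeGroup 3 R)
    (hA : Cfsg.Geo.ActsAbsolutelyIrreducibly (Cfsg.Geo.matrixSet R)) (h2 : (2 : F) ≠ 0) (h3 : (3 : F) ≠ 0) :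
    ∃ (w : F) (hw : Root w) (P : GL (Fin 3) F), ∀ g, g ∈ R ↔ P⁻¹ * g * P ∈ heis hw := by
  classical
  obtain ⟨x, hx, y, hy, c, hc1, hxy, hall⟩ := exists_pair hS hA
  set X := (x : Matrix (Fin 3) (Fin 3) F) with hX
  set Y := (y : Matrix (Fin 3) (Fin 3) F) with hY
  have hX3 : X * (X * X) = 1 := by
    have h := congrArg Units.val (pow_three_eq_one hS hA hx)
    simpa [pow_succ, mul_assoc, hX] using h
  have hY3 : Y * (Y * Y) = 1 := by
    have h := congrArg Units.val (pow_three_eq_one hS hA hy)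
    simpa [pow_succ, mul_assoc, hY] using h
  -- `c` is a cube root of unity
  have hYu : ∀ A : Matrix (Fin 3) (Fin 3) F, Y * A = 0 → A = 0 := fun A h => by
    have := congrArg ((Y * Y) * ·) h
    simpa [← mul_assoc, mul_assoc Y Y Y, hY3] using this
  have hc3 : c ^ 3 = 1 := by
    have e1 : X * (Y * (Y * Y)) = c ^ 3 • (Y * (Y * Y) * X) := by
      rw [← mul_assoc, hxy, Matrix.smul_mul, mul_assoc Y X, ← mul_assoc X Y, hxy, Matrix.smul_mul,
        Matrix.mul_smul, smul_smul, mul_assoc Y X, hxy, Matrix.mul_smul, Matrix.mul_smul, smul_smul]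
      simp only [mul_assoc]
      congr 1
      ring
    rw [hY3, mul_one, one_mul] at e1
    by_contra h
    have : (1 - c ^ 3) • X = 0 := by rw [sub_smul, one_smul, ← e1, sub_self]
    rcases smul_eq_zero.1 this with h' | h'
    · exact h (sub_eq_zero.1 h').symm
    · exact x.ne_zero h'
  have hce : c * c + c + 1 = 0 := by
    refine (mul_eq_zero.1 (?_ : (c - 1) * (c * c + c + 1) = 0)).resolve_left (sub_ne_zero.2 hc1)
    linear_combination hc3
  have hw : Root c := ⟨hce, h3, h2⟩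
  -- an eigenvector for `1`
  have hshift : ∀ (a : F) (v : Fin 3 → F), X *ᵥ v = a • v → X *ᵥ (Y *ᵥ v) = (c * a) • (Y *ᵥ v) := by
    intro a v hv
    rw [Matrix.mulVec_mulVec, hxy, Matrix.smul_mulVec, ← Matrix.mulVec_mulVec, hv, Matrix.mulVec_smul,
      smul_smul]
  have hYne : ∀ v : Fin 3 → F, v ≠ 0 → Y *ᵥ v ≠ 0 := by
    intro v hv h
    refine hv ?_
    have := congrArg ((Y * Y) *ᵥ ·) h
    simp only [Matrix.mulVec_mulVec, Matrix.mulVec_zero, mul_assoc, hY3, Matrix.one_mulVec] at this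
    exact this
  obtain ⟨v0, hv0, hxv0⟩ : ∃ v : Fin 3 → F, v ≠ 0 ∧ X *ᵥ v = v := by
    set u : Fin 3 → F := Pi.single 0 1
    have hu : u ≠ 0 := by intro h; simpa [u] using congrFun h 0
    set u1 := X *ᵥ u - (c * c) • u
    by_cases h1' : u1 = 0
    · exact ⟨Y *ᵥ u, hYne _ hu, by
        rw [hshift (c * c) u (sub_eq_zero.1 h1'), hw.cube, one_smul]⟩
    set u2 := X *ᵥ u1 - c • u1 with hu2
    by_cases h2' : u2 = 0
    · refine ⟨Y *ᵥ (Y *ᵥ u1), hYne _ (hYne _ h1'), ?_⟩
      rw [hshift (c * c) _ (hshift c _ (sub_eq_zero.1 h2')), hw.cube, one_smul]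
    refine ⟨u2, h2', ?_⟩
    have hX3' : X *ᵥ (X *ᵥ (X *ᵥ u)) = u := by
      rw [Matrix.mulVec_mulVec, Matrix.mulVec_mulVec, mul_assoc, hX3, Matrix.one_mulVec]
    rw [hu2]
    simp only [u1, Matrix.mulVec_sub, Matrix.mulVec_smul, hX3']
    ext i
    simp only [Pi.sub_apply, Pi.smul_apply, smul_eq_mul]
    grind
  set v1 := Y *ᵥ v0 with hv1
  set v2 := Y *ᵥ v1 with hv2
  have hxv1 : X *ᵥ v1 = c • v1 := by
    rw [hv1, hshift 1 v0 (by rw [hxv0, one_smul]), mul_one]
  have hxv2 : X *ᵥ v2 = (c * c) • v2 := hshift c v1 hxv1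
  -- independence
  have hli : ∀ a b d : F, a • v0 + b • v1 + d • v2 = 0 → a = 0 ∧ b = 0 ∧ d = 0 := by
    intro a b d h
    have e1 := congrArg (X *ᵥ ·) h
    simp only [Matrix.mulVec_add, Matrix.mulVec_smul, hxv0, hxv1, hxv2, Matrix.mulVec_zero] at e1
    have e2 := congrArg (X *ᵥ ·) e1
    simp only [Matrix.mulVec_add, Matrix.mulVec_smul, hxv0, hxv1, hxv2, Matrix.mulVec_zero] at e2
    have hne1 : v1 ≠ 0 := hYne _ hv0
    have hne2 : v2 ≠ 0 := hYne _ hne1
    have k : ∀ i, a * v0 i = 0 ∧ b * v1 i = 0 ∧ d * v2 i = 0 := by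
      intro i
      have f0 := congrFun h i
      have f1 := congrFun e1 i
      have f2 := congrFun e2 i
      simp only [Pi.add_apply, Pi.smul_apply, smul_eq_mul, Pi.zero_apply] at f0 f1 f2
      refine ⟨?_, ?_, ?_⟩ <;> grind
    have sel : ∀ (z : F) (v : Fin 3 → F), v ≠ 0 → (∀ i, z * v i = 0) → z = 0 := fun z v hv h' => by
      obtain ⟨i, hi⟩ := Function.ne_iff.1 hv
      exact (mul_eq_zero.1 (h' i)).resolve_right hi
    exact ⟨sel a v0 hv0 fun i => (k i).1, sel b v1 hne1 fun i => (k i).2.1,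
      sel d v2 hne2 fun i => (k i).2.2⟩
  let B : Matrix (Fin 3) (Fin 3) F := Matrix.of fun i j => ![v0, v1, v2] j i
  have hB : IsUnit B := by
    rw [← Matrix.linearIndependent_cols_iff_isUnit]
    refine Fintype.linearIndependent_iff.2 fun k hk => ?_
    obtain ⟨a0, a1, a2⟩ := hli (k 0) (k 1) (k 2) (by
      rw [← hk, Fin.sum_univ_three]
      ext i
      simp [B, Matrix.col, Matrix.transpose_apply])
    intro i; fin_cases i <;> assumption
  set P := hB.unit with hP
  have hPv : (P : Matrix (Fin 3) (Fin 3) F) = B := rfl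
  have hYv2 : Y *ᵥ v2 = v0 := by
    rw [hv2, hv1, Matrix.mulVec_mulVec, Matrix.mulVec_mulVec, mul_assoc, hY3, Matrix.one_mulVec]
  have hmul : ∀ (A : Matrix (Fin 3) (Fin 3) F) (i j : Fin 3),
      (A * B) i j = (A *ᵥ ![v0, v1, v2] j) i := fun A i j => by
    rfl
  have hPx : P⁻¹ * x * P = dG hw := by
    rw [mul_assoc, inv_mul_eq_iff_eq_mul]
    refine Units.ext ?_
    rw [Units.val_mul, Units.val_mul, hPv, coe_dG, ← hX]
    ext i j
    rw [hmul]
    fin_cases j <;> simp [hxv0, hxv1, hxv2, B, Matrix.mul_apply, Fin.sum_univ_three] <;> ring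
  have hPy : P⁻¹ * y * P = shG := by
    rw [mul_assoc, inv_mul_eq_iff_eq_mul]
    refine Units.ext ?_
    rw [Units.val_mul, Units.val_mul, hPv, coe_shG, ← hY]
    ext i j
    rw [hmul]
    fin_cases j <;> simp [← hv1, ← hv2, hYv2, B, Matrix.mul_apply, Fin.sum_univ_three]
  -- the elements of `R` in the new basis
  refine ⟨c, hw, P, fun g => ⟨fun hg => ?_, fun hg => ?_⟩⟩
  · set g' := P⁻¹ * g * P with hg'
    obtain ⟨d, hd⟩ := hall g hg
    have hxg : Prop' (g' * dG hw * g'⁻¹) (dG hw) := by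
      refine (Prop'.symm ⟨d, ?_⟩ : Prop' _ _)
      rw [← hPx, hg', show P⁻¹ * g * P * (P⁻¹ * x * P) * (P⁻¹ * g * P)⁻¹ = P⁻¹ * (g * x * g⁻¹) * P by group]
      simp only [Units.val_mul, ← mul_assoc]
      have h' : (x : Matrix (Fin 3) (Fin 3) F) =
          d • ((g : Matrix (Fin 3) (Fin 3) F) * x * ((g⁻¹ : GL (Fin 3) F) : Matrix (Fin 3) (Fin 3) F)) := by
        rw [← Matrix.smul_mul, ← hd, mul_assoc, ← Units.val_mul, mul_inv_cancel, Units.val_one, mul_one]
      conv_lhs => rw [h']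
      simp only [Matrix.mul_smul, Matrix.smul_mul, ← mul_assoc]
    obtain ⟨k, hk⟩ := exists_shift hw hxg
    set D := g' * shG ^ k with hD
    have hDR : ∀ n : ℕ, (P * (D * shG ^ n) * P⁻¹) ^ 3 = 1 := by
      intro n
      refine pow_three_eq_one hS hA ?_
      rw [hD, hg', ← hPy, mul_assoc _ ((P⁻¹ * y * P) ^ k), ← pow_add,
        ← MulAut.conj_symm_apply P y, ← map_pow, MulAut.conj_symm_apply]
      rw [show P * (P⁻¹ * g * P * (P⁻¹ * y ^ (k + n) * P)) * P⁻¹ = g * y ^ (k + n) by group]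
      exact mul_mem hg (pow_mem hy _)
    have hDn : ∀ n : ℕ, (D * shG ^ n) ^ 3 = 1 := fun n => by
      have := hDR n
      rwa [conj_pow, conj_eq_one_iff] at this
    clear_value D
    have e0 := congrArg Units.val (hDn 0)
    have e1 := congrArg Units.val (hDn 1)
    rw [pow_zero, mul_one] at e0
    rw [pow_one] at e1
    simp only [pow_succ, pow_zero, one_mul, Units.val_mul, Units.val_one] at e0 e1
    have q0 := congrFun (congrFun e0 0) 0
    have q1 := congrFun (congrFun e0 1) 1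
    have q2 := congrFun (congrFun e0 2) 2
    have r0 := congrFun (congrFun e1 0) 0
    simp [coe_shG, Matrix.mul_apply, Fin.sum_univ_three, hk 0 1 (by decide), hk 0 2 (by decide),
      hk 1 0 (by decide), hk 1 2 (by decide), hk 2 0 (by decide), hk 2 1 (by decide)] at q0 q1 q2 r0
    set a := (D : Matrix (Fin 3) (Fin 3) F) 0 0
    set b := (D : Matrix (Fin 3) (Fin 3) F) 1 1
    set e := (D : Matrix (Fin 3) (Fin 3) F) 2 2
    have hdet : a * b * e = 1 := by linear_combination r0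
    refine (Subgroup.mul_mem_cancel_right (heis hw) (pow_mem (shG_mem hw) k)).1 ?_
    rw [← hD]
    refine ⟨⟨?_, ?_⟩, ?_⟩
    · refine ⟨1, ?_⟩
      have hc' : D * dG hw = dG hw * D := Units.ext (by
        rw [Units.val_mul, Units.val_mul, coe_dG]
        ext i j
        fin_cases i <;> fin_cases j <;>
          simp [Matrix.mul_apply, Fin.sum_univ_three, Matrix.vecMul, dotProduct, hk 0 1 (by decide),
            hk 0 2 (by decide), hk 1 0 (by decide), hk 1 2 (by decide), hk 2 0 (by decide),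
            hk 2 1 (by decide), mul_comm])
      rw [hc', mul_inv_cancel_right, one_smul]
    · obtain ⟨t, ht⟩ : ∃ t : F, t * a = b ∧ t ^ 3 = 1 := by
        have ha : a ≠ 0 := fun h => by rw [h] at hdet; simp at hdet
        refine ⟨b * (a * a), ?_, ?_⟩
        · linear_combination b * q0
        · linear_combination (a * a * a) * (a * a * a) * q1 + (a * a * a + 1) * q0
      obtain ⟨htb, ht3⟩ := ht
      refine ⟨t, ?_⟩
      have hc' : (D : Matrix (Fin 3) (Fin 3) F) * ((shG : GL (Fin 3) F) : Matrix (Fin 3) (Fin 3) F) =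
          t • (((shG : GL (Fin 3) F) : Matrix (Fin 3) (Fin 3) F) * (D : Matrix (Fin 3) (Fin 3) F)) := by
        rw [coe_shG]
        ext i j
        fin_cases i <;> fin_cases j <;>
          simp [Matrix.mul_apply, Fin.sum_univ_three, Matrix.vecMul, dotProduct, hk 0 1 (by decide),
            hk 0 2 (by decide), hk 1 0 (by decide), hk 1 2 (by decide), hk 2 0 (by decide),
            hk 2 1 (by decide)] <;> grind
      rw [Units.val_mul, Units.val_mul, hc', Matrix.smul_mul, mul_assoc, ← Units.val_mul D, mul_inv_cancel,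
        Units.val_one, mul_one]
    · refine mem_sl.2 ?_
      rw [Matrix.det_fin_three]
      simp [hk 0 1 (by decide), hk 0 2 (by decide),
            hk 1 0 (by decide), hk 1 2 (by decide), hk 2 0 (by decide), hk 2 1 (by decide)]
      linear_combination hdet
  · obtain ⟨l, j, k, hl, he⟩ := exists_form_heis hw hg
    have hconj : ∀ z : GL (Fin 3) F, z = P * (P⁻¹ * z * P) * P⁻¹ := fun z => by group
    rw [hconj g, he, ← conj_mul, ← conj_mul, ← conj_pow, ← conj_pow, ← hPx, ← hPy, ← hconj, ← hconj]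
    refine mul_mem (mul_mem ?_ (pow_mem hx j)) (pow_mem hy k)
    rw [← (scG_commute l P).eq, mul_inv_cancel_right]
    -- scalars in `R` are powers of the commutator
    have hcomm : scG (Units.mk0 c hw.ne_zero) = x * y * (y * x)⁻¹ := by
      rw [eq_mul_inv_iff_mul_eq]
      refine Units.ext ?_
      simp only [Units.val_mul, coe_scG, Matrix.smul_mul, Matrix.one_mul, Units.val_mk0]
      exact hxy.symm
    obtain ⟨n, hn⟩ : ∃ n : ℕ, (l : F) = c ^ n := by
      rcases hw.cases_of_cube hl with e | e | e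
      exacts [⟨0, by rw [e, pow_zero]⟩, ⟨1, by rw [e, pow_one]⟩, ⟨2, by rw [e, pow_two]⟩]
    rw [show l = Units.mk0 c hw.ne_zero ^ n from Units.ext (by simp [hn]),
      show scG (Units.mk0 c hw.ne_zero ^ n) = scG (Units.mk0 c hw.ne_zero) ^ n from map_pow _ _ _, hcomm]
    exact pow_mem (mul_mem (mul_mem hx hy) (inv_mem (mul_mem hy hx))) n

/-- The conjugating matrix, over a field of prime order. -/
theorem exists_heis (hR : Cfsg.Geo.IsLinearSymplecticTypeData 3 R) {p : ℕ} (hp : p.Prime)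
    (hF : Fintype.card F = p) (h1 : p % 3 = 1) :
    ∃ (w : F) (hw : Root w) (P : GL (Fin 3) F), ∀ g, g ∈ R ↔ P⁻¹ * g * P ∈ heis hw :=
  exists_heis_of hR.symplecticType hR.absIrred (small_ne_zero hp hF h1).1 (small_ne_zero hp hF h1).2

end CfsgLib.MaxSub.SlThree.Extra
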