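import Cfsg.Agent.Lib.MaxSub.SlThree.ExtraDihedral
import Cfsg.Agent.Lib.MaxSub.SlThree.ExtraData

/-!
The normaliser of an extraspecial group of order `27` is maximal in `SL₃(p)`, `p ≡ 1 (mod 3)`.
-/

set_option autoImplicit false
set_option linter.unusedSectionVars false
set_option linter.unusedSimpArgs false

namespace CfsgLib.MaxSub.SlThree.Extra

open Matrix CfsgLib.MaxSub CfsgLib.Geom.Moebius
open scoped MatrixGroups

universe u

variable {F : Type u} [Field F]

/-- A lift of an element commuting with the involution modulo scalars commutes with it. -/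
theorem commute_hG_of_proj {g : GL (Fin 3) F} (h : proj g * proj hG = proj hG * proj g) :
    g ∈ Subgroup.centralizer {(hG : GL (Fin 3) F)} := by
  obtain ⟨c, hc⟩ := exists_sc (x := g * hG * g⁻¹) (y := hG) (by
    rw [map_mul, map_mul, map_inv, h, mul_inv_cancel_right])
  have ht := congrArg (fun X : GL (Fin 3) F => (X : Matrix (Fin 3) (Fin 3) F).trace) hc
  simp only [trace_conj] at ht
  rw [Units.val_mul, coe_scG, Matrix.smul_mul, Matrix.one_mul, Matrix.trace_smul, coe_hG,
    Matrix.trace_fin_three] at ht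
  simp at ht
  rw [show c = 1 from Units.ext (by simpa using ht.symm), scG_one, one_mul] at hc
  exact Subgroup.mem_centralizer_singleton_iff.2 (mul_inv_eq_iff_eq_mul.1 hc)

variable [Fintype F] {w : F} {hw : Root w} {M : Subgroup (GL (Fin 3) F)}

theorem proj_dG_not_scalar : proj (dG hw) ∉ Subgroup.zpowers (proj (shG : GL (Fin 3) F)) ∧
    proj (shG : GL (Fin 3) F) ∉ Subgroup.zpowers (proj (dG hw)) := by
  have hne : dG hw * shG ≠ shG * dG hw := fun h => by
    have := congrArg (fun X : GL (Fin 3) F => (X : Matrix (Fin 3) (Fin 3) F) 1 0) h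
    simp [coe_dG, coe_shG, Matrix.mul_apply, Fin.sum_univ_three] at this
    exact hw.ne_one this
  constructor
  · rintro ⟨i, hi⟩
    obtain ⟨c, hc⟩ := exists_sc (x := dG hw) (y := shG ^ i) (by rw [map_zpow]; exact hi.symm)
    exact hne (hc ▸ ((scG_commute c shG).mul_left (Commute.zpow_self shG i)).eq)
  · rintro ⟨i, hi⟩
    obtain ⟨c, hc⟩ := exists_sc (x := shG) (y := dG hw ^ i) (by rw [map_zpow]; exact hi.symm)
    exact hne (hc ▸ ((scG_commute c (dG hw)).mul_left (Commute.zpow_self (dG hw) i)).eq.symm)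

/-- Without transvections the group normalises, or its image has the shape whose centraliser part is the
action of the centraliser of `hG` on its plane. -/
theorem Over.shape_of_noTv (hM : Over hw M) (hT : NoTv M) {p : ℕ} (hp : p.Prime) (hc : CharP F p)
    (hn : ¬ M ≤ Subgroup.normalizer (heis hw : Set (GL (Fin 3) F))) :
    ∃ (D : Shape (M.map (proj (F := F))) F) (h1 : q1G hw ∈ Subgroup.centralizer {(hG : GL (Fin 3) F)})
      (h2 : q2G hw ∈ Subgroup.centralizer {(hG : GL (Fin 3) F)}),
      D.φ.range = ((ProjGenLinGroup.mk.comp planeH).comp (Subgroup.inclusion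
        (inf_le_right : M ⊓ Subgroup.centralizer {(hG : GL (Fin 3) F)} ≤ _))).range ∧
      D.φ D.u = ProjGenLinGroup.mk (planeH ⟨q1G hw, h1⟩) ∧ D.φ D.v = ProjGenLinGroup.mk (planeH ⟨q2G hw, h2⟩) := by
  classical
  have h2 := hw.two
  have h3 := hw.three
  have hp2 : p ≠ 2 := fun e => h2 (by
    exact_mod_cast (CharP.cast_eq_zero_iff F p 2).2 (e ▸ dvd_rfl))
  set Gb := M.map (proj (F := F)) with hGb
  set pr : M →* Gb := (proj.comp M.subtype).codRestrict Gb fun g => Subgroup.mem_map_of_mem _ g.2 with hpr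
  have hprs : Function.Surjective pr := by
    rintro ⟨_, g, hg, rfl⟩
    exact ⟨⟨g, hg⟩, rfl⟩
  set hb : Gb := pr ⟨hG, hM.h_mem⟩ with hhb
  set L := (M ⊓ Subgroup.centralizer {hG} : Subgroup (GL (Fin 3) F)) with hL
  have hρmem : ∀ g : L, pr ⟨g.1, g.2.1⟩ ∈ Subgroup.centralizer ({hb} : Set Gb) := fun g => by
    rw [Subgroup.mem_centralizer_singleton_iff, hhb, ← map_mul, ← map_mul]
    exact congrArg pr (Subtype.ext (Subgroup.mem_centralizer_singleton_iff.1 g.2.2))
  let ρ : L →* Subgroup.centralizer ({hb} : Set Gb) :=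
    (pr.comp (Subgroup.inclusion inf_le_left)).codRestrict _ hρmem
  have hρ : Function.Surjective ρ := by
    rintro ⟨x, hx⟩
    obtain ⟨⟨g, hg⟩, rfl⟩ := hprs x
    have hx' := congrArg Subtype.val (Subgroup.mem_centralizer_singleton_iff.1 hx)
    exact ⟨⟨g, hg, commute_hG_of_proj hx'⟩, rfl⟩
  let ψ : L →* PGL(2, F) := (ProjGenLinGroup.mk.comp planeH).comp (Subgroup.inclusion inf_le_right)
  have hker : ρ.ker ≤ ψ.ker := by
    rintro ⟨g, hg⟩ hx
    have hx' : proj g = 1 := congrArg (fun z : Subgroup.centralizer ({hb} : Set Gb) => z.1.1) (MonoidHom.mem_ker.1 hx)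
    obtain ⟨c, hc⟩ := scalars_iff.1 (proj_eq_one.1 hx')
    rw [Units.val_one] at hc
    refine MonoidHom.mem_ker.2 (mk_eq_one_iff.2 ?_)
    rw [coe_planeH]
    simp [hc]
  let φ : Subgroup.centralizer ({hb} : Set Gb) →* PGL(2, F) := ρ.liftOfSurjective hρ ⟨ψ, hker⟩
  have hφ : ∀ g : L, φ (ρ g) = ψ g := fun g => MonoidHom.liftOfRightInverse_comp_apply _ _ _ ⟨ψ, hker⟩ g
  have hq1C : q1G hw ∈ Subgroup.centralizer {(hG : GL (Fin 3) F)} := Subgroup.mem_centralizer_singleton_iff.2 (by
    rw [← q1G_sq hw, mul_assoc])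
  have hq2C : q2G hw ∈ Subgroup.centralizer {(hG : GL (Fin 3) F)} := Subgroup.mem_centralizer_singleton_iff.2 (by
    rw [← q2G_sq hw, mul_assoc])
  have hhd : (hG : GL (Fin 3) F) * dG hw * hG = dG hw * dG hw := by
    refine Units.ext ?_
    simp only [Units.val_mul, coe_hG, coe_dG]
    have := hw.eq
    ext i j; fin_cases i <;> fin_cases j <;> simp [Matrix.mul_apply, Fin.sum_univ_three] <;> grind
  have hhs : (hG : GL (Fin 3) F) * shG * hG = shG * shG := by
    refine Units.ext ?_
    simp only [Units.val_mul, coe_hG, coe_shG]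
    ext i j; fin_cases i <;> fin_cases j <;> simp [Matrix.mul_apply, Fin.sum_univ_three]
  have hinv : ∀ x : GL (Fin 3) F, ∀ hx : x ∈ M, x ^ 3 = 1 → (hG : GL (Fin 3) F) * x * hG = x * x →
      hb * pr ⟨x, hx⟩ * hb⁻¹ = (pr ⟨x, hx⟩)⁻¹ := by
    intro x hx h3x he
    refine Subtype.ext ?_
    show proj (hG : GL (Fin 3) F) * proj x * (proj hG)⁻¹ = (proj x)⁻¹
    rw [← map_inv proj (hG : GL (Fin 3) F), hG_inv, ← map_mul, ← map_mul, he, ← map_inv]
    refine congrArg proj (eq_inv_of_mul_eq_one_left ?_)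
    rw [← h3x, pow_succ, pow_two]
  let D : Shape Gb F :=
    { p := p, hp := hp, char := hc, hp2 := hp2
      h := hb
      h_sq := by rw [hhb, ← map_mul, show (⟨hG, hM.h_mem⟩ : M) * ⟨hG, hM.h_mem⟩ = 1 from
        Subtype.ext hG_mul_hG, map_one]
      h_ne := fun e => by
        obtain ⟨c, hc⟩ := scalars_iff.1 (proj_eq_one.1 (congrArg Subtype.val e : proj (hG : GL (Fin 3) F) = 1))
        have hc' : ((hG : GL (Fin 3) F) : Matrix (Fin 3) (Fin 3) F) = c • 1 := hc
        rw [coe_hG] at hc'
        have := congrFun (congrFun hc' 1) 2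
        simp at this
      φ := φ
      coprime := by
        intro hdvd
        have hr : φ.range = ψ.range := by
          ext x
          constructor
          · rintro ⟨y, rfl⟩
            obtain ⟨g, rfl⟩ := hρ y
            exact ⟨g, (hφ g).symm⟩
          · rintro ⟨g, rfl⟩
            exact ⟨ρ g, hφ g⟩
        rw [hr] at hdvd
        exact not_dvd_card_hG hp hc hT h2 (hdvd.trans (Subgroup.card_range_dvd ψ))
      ker := fun x hx => by
        obtain ⟨⟨g, hgM, hgC⟩, rfl⟩ := hρ x
        rw [hφ] at hx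
        rcases hM.plane_kernel hT hp hc hgM hgC hx with h | h
        · exact Or.inl (Subtype.ext (Subtype.ext h))
        · exact Or.inr (Subtype.ext h)
      φh := fun x hx => by
        have hhC : (hG : GL (Fin 3) F) ∈ Subgroup.centralizer {(hG : GL (Fin 3) F)} :=
          Subgroup.mem_centralizer_singleton_iff.2 rfl
        rw [show x = ρ ⟨hG, hM.h_mem, hhC⟩ from Subtype.ext hx, hφ]
        refine mk_eq_one_iff.2 ?_
        rw [coe_planeH]
        simp [coe_hG]
      u := ρ ⟨q1G hw, hM.q1, hq1C⟩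
      v := ρ ⟨q2G hw, hM.q2, hq2C⟩
      u_sq := Subtype.ext (show proj (q1G hw) * proj (q1G hw) = proj hG by rw [← map_mul, q1G_sq])
      v_sq := Subtype.ext (show proj (q2G hw) * proj (q2G hw) = proj hG by rw [← map_mul, q2G_sq])
      v_u := Subtype.ext (show proj (q2G hw) * proj (q1G hw) = proj hG * (proj (q1G hw) * proj (q2G hw)) by
        rw [← map_mul, ← map_mul, ← map_mul, q2G_mul_q1G])
      r := pr ⟨dG hw, hM.d_mem⟩
      s := pr ⟨shG, hM.sh_mem⟩
      r_three := by rw [← map_pow, show (⟨dG hw, hM.d_mem⟩ : M) ^ 3 = 1 from Subtype.ext (dG_pow_three hw), map_one]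
      s_three := by rw [← map_pow, show (⟨shG, hM.sh_mem⟩ : M) ^ 3 = 1 from Subtype.ext shG_pow_three, map_one]
      r_s := Subtype.ext (proj_commute_d_sh hw).eq
      r_notin := by
        rintro ⟨i, hi⟩
        exact (proj_dG_not_scalar (hw := hw)).1 ⟨i, by
          have := congrArg Subtype.val hi
          simpa [pr] using this⟩
      s_notin := by
        rintro ⟨i, hi⟩
        exact (proj_dG_not_scalar (hw := hw)).2 ⟨i, by
          have := congrArg Subtype.val hi
          simpa [pr] using this⟩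
      h_r := hinv _ hM.d_mem (dG_pow_three hw) hhd
      h_s := hinv _ hM.sh_mem shG_pow_three hhs
      self_cent := fun x hxr hxs => by
        obtain ⟨⟨g, hg⟩, rfl⟩ := hprs x
        obtain ⟨c, j, k, hjk⟩ := exists_form hw ((mem_heisC_iff hw).2
          ⟨congrArg Subtype.val hxr, congrArg Subtype.val hxs⟩)
        refine ⟨j % 3, k % 3, Nat.mod_lt _ (by norm_num), Nat.mod_lt _ (by norm_num), Subtype.ext ?_⟩
        show proj g = proj (dG hw) ^ (j % 3) * proj shG ^ (k % 3)
        have hjk' : g = scG c * dG hw ^ j * shG ^ k := hjk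
        rw [hjk', map_mul, map_mul, map_pow, map_pow, proj_eq_one.2 (scG_mem_scalars c), one_mul,
          ← pow_eq_pow_mod j (by rw [← map_pow, dG_pow_three, map_one]),
          ← pow_eq_pow_mod k (by rw [← map_pow, shG_pow_three, map_one])]
      nosol := fun N hN hsol => by
        by_contra hne
        set N' : Subgroup M := N.comap pr with hN'
        set K := N'.map M.subtype with hK
        have hKM : K ≤ M := Subgroup.map_subtype_le N'
        have hKn : Nrm M K := by
          rintro g hg _ ⟨x, hx, rfl⟩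
          exact ⟨_, (inferInstance : (N.comap pr).Normal).conj_mem x hx ⟨g, hg⟩, rfl⟩
        have hKsol : Group.IsSolvable K := by
          have h1 : Group.IsSolvable N' := by
            let f : N' →* N := (pr.comp N'.subtype).codRestrict N fun x => x.2
            refine (Group.isSolvable_iff_subgroup_quotient f.ker).2 ⟨?_, ?_⟩
            · refine Group.isSolvable_of_comm fun a b => Subtype.ext (Subtype.ext (Subtype.ext ?_))
              have ha : proj (((a : N') : M) : GL (Fin 3) F) = 1 :=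
                congrArg (fun z : N => ((z : Gb) : GL (Fin 3) F ⧸ Cfsg.Geo.scalars (Fin 3) F)) (MonoidHom.mem_ker.1 a.2)
              obtain ⟨c, hc⟩ := exists_sc (x := (((a : N') : M) : GL (Fin 3) F)) (y := 1) (by rw [ha, map_one])
              rw [mul_one] at hc
              show (((a : N') : M) : GL (Fin 3) F) * (((b : N') : M) : GL (Fin 3) F) =
                (((b : N') : M) : GL (Fin 3) F) * (((a : N') : M) : GL (Fin 3) F)
              rw [hc]; exact (scG_commute c _).eq
            · have hr : Group.IsSolvable f.range :=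
                Group.isSolvable_of_isSolvable_injective (f := f.range.subtype) (Subgroup.subtype_injective _)
              exact Group.isSolvable_of_surjective (f := (QuotientGroup.quotientKerEquivRange f).symm.toMonoidHom)
                (MulEquiv.surjective _)
          exact Group.isSolvable_of_surjective (f := (N'.equivMapOfInjective M.subtype
            (Subgroup.subtype_injective M)).toMonoidHom) (MulEquiv.surjective _)
        refine hn (hM.le_normalizer_of_soluble hKM hKn hKsol fun hle => hne ?_)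
        rw [Subgroup.eq_bot_iff_forall]
        intro x hx
        obtain ⟨g, rfl⟩ := hprs x
        exact Subtype.ext (proj_eq_one.2 (hle ⟨g, hx, rfl⟩)) }
  refine ⟨D, hq1C, hq2C, ?_, hφ _, hφ _⟩
  ext x
  constructor
  · rintro ⟨y, rfl⟩
    obtain ⟨g, rfl⟩ := hρ y
    exact ⟨g, (hφ g).symm⟩
  · rintro ⟨g, rfl⟩
    exact ⟨ρ g, hφ g⟩

/-- The core statement without transvections, over any finite field of characteristic `p ≠ 5`. -/
theorem Over.le_normalizer_of_noTv (hM : Over hw M) (hT : NoTv M) {p : ℕ} (hp : p.Prime) (hc : CharP F p)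
    (hp5 : p ≠ 5) : M ≤ Subgroup.normalizer (heis hw : Set (GL (Fin 3) F)) := by
  classical
  by_contra hn
  obtain ⟨D, -⟩ := hM.shape_of_noTv hT hp hc hn
  have h2 := hw.two
  have h3 := hw.three
  have h5 : (5 : F) ≠ 0 := fun h => by
    have h' : p ∣ 5 := (CharP.cast_eq_zero_iff F p 5).1 (by exact_mod_cast h)
    exact hp5 ((Nat.prime_dvd_prime_iff_eq hp (by norm_num : Nat.Prime 5)).1 h')
  refine D.false_of_obstructions ?_ ?_
  · rintro ⟨x, hx⟩ ⟨g, hg⟩ h5' h1' hc
    exact no_five hM.sl h2 h3 h5 hx hg (congrArg Subtype.val h5') (fun e => h1' (Subtype.ext e))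
      (congrArg Subtype.val hc)
  · rintro ⟨a, ha⟩ ⟨b, hb'⟩ ⟨d, hd⟩ ⟨e, he⟩ a3 b3 hab a1 b1 ba bai da db eb
    exact no_nine hM.sl h2 h3 h5 ha hb' hd he (congrArg Subtype.val a3) (congrArg Subtype.val b3)
      (congrArg Subtype.val hab) (fun h => a1 (Subtype.ext h)) (fun h => b1 (Subtype.ext h))
      (fun h => ba (Subtype.ext h)) (fun h => bai (Subtype.ext h)) (congrArg Subtype.val da)
      (congrArg Subtype.val db) (congrArg Subtype.val eb)

/-- The core statement over a field of prime order. -/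
theorem Over.le_normalizer_or_sl_le (hM : Over hw M) {p : ℕ} (hp : p.Prime) (hF : Fintype.card F = p)
    (h1 : p % 3 = 1) :
    M ≤ Subgroup.normalizer (heis hw : Set (GL (Fin 3) F)) ∨ Cfsg.Geo.specialLinear (Fin 3) F ≤ M :=
  or_iff_not_imp_right.2 fun hsl =>
    hM.le_normalizer_of_noTv (noTv_of_not_le hw (primeField_of_card hp hF) hM.heis_le hsl) hp
      (charP_prime hp hF) (by omega)

end CfsgLib.MaxSub.SlThree.Extra

namespace CfsgLib.MaxSub.SlThree

open Matrix CfsgLib.MaxSub CfsgLib.MaxSub.SlThree.Extra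
open scoped MatrixGroups

/-- Clause five: normalisers of extraspecial groups of order `27`. -/
theorem clause_five {F : Type*} [Field F] [Fintype F] :
    ∀ (p : ℕ) (R : Subgroup (Matrix.GeneralLinearGroup (Fin 3) F)), p.Prime → Fintype.card F = p → p % 3 = 1 →
      Cfsg.Geo.IsLinearSymplecticTypeData 3 R → Cfsg.Geo.IsMaximalIn (Cfsg.Geo.specialLinear (Fin 3) F)
        (Cfsg.Geo.subgroupNormalizer R ⊓ Cfsg.Geo.specialLinear (Fin 3) F) := by
  intro p R hp hF h1 hR
  obtain ⟨w, hw, P, hP⟩ := exists_heis hR hp hF h1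
  have hmem : ∀ g, g ∈ heis hw ↔ P * g * P⁻¹ ∈ R := fun g => by
    rw [hP, show P⁻¹ * (P * g * P⁻¹) * P = g by group]
  have hnorm : ∀ n, n ∈ Subgroup.normalizer (heis hw : Set (GL (Fin 3) F)) ↔
      P * n * P⁻¹ ∈ Cfsg.Geo.subgroupNormalizer R := by
    intro n
    simp only [Cfsg.Geo.subgroupNormalizer, Subgroup.mem_normalizer_iff]
    constructor
    · intro h x
      have := h (P⁻¹ * x * P)
      rw [hmem, hmem, show P * (P⁻¹ * x * P) * P⁻¹ = x by group,
        show P * (n * (P⁻¹ * x * P) * n⁻¹) * P⁻¹ = P * n * P⁻¹ * x * (P * n * P⁻¹)⁻¹ by group] at this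
      exact this
    · intro h x
      have := h (P * x * P⁻¹)
      rw [hmem, hmem, show P * (n * x * n⁻¹) * P⁻¹ = P * n * P⁻¹ * (P * x * P⁻¹) * (P * n * P⁻¹)⁻¹ by group]
      exact this
  refine isMaximalIn_of_lt (lt_of_le_of_ne inf_le_right fun he => ?_) fun M hHM hMK g hg hgH => ?_
  · -- a transvection does not normalise
    have h0 : (![0, 1, 0] : Fin 3 → F) ⬝ᵥ ![1, 0, 0] = 0 := by simp [dot_three]
    set t := tvGL (![1, 0, 0] : Fin 3 → F) ![0, 1, 0] h0 with ht
    have htN : t ∈ Subgroup.normalizer (heis hw : Set (GL (Fin 3) F)) := by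
      rw [hnorm]
      have hm : P * t * P⁻¹ ∈ Cfsg.Geo.specialLinear (Fin 3) F :=
        conj_mem_sl.2 (tvGL_mem_specialLinear _ _ h0)
      rw [← he] at hm
      exact hm.1
    obtain ⟨⟨⟨c, hc⟩, -⟩, -⟩ := (Subgroup.mem_normalizer_iff.1 htN (dG hw)).1 (dG_mem hw)
    set X := t * dG hw * t⁻¹ with hX
    have hXv : (X : Matrix (Fin 3) (Fin 3) F) = !![1, w - 1, 0; 0, w, 0; 0, 0, w * w] := by
      show tvMat ![1, 0, 0] ![0, 1, 0] * (dG hw : Matrix (Fin 3) (Fin 3) F) * tvMat ![1, 0, 0] (-![0, 1, 0]) = _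
      rw [coe_dG]
      ext i j
      fin_cases i <;> fin_cases j <;> simp [tvMat, vecMulVec_apply, Matrix.mul_apply, Fin.sum_univ_three] <;> ring
    have hc' : (X : Matrix (Fin 3) (Fin 3) F) * (dG hw : Matrix (Fin 3) (Fin 3) F) =
        c • ((dG hw : Matrix (Fin 3) (Fin 3) F) * (X : Matrix (Fin 3) (Fin 3) F)) := by
      rw [← Matrix.smul_mul, ← hc, ← Units.val_mul, ← Units.val_mul, inv_mul_cancel_right]
    rw [hXv, coe_dG] at hc'
    have e00 := congrFun (congrFun hc' 0) 0
    have e01 := congrFun (congrFun hc' 0) 1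
    simp [Matrix.mul_apply, Fin.sum_univ_three] at e00 e01
    rw [← e00, one_mul] at e01
    exact hw.ne_one (by
      have : (w - 1) * (w - 1) = 0 := by linear_combination e01
      exact sub_eq_zero.1 (mul_self_eq_zero.1 this))
  · have hRsl : ∀ x ∈ heis hw, P * x * P⁻¹ ∈ M := fun x hx => hHM
      ⟨Subgroup.le_normalizer ((hmem x).1 hx), conj_mem_sl.2 hx.2⟩
    have hO : Over hw (pull P M) :=
      ⟨pull_le_sl hMK, hRsl, hHM ⟨(hnorm _).1 (q1G_normalizes hw), conj_mem_sl.2 (q1G_mem_sl hw)⟩,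
        hHM ⟨(hnorm _).1 (q2G_normalizes hw), conj_mem_sl.2 (q2G_mem_sl hw)⟩⟩
    rcases hO.le_normalizer_or_sl_le hp hF h1 with h | h
    · exfalso
      have hg' : P⁻¹ * g * P ∈ pull P M := by
        rw [mem_pull, show P * (P⁻¹ * g * P) * P⁻¹ = g by group]; exact hg
      have := (hnorm _).1 (h hg')
      rw [show P * (P⁻¹ * g * P) * P⁻¹ = g by group] at this
      exact hgH ⟨this, hMK hg⟩
    · exact sl_le_of_pull h

end CfsgLib.MaxSub.SlThree
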