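import Cfsg.Agent.Lib.MaxSub.Transvection
import Cfsg.Agent.Lib.MaxSub.MonoColumn

/-!
Tools for subgroups of `SL₃(q)` containing transvections or involutory homologies.
-/

set_option autoImplicit false
set_option linter.unusedSectionVars false

namespace CfsgLib.MaxSub.SlThree

open Matrix
open scoped MatrixGroups
open CfsgLib.MaxSub CfsgLib.MaxSub.DecompMax

section general

variable {ι : Type} [Fintype ι] [DecidableEq ι] {F : Type*} [Field F]

/-- The subgroup `P⁻¹ M P`. -/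
def pull (P : GL ι F) (M : Subgroup (GL ι F)) : Subgroup (GL ι F) :=
  M.comap (MulAut.conj P).toMonoidHom

theorem mem_pull {P g : GL ι F} {M : Subgroup (GL ι F)} : g ∈ pull P M ↔ P * g * P⁻¹ ∈ M := Iff.rfl

theorem conj_mem_sl {P g : GL ι F} :
    P * g * P⁻¹ ∈ Cfsg.Geo.specialLinear ι F ↔ g ∈ Cfsg.Geo.specialLinear ι F := by
  simp only [Cfsg.Geo.specialLinear, MonoidHom.mem_ker, map_mul, map_inv, mul_inv_cancel_comm]

theorem pull_le_sl {P : GL ι F} {M : Subgroup (GL ι F)} (h : M ≤ Cfsg.Geo.specialLinear ι F) :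
    pull P M ≤ Cfsg.Geo.specialLinear ι F := fun _ hg => conj_mem_sl.1 (h hg)

theorem sl_le_of_pull {P : GL ι F} {M : Subgroup (GL ι F)}
    (h : Cfsg.Geo.specialLinear ι F ≤ pull P M) : Cfsg.Geo.specialLinear ι F ≤ M := by
  intro g hg
  have h1 : P⁻¹ * g * P ∈ Cfsg.Geo.specialLinear ι F := by
    have := (conj_mem_sl (P := P) (g := P⁻¹ * g * P)).1 (by simpa [mul_assoc] using hg)
    exact this
  have := h h1
  rw [mem_pull] at this
  simpa [mul_assoc] using this

theorem hasTv_pull {P : GL ι F} {M : Subgroup (GL ι F)} {a φ : ι → F} :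
    HasTv (pull P M) a φ ↔ HasTv M ((P : Matrix ι ι F) *ᵥ a) (φ ᵥ* ((P⁻¹ : GL ι F) : Matrix ι ι F)) := by
  have hdot : (φ ᵥ* ((P⁻¹ : GL ι F) : Matrix ι ι F)) ⬝ᵥ ((P : Matrix ι ι F) *ᵥ a) = φ ⬝ᵥ a := by
    rw [vecMul_inv_dotProduct, inv_mulVec_mulVec]
  have hmat : (P : Matrix ι ι F) * tvMat a φ * ((P⁻¹ : GL ι F) : Matrix ι ι F) =
      tvMat ((P : Matrix ι ι F) *ᵥ a) (φ ᵥ* ((P⁻¹ : GL ι F) : Matrix ι ι F)) :=
    mul_tvMat_mul _ _ _ _ (by rw [← Units.val_mul, mul_inv_cancel, Units.val_one])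
  constructor
  · rintro ⟨h0, g, hg, hgv⟩
    refine ⟨hdot.trans h0, P * g * P⁻¹, hg, ?_⟩
    rw [Units.val_mul, Units.val_mul, hgv, hmat]
  · rintro ⟨h0, g, hg, hgv⟩
    refine ⟨hdot.symm.trans h0, P⁻¹ * g * P, ?_, ?_⟩
    · rw [mem_pull]; simpa [mul_assoc] using hg
    · have h1 : ((P⁻¹ : GL ι F) : Matrix ι ι F) * (P : Matrix ι ι F) = 1 := by
        rw [← Units.val_mul, inv_mul_cancel, Units.val_one]
      rw [Units.val_mul, Units.val_mul, hgv, ← hmat]
      simp only [← mul_assoc, h1, one_mul]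
      rw [mul_assoc, h1, mul_one]

theorem hasTv_invTranspose {M : Subgroup (GL ι F)} {a φ : ι → F} (h : HasTv M a φ) :
    HasTv (M.map invTranspose) φ (-a) := by
  obtain ⟨h0, g, hg, hgv⟩ := h
  have hg' : g = tvGL a φ h0 := Units.ext hgv
  refine ⟨by rw [neg_dotProduct, dotProduct_comm, h0, neg_zero], invTranspose g,
    Subgroup.mem_map_of_mem _ hg, ?_⟩
  rw [hg']
  show ((tvGL a φ h0).inv)ᵀ = _
  change (tvMat a (-φ))ᵀ = _
  rw [tvMat, tvMat, transpose_add, transpose_one, transpose_vecMulVec, vecMulVec_neg, neg_vecMulVec]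

theorem sl_le_of_invTranspose {M : Subgroup (GL ι F)}
    (h : Cfsg.Geo.specialLinear ι F ≤ M.map invTranspose) : Cfsg.Geo.specialLinear ι F ≤ M := by
  intro g hg
  obtain ⟨x, hx, he⟩ := h (invTranspose_mem_sl hg)
  have := congrArg invTranspose he
  rw [invTranspose_invTranspose, invTranspose_invTranspose] at this
  exact this ▸ hx

/-- an involutory homology `-1 + c Aᵀ` -/
def homMat (c A : ι → F) : Matrix ι ι F := -1 + vecMulVec c A

theorem homMat_mulVec (c A x : ι → F) : homMat c A *ᵥ x = -x + (A ⬝ᵥ x) • c := by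
  rw [homMat, add_mulVec, neg_mulVec, one_mulVec, vecMulVec_mulVec]
  ext i; simp [mul_comm]

theorem vecMul_homMat (c A χ : ι → F) : χ ᵥ* homMat c A = -χ + (χ ⬝ᵥ c) • A := by
  rw [homMat, vecMul_add, vecMul_neg, vecMul_one, vecMul_vecMulVec]

theorem homMat_mul_homMat (c A B : ι → F) (hA : A ⬝ᵥ c = 2) :
    homMat c A * homMat c B = tvMat c (B - A) := by
  rw [homMat, homMat, tvMat, add_mul, mul_add, mul_add, neg_mul, neg_mul, one_mul, mul_neg,
    mul_one, vecMulVec_mul_vecMulVec, hA, vecMulVec_smul, one_mul, vecMulVec_sub, two_smul]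
  abel

theorem mul_homMat_mul (A' B' : Matrix ι ι F) (c A : ι → F) (h : A' * B' = 1) :
    A' * homMat c A * B' = homMat (A' *ᵥ c) (A ᵥ* B') := by
  rw [homMat, mul_add, add_mul, mul_neg, mul_one, neg_mul, h, mul_vecMulVec, vecMulVec_mul, homMat]

/-- `M` contains the homology `-1 + c Aᵀ` -/
def HasHm (M : Subgroup (GL ι F)) (c A : ι → F) : Prop :=
  A ⬝ᵥ c = 2 ∧ ∃ g ∈ M, (g : Matrix ι ι F) = homMat c A

variable {M : Subgroup (GL ι F)} {c A B : ι → F}

theorem HasHm.conj (h : HasHm M c A) {g : GL ι F} (hg : g ∈ M) :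
    HasHm M ((g : Matrix ι ι F) *ᵥ c) (A ᵥ* ((g⁻¹ : GL ι F) : Matrix ι ι F)) := by
  obtain ⟨h0, t, ht, htv⟩ := h
  refine ⟨by rw [vecMul_inv_dotProduct, inv_mulVec_mulVec, h0], g * t * g⁻¹,
    mul_mem (mul_mem hg ht) (inv_mem hg), ?_⟩
  rw [Units.val_mul, Units.val_mul, htv, mul_homMat_mul _ _ _ _ (by
    rw [← Units.val_mul, mul_inv_cancel, Units.val_one])]

/-- two homologies with the same centre give a transvection -/
theorem HasHm.tv (h : HasHm M c A) (h' : HasHm M c B) : HasTv M c (B - A) := by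
  obtain ⟨h0, t, ht, htv⟩ := h
  obtain ⟨h0', t', ht', htv'⟩ := h'
  refine ⟨by rw [sub_dotProduct, h0, h0', sub_self], t * t', mul_mem ht ht', ?_⟩
  rw [Units.val_mul, htv, htv', homMat_mul_homMat _ _ _ h0]

theorem hasHm_smul {k : F} (hk : k ≠ 0) (h : HasHm M c A) : HasHm M (k • c) (k⁻¹ • A) := by
  obtain ⟨h0, t, ht, htv⟩ := h
  refine ⟨by rw [smul_dotProduct, dotProduct_smul, h0, smul_smul, inv_mul_cancel₀ hk, one_smul], t, ht, ?_⟩
  rw [htv, homMat, homMat, smul_vecMulVec, vecMulVec_smul, smul_smul, mul_inv_cancel₀ hk, one_smul]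

end general

section three

variable {F : Type*} [Field F]

theorem vec_three (v : Fin 3 → F) : v = ![v 0, v 1, v 2] := by
  ext i; fin_cases i <;> rfl

theorem dot_three (v w : Fin 3 → F) : v ⬝ᵥ w = v 0 * w 0 + v 1 * w 1 + v 2 * w 2 := by
  simp [dotProduct, Fin.sum_univ_three]

variable {M : Subgroup (GL (Fin 3) F)}

/-- all elementary transvections at three independent centres -/
theorem sl_le_of_three_centres {b : Fin 3 → Fin 3 → F} (hb : LinearIndependent F b)
    (h : ∀ i φ, φ ⬝ᵥ b i = 0 → HasTv M (b i) φ) : Cfsg.Geo.specialLinear (Fin 3) F ≤ M := by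
  refine specialLinear_le_of_forall_center fun a φ _ hφ => ?_
  let P : GL (Fin 3) F := Matrix.GeneralLinearGroup.mk'' (Matrix.of fun i j => b j i) (by
    rw [← Matrix.isUnit_iff_isUnit_det]
    exact Matrix.linearIndependent_cols_iff_isUnit.1 hb)
  refine (sl_le_of_pull (P := P) ?_ (tvGL_mem_specialLinear a φ hφ) |> fun hm => ⟨hφ, _, hm, rfl⟩)
  refine specialLinear_le_of_hasTv fun i j hij c => ?_
  rw [hasTv_pull]
  have hcol : (P : Matrix (Fin 3) (Fin 3) F) *ᵥ Pi.single i c = c • b i := by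
    ext k
    change ((Matrix.of fun i j => b j i) *ᵥ Pi.single i c) k = _
    simp [mulVec, dotProduct, Pi.single_apply, mul_comm]
  rw [hcol]
  have hdot : (Pi.single j (1 : F) ᵥ* ((P⁻¹ : GL (Fin 3) F) : Matrix (Fin 3) (Fin 3) F)) ⬝ᵥ b i = 0 := by
    have : b i = (P : Matrix (Fin 3) (Fin 3) F) *ᵥ Pi.single i 1 := by
      ext k
      change _ = ((Matrix.of fun i j => b j i) *ᵥ Pi.single i (1:F)) k
      simp [mulVec, dotProduct, Pi.single_apply]
    rw [this, vecMul_inv_dotProduct, inv_mulVec_mulVec]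
    simp [hij.symm]
  rcases eq_or_ne c 0 with rfl | hc
  · rw [zero_smul]; exact hasTv_zero_left _
  · rw [hasTv_smul_iff hc]
    exact h i _ (by rw [smul_dotProduct, hdot, smul_zero])

/-- the full groups `x₁₃`, `x₃₁` and one unitriangular element with non-zero superdiagonal -/
theorem sl_le_of_root_pair (h13 : ∀ t : F, HasTv M ![1, 0, 0] ![0, 0, t])
    (h31 : ∀ t : F, HasTv M ![0, 0, 1] ![t, 0, 0]) {g : GL (Fin 3) F} (hg : g ∈ M) {x y c : F}
    (hgv : (g : Matrix (Fin 3) (Fin 3) F) = !![1, x, c; 0, 1, y; 0, 0, 1]) (hx : x ≠ 0) (hy : y ≠ 0) :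
    Cfsg.Geo.specialLinear (Fin 3) F ≤ M := by
  -- `g` may be normalised to `c = 0`
  obtain ⟨h, hh, hhv⟩ : ∃ h ∈ M, (h : Matrix (Fin 3) (Fin 3) F) = !![1, x, 0; 0, 1, y; 0, 0, 1] := by
    obtain ⟨-, r, hr, hrv⟩ := h13 (-c)
    refine ⟨r * g, mul_mem hr hg, ?_⟩
    rw [Units.val_mul, hrv, hgv]
    ext i j
    fin_cases i <;> fin_cases j <;>
      simp [tvMat, Matrix.mul_apply, Fin.sum_univ_three, vecMulVec_apply]
  have hinv : ((h⁻¹ : GL (Fin 3) F) : Matrix (Fin 3) (Fin 3) F) = !![1, -x, x * y; 0, 1, -y; 0, 0, 1] := by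
    rw [Units.inv_eq_of_mul_eq_one_right]
    rw [hhv]
    ext i j
    fin_cases i <;> fin_cases j <;> simp [Matrix.mul_apply, Fin.sum_univ_three]
  set a : Fin 3 → F := ![0, y, 1] with ha
  have hA : ∀ s : F, HasTv M a ![s, -(x * s), x * y * s] := by
    intro s
    have h1 := (h31 s).conj hh
    rw [hhv, hinv] at h1
    convert h1 using 1
    · ext i; fin_cases i <;> simp [ha, mulVec, dotProduct, Fin.sum_univ_three]
    · ext i; fin_cases i <;> simp [vecMul, dotProduct, Fin.sum_univ_three] <;> ring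
  have hB : ∀ s : F, HasTv M a ![s, 0, 0] := by
    intro s
    obtain ⟨-, r, hr, hrv⟩ := h31 1
    have hrinv : ((r⁻¹ : GL (Fin 3) F) : Matrix (Fin 3) (Fin 3) F) = !![1, 0, 0; 0, 1, 0; -1, 0, 1] := by
      rw [Units.inv_eq_of_mul_eq_one_right]
      rw [hrv]
      ext i j
      fin_cases i <;> fin_cases j <;>
        simp [tvMat, Matrix.mul_apply, Fin.sum_univ_three, vecMulVec_apply]
    have hxy : x * y ≠ 0 := mul_ne_zero hx hy
    have h1 := (hA (-(s / (x * y)))).conj hr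
    rw [hrv, hrinv] at h1
    have h2 := h1.1
    have h3 : HasTv M a ![-(s / (x * y)) + s, -(x * -(s / (x * y))), x * y * -(s / (x * y))] := by
      convert h1 using 1
      · ext i; fin_cases i <;> simp [ha, tvMat, mulVec, dotProduct, Fin.sum_univ_three, vecMulVec_apply]
      · ext i; fin_cases i <;> simp [vecMul, dotProduct, Fin.sum_univ_three]
        field_simp
    have h4 := h3.sub (hA (-(s / (x * y))))
    convert h4 using 1
    ext i; fin_cases i <;> simp
  have hfull : ∀ φ, φ ⬝ᵥ a = 0 → HasTv M a φ := by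
    intro φ hφ
    have h1 := (hA (-(φ 1) / x)).add (hB (φ 0 + φ 1 / x))
    convert h1 using 1
    rw [dot_three] at hφ
    simp [ha] at hφ
    ext i; fin_cases i <;> simp <;> field_simp
    · ring
    · linear_combination hφ
  -- `x₂₁` and `x₂₃`, hence everything
  have h21 : ∀ t : F, HasTv M ![0, 1, 0] ![t, 0, 0] := by
    intro t
    have h1 := ((hasTv_smul_iff (inv_ne_zero hy)).2 (hfull (y⁻¹ • ![t, 0, 0]) (by simp [ha, dot_three])))
    have h2 : HasTv M ![0, 0, y⁻¹] ![t, 0, 0] := by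
      have := h31 (y⁻¹ * t)
      rw [show (![y⁻¹ * t, 0, 0] : Fin 3 → F) = y⁻¹ • ![t, 0, 0] by
        ext i; fin_cases i <;> simp, ← hasTv_smul_iff (inv_ne_zero hy)] at this
      convert this using 1
      ext i; fin_cases i <;> simp
    have h3 : HasTv M (-![0, 0, y⁻¹]) ![t, 0, 0] := by
      have h4 := (hasTv_smul_iff (M := M) (a := ![0, 0, y⁻¹]) (φ := ![t, 0, 0]) (c := (-1 : F)) (by simp)).2
        (by rw [neg_one_smul]; exact h2.neg)
      simpa [neg_smul] using h4
    convert h1.add_left h3 using 1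
    ext i; fin_cases i <;> simp [ha, hy]
  have h23 : ∀ t : F, HasTv M ![0, 1, 0] ![0, 0, t] := fun t => by
    have h1 := (h13 t).comm (h21 1) (by simp [dot_three])
    convert h1 using 1
    ext i; fin_cases i <;> simp [dot_three]
  refine sl_le_of_three_centres (b := ![![0, 1, 0], a, (h : Matrix (Fin 3) (Fin 3) F) *ᵥ ![0, 1, 0]]) ?_ ?_
  · refine Fintype.linearIndependent_iff.2 fun k hk => ?_
    simp only [Fin.sum_univ_three, hhv] at hk
    have e0 := congrFun hk 0
    have e1 := congrFun hk 1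
    have e2 := congrFun hk 2
    simp [ha, mulVec, dotProduct, Fin.sum_univ_three] at e0 e1 e2
    have k2 : k 2 = 0 := by rcases e0 with h | h; exacts [h, absurd h hx]
    rw [k2, e2] at e1
    intro i; fin_cases i <;> simp_all
  · have hb : ∀ φ : Fin 3 → F, φ ⬝ᵥ ![0, 1, 0] = 0 → HasTv M ![0, 1, 0] φ := by
      intro φ hφ
      have h1 : φ 1 = 0 := by rw [dot_three] at hφ; linear_combination (norm := (simp)) hφ
      convert (h21 (φ 0)).add (h23 (φ 2)) using 1
      ext i; fin_cases i <;> simp [h1]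
    intro i φ hφ
    fin_cases i
    · exact hb φ hφ
    · exact hfull φ hφ
    · have h1 := (hb (φ ᵥ* (h : Matrix (Fin 3) (Fin 3) F))
        (by rw [← dotProduct_mulVec]; exact hφ)).conj hh
      rwa [vecMul_vecMul, ← Units.val_mul, mul_inv_cancel, Units.val_one, vecMul_one] at h1

end three

end CfsgLib.MaxSub.SlThree
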