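import Cfsg.Agent.Lib.MaxSub.SlThree.ExtraOcta
import Cfsg.Agent.Lib.Transfer.Thompson
import Cfsg.Agent.Lib.Comp.Subnormal
import Cfsg.Agent.Lib.Recog.SuborbitThree.TimesPSL
import Cfsg.Agent.Lib.Recog.SuborbitThree.PSLFacts
import Cfsg.Agent.S3322

/-!
The dihedral shape leads to an index-two subgroup `PSL₂(9)` and a forbidden element of order five.
-/

set_option autoImplicit false
set_option linter.unusedSectionVars false
set_option linter.unusedSimpArgs false

namespace CfsgLib.MaxSub.SlThree.Extra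

open CfsgLib.Geom.Moebius
open scoped MatrixGroups

universe u v

section psl

variable {F : Type} [Field F] [Fintype F]

local notation "PSL2" => Matrix.ProjectiveSpecialLinearGroup (Fin 2) F
local notation "ψ" => Matrix.ProjectiveSpecialLinearGroup.toPGL (n := Fin 2) (R := F)

/-- The centraliser of an element of order three, in characteristic three. -/
theorem centralizer_three (h3 : 3 ∣ Fintype.card F) (h4 : 4 ≤ Fintype.card F) {g : PSL2}
    (hg : orderOf g = 3) :
    Nat.card (Subgroup.centralizer ({g} : Set PSL2)) = Fintype.card F ∧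
      ∀ x y, x * g = g * x → y * g = g * y → x * y = y * x := by
  have := finite_pgl_two (F := F)
  obtain ⟨E, _, _, f, hE, hQC⟩ := exists_quadExt F
  have hg1 : g ≠ 1 := fun h => by rw [h, orderOf_one] at hg; omega
  have hgg : g * g ≠ 1 := fun h => by
    have := orderOf_dvd_of_pow_eq_one (show g ^ 2 = 1 by rw [pow_two, h])
    rw [hg] at this; norm_num at this
  have hno : ∀ k : ℕ, (Nat.gcd 2 (Fintype.card F - 1) * k = Fintype.card F - 1 ∨
      Nat.gcd 2 (Fintype.card F - 1) * k = Fintype.card F + 1) → ¬ 3 ∣ k := by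
    intro k hk h
    have hk' : 3 ∣ Nat.gcd 2 (Fintype.card F - 1) * k := dvd_mul_of_dvd_right h _
    have := Fintype.card_pos (α := F)
    rcases hk with hk | hk <;> rw [hk] at hk' <;> omega
  refine ⟨?_, ?_⟩
  · rcases card_centralizer_cases f hE hQC h4 g hg1 with h | ⟨k, hk, hord, -⟩
    · exact h
    · exact absurd (hg ▸ hord) (hno k hk)
  -- only one fixed point
  intro x y hx hy
  have hg' : ψ g ≠ 1 := fun e => hg1 (Matrix.ProjectiveSpecialLinearGroup.toPGL_injective (e.trans (map_one _).symm))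
  obtain ⟨P, hP⟩ := CfsgLib.Geom.Moebius.exists_fixed f hQC (ψ g)
  have hu : ∀ R, extHom f (ψ g) • R = R → R = P := by
    by_contra hu
    push Not at hu
    obtain ⟨Q, hQ, hne⟩ := hu
    obtain ⟨hcyc, hcard, -⟩ := torus_pair f hE hQC hne.symm hg' hP hQ
    have hd : orderOf (ψ g) ∣ Nat.card (fixExt f P ⊓ fixExt f Q : Subgroup PGL(2, F)) := by
      rw [← Subgroup.orderOf_mk _ (show ψ g ∈ fixExt f P ⊓ fixExt f Q from ⟨hP, hQ⟩)]
      exact orderOf_dvd_natCard _
    rw [orderOf_injective _ Matrix.ProjectiveSpecialLinearGroup.toPGL_injective, hg] at hd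
    have := Fintype.card_pos (α := F)
    rcases hcard with h | h <;> rw [h] at hd <;> omega
  obtain ⟨m, hm⟩ := exists_map1 P
  have key : ∀ z : PSL2, z * g = g * z → (m⁻¹ * extHom f (ψ z) * m) • (inf : Line E) = inf := by
    intro z hz
    have : extHom f (ψ z) • P = P := hu _ (by
      rw [← mul_smul, ← map_mul, ← map_mul, ← hz, map_mul, map_mul, mul_smul, hP])
    rw [mul_smul, mul_smul, hm, this, inv_smul_eq_iff, hm]
  obtain ⟨α, β, hα⟩ := exists_aff_of_fix (key g rfl)
  have hα1 : α = 1 := by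
    by_contra h
    have h1 := aff_smul_fixed (b := β) h
    rw [← hα, mul_smul, mul_smul, inv_smul_eq_iff] at h1
    have h2 := hu _ h1
    rw [← hm] at h2
    exact pt_ne_inf _ (smul_left_cancel _ h2)
  have hβ : β ≠ 0 := by
    intro h
    rw [hα1, h, aff_one] at hα
    refine hg' (extHom_injective f ?_)
    rw [map_one]
    have := congrArg (fun z => m * z * m⁻¹) hα
    simpa [mul_assoc] using this
  rw [hα1] at hα
  have trans : ∀ z : PSL2, z * g = g * z → ∃ b, m⁻¹ * extHom f (ψ z) * m = aff 1 b := by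
    intro z hz
    obtain ⟨a, b, hab⟩ := exists_aff_of_fix (key z hz)
    have hc : aff a b * aff 1 β = aff 1 β * aff a b := by
      rw [← hab, ← hα, show m⁻¹ * extHom f (ψ z) * m * (m⁻¹ * extHom f (ψ g) * m) =
        m⁻¹ * (extHom f (ψ z) * extHom f (ψ g)) * m by group, ← map_mul, ← map_mul, hz, map_mul, map_mul]
      group
    rw [aff_mul, aff_mul] at hc
    have hab' := (aff_inj hc).2
    simp at hab'
    have ha : a = 1 := Units.ext (mul_right_cancel₀ hβ (by rw [Units.val_one, one_mul]; linear_combination hab'))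
    exact ⟨b, ha ▸ hab⟩
  obtain ⟨b, hb⟩ := trans x hx
  obtain ⟨c, hc⟩ := trans y hy
  refine Matrix.ProjectiveSpecialLinearGroup.toPGL_injective (extHom_injective f ?_)
  rw [map_mul, map_mul, map_mul, map_mul]
  have e : aff (1 : Eˣ) b * aff 1 c = aff 1 c * aff 1 b := by rw [aff_mul, aff_mul]; simp [add_comm]
  rw [← hb, ← hc] at e
  have := congrArg (fun z => m * z * m⁻¹) e
  simpa [mul_assoc] using this

end psl

/-- A group of order twice an odd number is soluble. -/
theorem isSolvable_two_mul_odd {G : Type u} [Group G] [Finite G] {m : ℕ} (hm : Odd m)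
    (hG : Nat.card G = 2 * m) : Group.IsSolvable G := by
  have : Fact (Nat.Prime 2) := ⟨Nat.prime_two⟩
  obtain ⟨i, hi⟩ := exists_prime_orderOf_dvd_card' (G := G) 2 ⟨m, hG⟩
  have hm2 : ¬ 2 ∣ m := fun h => (Nat.not_even_iff_odd.2 hm) (even_iff_two_dvd.2 h)
  let P : Sylow 2 G := Sylow.ofCard (Subgroup.zpowers i) (by
    rw [Nat.card_zpowers, hi, hG, Nat.factorization_mul (by norm_num) (fun h => hm2 (by rw [h]; exact dvd_zero 2)),
      Finsupp.add_apply, Nat.Prime.factorization_self Nat.prime_two,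
      Nat.factorization_eq_zero_of_not_dvd hm2]
    norm_num)
  rcases CfsgLib.Transfer.thompson_transfer_involution P (Q := ⊥) bot_le (by
      rw [Subgroup.relIndex_bot_left]
      show Nat.card (Subgroup.zpowers i) = 2
      rw [Nat.card_zpowers, hi]) (u := i) (by rw [← hi, pow_orderOf_eq_one]) (Subgroup.mem_zpowers i) with
    ⟨M, hM, hMi, -⟩ | ⟨g, hg⟩
  · have hMc : Nat.card M = m := by
      have := M.index_mul_card
      rw [hMi, hG] at this
      omega
    have h1 : Group.IsSolvable M := Cfsg.Agent.S0205.result (hMc ▸ hm)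
    have h2 : Group.IsSolvable (G ⧸ M) := by
      have : IsCyclic (G ⧸ M) := isCyclic_of_prime_card (p := 2) (by rw [← Subgroup.index_eq_card, hMi])
      let _ : CommGroup (G ⧸ M) := IsCyclic.commGroup
      infer_instance
    exact (Group.isSolvable_iff_subgroup_quotient M).2 ⟨h1, h2⟩
  · rw [Subgroup.mem_bot, conj_eq_one_iff] at hg
    rw [hg, orderOf_one] at hi
    norm_num at hi

namespace Shape

variable {G : Type u} [Group G] [Finite G] {F : Type v} [Field F] [Fintype F] (D : Shape G F)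

set_option maxHeartbeats 1000000 in
theorem pair_contra (hfive : ∀ x g : G, x ^ 5 = 1 → x ≠ 1 → g * x * g⁻¹ = x ^ 2 → False)
    {t : Subgroup.centralizer ({D.h} : Set G)} {g0 : G} (htg : (t : G) = g0 * D.h * g0⁻¹)
    (T : Subgroup PGL(2, F)) (hcyc : IsCyclic T)
    (hone : ∀ x ∈ T, ∀ y ∈ T, x * x = 1 → y * y = 1 → x ≠ 1 → y ≠ 1 → x = y)
    (hout : ∀ x ∈ D.φ.range, x ∉ T → x * x = 1)
    (hprod : ∀ x ∈ D.φ.range, ∀ y ∈ D.φ.range, x ∉ T → y ∉ T → x * y ∈ T) (hc : D.φ t ∉ T) : False := by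
  classical
  set C1 := T.comap D.φ with hC1
  have memC1 : ∀ x, x ∈ C1 ↔ D.φ x ∈ T := fun x => Iff.rfl
  -- the element of order four in the torus and one outside
  obtain ⟨j, o, hj, ho, hoj, hjT, hoT, houv⟩ : ∃ j o : Subgroup.centralizer ({D.h} : Set G),
      (j : G) * j = D.h ∧ (o : G) * o = D.h ∧ ((o * j : Subgroup.centralizer ({D.h} : Set G)) : G) *
        (o * j : Subgroup.centralizer ({D.h} : Set G)) = D.h ∧ j ∈ C1 ∧ o ∉ C1 ∧ (o = D.u ∨ o = D.v) := by
    have e3 : D.φ D.v * D.φ D.u = D.φ (D.u * D.v) := by rw [map_mul, D.φ_comm]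
    by_cases hu : D.φ D.u ∈ T
    · refine ⟨D.u, D.v, D.u_sq, D.v_sq, D.sq_of_eq (by rw [map_mul, e3]) D.uv_sq, hu, fun hv => ?_, Or.inr rfl⟩
      exact D.φ_ne (hone _ hu _ hv (D.φ_sq D.u_sq) (D.φ_sq D.v_sq) (D.φ_ne_one D.u_sq) (D.φ_ne_one D.v_sq))
    · by_cases hv : D.φ D.v ∈ T
      · exact ⟨D.v, D.u, D.v_sq, D.u_sq, D.uv_sq, hv, hu, Or.inl rfl⟩
      · refine ⟨D.u * D.v, D.u, D.uv_sq, D.u_sq, D.sq_of_eq ?_ D.v_sq, ?_, hu, Or.inl rfl⟩
        · rw [map_mul, map_mul, ← mul_assoc, D.φ_sq D.u_sq, one_mul]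
        · rw [memC1, map_mul]
          exact hprod _ ⟨_, rfl⟩ _ ⟨_, rfl⟩ hu hv
  set hC := D.hC with hhC
  have hh1 : hC * hC = 1 := Subtype.ext D.h_sq
  have hhne : hC ≠ 1 := fun e => D.h_ne (congrArg Subtype.val e)
  have hhc : ∀ x : Subgroup.centralizer ({D.h} : Set G), hC * x = x * hC :=
    fun x => Subtype.ext (D.comm x).symm
  have hhC1 : hC ∈ C1 := (memC1 _).2 (by rw [D.φh hC rfl]; exact one_mem T)
  have hjj : j * j = hC := Subtype.ext hj
  have hoo : o * o = hC := Subtype.ext ho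
  have hojj : o * j * (o * j) = hC := Subtype.ext hoj
  have ht2 : t * t = 1 := Subtype.ext (by
    rw [Subgroup.coe_mul, htg, conj_mul, D.h_sq, Subgroup.coe_one]; group)
  have htn : t ∉ C1 := hc
  have hkerφ : ∀ x, D.φ x = 1 → x = 1 ∨ x = hC := fun x hx => (D.ker x hx).imp id fun h => Subtype.ext h
  -- the torus part is abelian with one involution
  have C1comm : ∀ x ∈ C1, ∀ y ∈ C1, x * y = y * x := by
    intro x hx y hy
    have h := commutative_of_cyclic_center_quotient (D.φ.subgroupComap T) (fun z hz => by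
      refine Subgroup.mem_center_iff.2 fun y => Subtype.ext ?_
      rcases hkerφ z.1 (congrArg Subtype.val (MonoidHom.mem_ker.1 hz)) with h | h
      · simp [h]
      · simp only [Subgroup.coe_mul, h]; exact (hhc _).symm) ⟨x, hx⟩ ⟨y, hy⟩
    exact congrArg Subtype.val h
  have C1inv : ∀ x ∈ C1, x * x = 1 → x = 1 ∨ x = hC := by
    intro x hx hx2
    by_cases h : D.φ x = 1
    · exact hkerφ x h
    · exfalso
      have := hone _ ((memC1 x).1 hx) _ ((memC1 j).1 hjT) (by rw [← map_mul, hx2, map_one]) (D.φ_sq hj) h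
        (D.φ_ne_one hj)
      exact D.not_sq_h _ (congrArg Subtype.val hx2) (D.sq_of_eq this hj)
  have C1mul : ∀ x y, x ∉ C1 → y ∉ C1 → x * y ∈ C1 := fun x y hx hy => by
    rw [memC1, map_mul]; exact hprod _ ⟨x, rfl⟩ _ ⟨y, rfl⟩ hx hy
  -- the action of `t` on the torus part
  have flip : ∀ d ∈ C1, t * d * t = d⁻¹ ∨ t * d * t = hC * d⁻¹ := by
    intro d hd
    have hout' : t * d ∉ C1 := fun h => htn (by simpa using mul_mem h (inv_mem hd))
    have h1 : D.φ (t * d * (t * d)) = 1 := by rw [map_mul]; exact hout _ ⟨_, rfl⟩ hout'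
    rcases hkerφ _ h1 with h | h
    · left; rw [eq_inv_iff_mul_eq_one, ← h]; simp only [mul_assoc]
    · right; rw [eq_mul_inv_iff_mul_eq, ← h]; simp only [mul_assoc]
  have t3 : ∀ a b, t * (a * b) * t = (t * a * t) * (t * b * t) := fun a b => by
    rw [show t * a * t * (t * b * t) = t * a * (t * t) * b * t by simp only [mul_assoc], ht2, mul_one]
    simp only [mul_assoc]
  have tinv : ∀ a, t * a⁻¹ * t = (t * a * t)⁻¹ := fun a => by
    rw [eq_inv_iff_mul_eq_one, ← t3, inv_mul_cancel, mul_one, ht2]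
  set A : Subgroup (Subgroup.centralizer ({D.h} : Set G)) :=
    { carrier := {d | d ∈ C1 ∧ t * d * t = d⁻¹}
      one_mem' := ⟨one_mem _, by rw [mul_one, ht2, inv_one]⟩
      mul_mem' := fun {a b} ha hb => ⟨mul_mem ha.1 hb.1, by
        rw [t3, ha.2, hb.2, _root_.mul_inv_rev, C1comm _ (inv_mem ha.1) _ (inv_mem hb.1)]⟩
      inv_mem' := fun {a} ha => ⟨inv_mem ha.1, by rw [tinv, ha.2]⟩ } with hA
  have memA : ∀ d, d ∈ A ↔ d ∈ C1 ∧ t * d * t = d⁻¹ := fun d => Iff.rfl
  have notA : ∀ d ∈ C1, d ∉ A → t * d * t = hC * d⁻¹ := fun d hd h =>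
    (flip d hd).resolve_left fun e => h ⟨hd, e⟩
  have mulA : ∀ d e, d ∈ C1 → e ∈ C1 → d ∉ A → e ∉ A → d * e ∈ A := by
    intro d e hd he hdA heA
    refine ⟨mul_mem hd he, ?_⟩
    rw [t3, notA d hd hdA, notA e he heA, _root_.mul_inv_rev, C1comm _ (inv_mem he) _ (inv_mem hd),
      show hC * d⁻¹ * (hC * e⁻¹) = hC * (d⁻¹ * hC) * e⁻¹ by simp only [mul_assoc], ← hhc, ← mul_assoc hC hC,
      hh1, one_mul]
  have sqA : ∀ d ∈ C1, d * d ∈ A := fun d hd => by
    by_cases h : d ∈ A
    exacts [mul_mem h h, mulA d d hd hd h h]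
  have hhA : hC ∈ A := ⟨hhC1, by
    rw [← hhc t, mul_assoc, ht2, mul_one, eq_inv_iff_mul_eq_one, hh1]⟩
  set c := t * o with hcd
  have hcC1 : c ∈ C1 := C1mul t o htn hoT
  have hoc : o = t * c := by rw [hcd, ← mul_assoc, ht2, one_mul]
  have hcA : c ∉ A := fun h => hhne (by rw [← hoo, hoc, ← mul_assoc, h.2, inv_mul_cancel])
  have hjA : j ∈ A := by
    by_contra h
    have e1 := notA j hjT h
    have e2 := notA c hcC1 hcA
    refine hhne ?_
    rw [← hojj, hoc, show t * c * j * (t * c * j) = (t * (c * j) * t) * (c * j) by simp only [mul_assoc], t3, e1,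
      e2, show hC * c⁻¹ * (hC * j⁻¹) * (c * j) = hC * (c⁻¹ * hC) * j⁻¹ * (c * j) by simp only [mul_assoc],
      ← hhc, ← mul_assoc hC hC, hh1, one_mul, C1comm _ hcC1 _ hjT]
    group
  -- every element of `A` is a square
  have Asq : ∀ a ∈ A, ∃ d ∈ C1, d * d = a := by
    let sq : C1 →* C1 := MonoidHom.mk' (fun d => d * d) fun a b => Subtype.ext (by
      simp only [Subgroup.coe_mul]
      rw [mul_assoc, ← mul_assoc (b : Subgroup.centralizer ({D.h} : Set G)), C1comm _ b.2 _ a.2]
      simp only [mul_assoc])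
    have hker : Nat.card sq.ker = 2 := by
      rw [Nat.card_eq_two_iff' 1]
      refine ⟨⟨⟨hC, hhC1⟩, Subtype.ext hh1⟩, fun h => hhne (congrArg (fun z : sq.ker =>
        ((z : C1) : Subgroup.centralizer ({D.h} : Set G))) h), ?_⟩
      rintro ⟨⟨x, hx⟩, hx'⟩ hne
      rcases C1inv x hx (congrArg Subtype.val hx') with h | h
      · exact absurd (Subtype.ext (Subtype.ext h)) hne
      · exact Subtype.ext (Subtype.ext h)
    have hA2 : (A.subgroupOf C1).index = 2 := by
      rw [Subgroup.index_eq_two_iff]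
      refine ⟨⟨c, hcC1⟩, fun b => ?_⟩
      simp only [Subgroup.mem_subgroupOf, Subgroup.coe_mul]
      by_cases hb : (b : Subgroup.centralizer ({D.h} : Set G)) ∈ A
      · exact Or.inr ⟨hb, fun h => hcA ((Subgroup.mul_mem_cancel_left A hb).1 h)⟩
      · exact Or.inl ⟨mulA _ _ b.2 hcC1 hb hcA, hb⟩
    have hle : sq.range ≤ A.subgroupOf C1 := by
      rintro _ ⟨d, rfl⟩
      exact sqA d d.2
    have hri : sq.range.index = 2 := by
      have h1 := sq.range.index_mul_card
      have h2 := sq.ker.index_mul_card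
      rw [Subgroup.index_ker, hker] at h2
      have hpos : 0 < Nat.card sq.range := Nat.card_pos
      nlinarith
    have heq : sq.range = A.subgroupOf C1 := by
      refine le_antisymm hle (Subgroup.relIndex_eq_one.1 ?_)
      have := Subgroup.relIndex_mul_index hle
      rw [hA2, hri] at this
      omega
    intro a ha
    obtain ⟨d, hd⟩ : (⟨a, ha.1⟩ : C1) ∈ sq.range := heq ▸ ha
    exact ⟨d, d.2, congrArg Subtype.val hd⟩
  -- the dihedral subgroup
  have tA : ∀ d ∈ A, t * d * t ∈ A := fun d hd => hd.2 ▸ inv_mem hd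
  set Hc : Subgroup (Subgroup.centralizer ({D.h} : Set G)) :=
    { carrier := {x | x ∈ A ∨ t * x ∈ A}
      one_mem' := Or.inl (one_mem A)
      mul_mem' := by
        rintro x y (hx | hx) (hy | hy)
        · exact Or.inl (mul_mem hx hy)
        · refine Or.inr ?_
          rw [show t * (x * y) = t * x * t * (t * y) by
            rw [show t * x * t * (t * y) = t * x * (t * t) * y by simp only [mul_assoc], ht2, mul_one,
              mul_assoc]]
          exact mul_mem (tA x hx) hy
        · exact Or.inr (by rw [← mul_assoc]; exact mul_mem hx hy)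
        · refine Or.inl ?_
          rw [show x * y = t * (t * x) * t * (t * y) by
            rw [show t * (t * x) * t * (t * y) = (t * t) * x * (t * t) * y by simp only [mul_assoc], ht2,
              one_mul, mul_one]]
          exact mul_mem (tA _ hx) hy
      inv_mem' := by
        rintro x (hx | hx)
        · exact Or.inl (inv_mem hx)
        · refine Or.inr ?_
          have := tA _ (inv_mem hx)
          rwa [_root_.mul_inv_rev, inv_eq_of_mul_eq_one_right ht2, mul_assoc, mul_assoc, ht2, mul_one] at this }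
    with hHc
  have memHc : ∀ x, x ∈ Hc ↔ x ∈ A ∨ t * x ∈ A := fun x => Iff.rfl
  have invHc : ∀ x, x * x = 1 → x ∈ Hc := by
    intro x hx
    by_cases hxC : x ∈ C1
    · rcases C1inv x hxC hx with h | h <;> rw [h]
      exacts [one_mem _, Or.inl hhA]
    · refine Or.inr ⟨C1mul t x htn hxC, ?_⟩
      rw [← mul_assoc, ht2, one_mul, _root_.mul_inv_rev, inv_eq_of_mul_eq_one_right ht2,
        inv_eq_of_mul_eq_one_right hx]
  have outHc : ∀ x ∈ Hc, x ∉ A → x * x = 1 := by
    intro x hx hxA
    have h := (hx.resolve_left hxA).2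
    rw [← mul_assoc t, ht2, one_mul, eq_inv_iff_mul_eq_one] at h
    rwa [show x * t * (t * x) = x * (t * t) * x by simp only [mul_assoc], ht2, mul_one] at h
  have htHc : t ∈ Hc := invHc t ht2
  have hoHc : o ∉ Hc := by
    rintro (h | h)
    · exact hoT h.1
    · exact hcA h
  have hHc2 : Hc.index = 2 := by
    rw [Subgroup.index_eq_two_iff]
    refine ⟨o, fun b => ?_⟩
    have hcHc : c ∉ Hc := fun h => hoHc (by rw [hoc]; exact mul_mem htHc h)
    have hoh : ∀ z, z ∉ Hc → ∃ d ∈ C1, d ∉ A ∧ (z = d ∨ z = t * d) := by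
      intro z hz
      by_cases h : z ∈ C1
      · exact ⟨z, h, fun h' => hz (Or.inl h'), Or.inl rfl⟩
      · exact ⟨t * z, C1mul t z htn h, fun h' => hz (Or.inr h'), Or.inr (by rw [← mul_assoc, ht2, one_mul])⟩
    by_cases hb : b ∈ Hc
    · exact Or.inr ⟨hb, fun h => hoHc ((Subgroup.mul_mem_cancel_left Hc hb).1 h)⟩
    · refine Or.inl ⟨?_, hb⟩
      obtain ⟨d, hd, hdA, h⟩ := hoh b hb
      have hdo : d * o = t * ((t * d * t) * c) := by
        rw [hoc, show t * (t * d * t * c) = (t * t) * (d * (t * c)) by simp only [mul_assoc], ht2, one_mul]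
      have : d * o ∈ Hc := by
        rw [hdo, notA d hd hdA]
        refine mul_mem htHc (Or.inl (mulA _ _ (mul_mem hhC1 (inv_mem hd)) hcC1 (fun h' => hdA ?_) hcA))
        exact inv_mem_iff.1 ((Subgroup.mul_mem_cancel_left A hhA).1 h')
      rcases h with h | h <;> rw [h]
      · exact this
      · rw [mul_assoc]; exact mul_mem htHc this
  -- transfer
  obtain ⟨P, huP, hvP, hhP, hPC⟩ := D.exists_sylow
  have hoP : (o : G) ∈ P := by rcases houv with rfl | rfl <;> assumption
  set HG : Subgroup G := Hc.map (Subgroup.centralizer ({D.h} : Set G)).subtype with hHG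
  have memHG : ∀ y : Subgroup.centralizer ({D.h} : Set G), (y : G) ∈ HG ↔ y ∈ Hc := fun y =>
    Subgroup.mem_map_iff_mem (Subgroup.subtype_injective _)
  have hoo' : (o : G) * o = D.h := ho
  obtain ⟨K, hKn, hKi, hoK⟩ : ∃ K : Subgroup G, K.Normal ∧ K.index = 2 ∧ (o : G) ∉ K := by
    refine CfsgLib.Transfer.thompson_transfer P (Q := HG ⊓ P) inf_le_right ?_ hoP ?_ ?_
    · show ((HG ⊓ P).subgroupOf (P : Subgroup G)).index = 2
      rw [Subgroup.index_eq_two_iff]
      refine ⟨⟨o, hoP⟩, fun b => ?_⟩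
      simp only [Subgroup.mem_subgroupOf, Subgroup.coe_mul, Subgroup.mem_inf]
      set bC : Subgroup.centralizer ({D.h} : Set G) := ⟨b, hPC b.2⟩ with hbC
      have e1 : (b : G) ∈ HG ↔ bC ∈ Hc := memHG bC
      have e2 : (b : G) * o ∈ HG ↔ bC * o ∈ Hc := memHG (bC * o)
      rw [e1, e2, Subgroup.mul_mem_iff_of_index_two hHc2]
      by_cases hb : bC ∈ Hc
      · exact Or.inr ⟨⟨hb, b.2⟩, fun h => hoHc (h.1.1 hb)⟩
      · exact Or.inl ⟨⟨⟨fun h => absurd h hb, fun h => absurd h hoHc⟩, mul_mem b.2 hoP⟩, fun h => hb h.1⟩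
    · rintro g ⟨hg, -⟩
      obtain ⟨x, hx, hxe⟩ := hg
      rw [Subgroup.subtype_apply] at hxe
      have hxx : (x : G) * x = g⁻¹ * D.h * g := by
        rw [hxe, show g⁻¹ * (o : G) * g * (g⁻¹ * (o : G) * g) = g⁻¹ * ((o : G) * o) * g by group, hoo']
      have hh' : g⁻¹ * D.h * g ≠ 1 := fun e => D.h_ne (by
        have := congrArg (fun z => g * z * g⁻¹) e
        simpa [mul_assoc] using this)
      by_cases hxA : x ∈ A
      · have hx4 : x * x * (x * x) = 1 := Subtype.ext (by
          simp only [Subgroup.coe_mul, Subgroup.coe_one]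
          rw [hxx, show g⁻¹ * D.h * g * (g⁻¹ * D.h * g) = g⁻¹ * (D.h * D.h) * g by group, D.h_sq]
          group)
        rcases C1inv _ (mul_mem hxA.1 hxA.1) hx4 with h | h
        · exact hh' (hxx.symm.trans (congrArg Subtype.val h))
        · have hgh : g⁻¹ * D.h * g = D.h := hxx.symm.trans (congrArg Subtype.val h)
          have hgC : g ∈ Subgroup.centralizer ({D.h} : Set G) := Subgroup.mem_centralizer_singleton_iff.2 (by
            have := congrArg (fun z => g * z) hgh
            simpa [mul_assoc] using this.symm)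
          set gC : Subgroup.centralizer ({D.h} : Set G) := ⟨g, hgC⟩ with hgCd
          refine hoT ?_
          have he : o = gC * x * gC⁻¹ := Subtype.ext (by
            simp only [Subgroup.coe_mul, Subgroup.coe_inv, hxe, hgCd]; group)
          rw [he]
          by_cases h' : gC ∈ C1
          · exact mul_mem (mul_mem h' hxA.1) (inv_mem h')
          · exact C1mul _ _ (fun h2 => h' (by simpa using mul_mem h2 (inv_mem hxA.1))) (fun h2 => h' (inv_mem_iff.1 h2))
      · exact hh' (hxx.symm.trans (congrArg Subtype.val (outHc x hx hxA)))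
    · intro g k hk hgP
      refine ⟨?_, hgP⟩
      set x : Subgroup.centralizer ({D.h} : Set G) := ⟨g⁻¹ * (o : G) ^ (2 ^ k) * g, hPC hgP⟩
      refine (memHG x).2 (invHc x (Subtype.ext ?_))
      obtain ⟨n, rfl⟩ : ∃ n, k = n + 1 := ⟨k - 1, by omega⟩
      show g⁻¹ * (o : G) ^ (2 ^ (n + 1)) * g * (g⁻¹ * (o : G) ^ (2 ^ (n + 1)) * g) = 1
      rw [pow_succ' 2 n, pow_mul, pow_two, hoo', show g⁻¹ * D.h ^ (2 ^ n) * g * (g⁻¹ * D.h ^ (2 ^ n) * g) =
        g⁻¹ * (D.h ^ (2 ^ n) * D.h ^ (2 ^ n)) * g by group, ← (Commute.refl D.h).mul_pow, D.h_sq, one_pow]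
      group
  -- what lies in `K`
  have Ksq : ∀ y : G, y * y ∈ K := fun y => Subgroup.mul_self_mem_of_index_two hKi y
  have hhK : D.h ∈ K := hoo' ▸ Ksq _
  have htK : (t : G) ∈ K := htg ▸ hKn.conj_mem _ hhK g0
  have hHcK : ∀ x ∈ Hc, (x : G) ∈ K := by
    have hAK : ∀ a ∈ A, (a : G) ∈ K := fun a ha => by
      obtain ⟨d, -, rfl⟩ := Asq a ha
      exact Ksq (d : G)
    rintro x (hx | hx)
    · exact hAK x hx
    · have := mul_mem htK (hAK _ hx)
      rwa [← Subgroup.coe_mul, ← mul_assoc, ht2, one_mul] at this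
  have CK : ∀ x : Subgroup.centralizer ({D.h} : Set G), (x : G) ∈ K ↔ x ∈ Hc := by
    refine fun x => ⟨fun hxK => ?_, hHcK x⟩
    by_contra hx
    have h := hHcK _ ((Subgroup.mul_mem_iff_of_index_two hHc2).2 ⟨fun h => absurd h hx, fun h => absurd h hoHc⟩ :
      x * o ∈ Hc)
    rw [Subgroup.coe_mul, Subgroup.mul_mem_cancel_left K hxK] at h
    exact hoK h
  have invG : ∀ x : G, x * x = 1 → x ≠ 1 → x ∈ K ∧ ∃ g : G, g * D.h * g⁻¹ = x := by
    intro x hx hx1
    have : Fact (Nat.Prime 2) := ⟨Nat.prime_two⟩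
    have hxp : IsPGroup 2 (Subgroup.zpowers x) := IsPGroup.of_card (n := 1) (by
      rw [Nat.card_zpowers, pow_one, orderOf_eq_prime (by rw [pow_two, hx]) hx1])
    obtain ⟨P', hP'⟩ := hxp.exists_le_sylow
    obtain ⟨k, hk⟩ := MulAction.exists_smul_eq G P' P
    have hkP : k * x * k⁻¹ ∈ P := by
      rw [← hk]
      exact Subgroup.smul_mem_pointwise_smul _ (MulAut.conj k) _ (hP' (Subgroup.mem_zpowers x))
    set y : Subgroup.centralizer ({D.h} : Set G) := ⟨k * x * k⁻¹, hPC hkP⟩ with hy
    have hy2 : y * y = 1 := Subtype.ext (by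
      show k * x * k⁻¹ * (k * x * k⁻¹) = 1
      rw [conj_mul, hx]; group)
    have hy1 : y ≠ 1 := fun e => hx1 (conj_eq_one_iff.1 (congrArg Subtype.val e))
    have hyH := invHc y hy2
    obtain ⟨g, hg⟩ : ∃ g : G, g * D.h * g⁻¹ = (y : G) := by
      rcases hyH with h | h
      · rcases C1inv y h.1 hy2 with e | e
        · exact absurd e hy1
        · exact ⟨1, by rw [e, one_mul, inv_one, mul_one]; rfl⟩
      · obtain ⟨d, hd, hdd⟩ := Asq _ h
        have hy' : y = t * (d * d) := by rw [hdd, ← mul_assoc, ht2, one_mul]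
        obtain ⟨e, hee⟩ : ∃ e : Subgroup.centralizer ({D.h} : Set G), e⁻¹ * t * e = y := by
          by_cases hdA : d ∈ A
          · refine ⟨d, ?_⟩
            rw [hy', show d⁻¹ * t * d = t * ((t * d⁻¹ * t) * d) by
              simp only [← mul_assoc, ht2, one_mul], tinv, hdA.2, inv_inv]
          · have hdjA : d * j ∉ A := fun h' => hdA ((Subgroup.mul_mem_cancel_right A hjA).1 h')
            refine ⟨d * j, ?_⟩
            rw [hy', show (d * j)⁻¹ * t * (d * j) = t * ((t * (d * j)⁻¹ * t) * (d * j)) by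
              simp only [← mul_assoc, ht2, one_mul], tinv, notA _ (mul_mem hd hjT) hdjA, _root_.mul_inv_rev,
              inv_inv, inv_eq_of_mul_eq_one_right hh1, mul_assoc (d * j), hhc, ← mul_assoc (d * j),
              mul_assoc d j, ← mul_assoc j d, C1comm _ hjT _ hd, mul_assoc d j j, hjj, ← mul_assoc d d, mul_assoc,
              hh1, mul_one]
        refine ⟨(e : G)⁻¹ * g0, ?_⟩
        rw [← hee, Subgroup.coe_mul, Subgroup.coe_mul, Subgroup.coe_inv, htg]
        group
    refine ⟨?_, k⁻¹ * g, ?_⟩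
    · have h := hKn.conj_mem _ ((CK y).2 hyH) k⁻¹
      simpa [hy, mul_assoc] using h
    · rw [show k⁻¹ * g * D.h * (k⁻¹ * g)⁻¹ = k⁻¹ * (g * D.h * g⁻¹) * k by group, hg, hy]
      group
  -- soluble normal subgroups of `K` are trivial
  have noK : ∀ N : Subgroup K, N.Normal → Group.IsSolvable N → N = ⊥ := by
    intro N hN hsol
    set N1 : Subgroup G := N.map K.subtype with hN1
    set N2 : Subgroup G := N1.map (MulAut.conj (o : G)).toMonoidHom with hN2
    have hK1 : ∀ x ∈ K, ∀ y ∈ N1, x * y * x⁻¹ ∈ N1 := by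
      rintro x hx _ ⟨y, hy, rfl⟩
      exact ⟨_, hN.conj_mem y hy ⟨x, hx⟩, rfl⟩
    have hK2 : ∀ x ∈ K, ∀ y ∈ N2, x * y * x⁻¹ ∈ N2 := by
      rintro x hx _ ⟨y, hy, rfl⟩
      refine ⟨_, hK1 _ (hKn.conj_mem x hx (o : G)⁻¹) y hy, ?_⟩
      simp [mul_assoc]
    have hs1 : Group.IsSolvable N1 :=
      Group.isSolvable_of_surjective (f := (N.equivMapOfInjective K.subtype (Subgroup.subtype_injective K)).toMonoidHom)
        (MulEquiv.surjective _)
    have hs2 : Group.IsSolvable N2 :=
      Group.isSolvable_of_surjective (f := (N1.equivMapOfInjective (MulAut.conj (o : G)).toMonoidHom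
        (MulEquiv.injective _)).toMonoidHom) (MulEquiv.surjective _)
    have hN1K : N1 ≤ K := Subgroup.map_subtype_le N
    have hN2K : N2 ≤ K := by
      rintro _ ⟨y, hy, rfl⟩
      exact hKn.conj_mem y (hN1K hy) _
    have hnorm : N2 ≤ Subgroup.normalizer (N1 : Set G) := fun x hx => Subgroup.mem_normalizer_iff.2 fun y => ⟨
      fun hy => hK1 x (hN2K hx) y hy, fun hy => by
        have := hK1 x⁻¹ (inv_mem (hN2K hx)) _ hy
        simpa [mul_assoc] using this⟩
    have hsup := CfsgLib.Comp.isSolvable_sup hnorm hs1 hs2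
    have ho12 : ∀ y ∈ N2, (o : G) * y * (o : G)⁻¹ ∈ N1 := by
      rintro _ ⟨y, hy, rfl⟩
      simp only [MulEquiv.coe_toMonoidHom, MulAut.conj_apply]
      rw [show (o : G) * ((o : G) * y * (o : G)⁻¹) * (o : G)⁻¹ = ((o : G) * o) * y * ((o : G) * o)⁻¹ by group,
        hoo']
      exact hK1 _ hhK y hy
    have hnormal : (N1 ⊔ N2).Normal := by
      rw [← Subgroup.normalizer_eq_top_iff]
      have hgen : ∀ x : G, (∀ y ∈ N1, x * y * x⁻¹ ∈ N1 ⊔ N2) → (∀ y ∈ N2, x * y * x⁻¹ ∈ N1 ⊔ N2) →
          x ∈ Subgroup.normalizer ((N1 ⊔ N2 : Subgroup G) : Set G) := by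
        intro x h1 h2
        refine Subgroup.mem_normalizer_iff_map_conj_eq.2 ?_
        refine Subgroup.eq_of_le_of_card_ge ?_ (le_of_eq ?_)
        · rw [Subgroup.map_sup, sup_le_iff]
          constructor <;> rintro _ ⟨y, hy, rfl⟩
          exacts [h1 y hy, h2 y hy]
        · exact (Subgroup.card_map_of_injective (MulAut.conj x).injective).symm
      have hK' : K ≤ Subgroup.normalizer ((N1 ⊔ N2 : Subgroup G) : Set G) := fun x hx =>
        hgen x (fun y hy => Subgroup.mem_sup_left (hK1 x hx y hy))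
          (fun y hy => Subgroup.mem_sup_right (hK2 x hx y hy))
      have hO' : (o : G) ∈ Subgroup.normalizer ((N1 ⊔ N2 : Subgroup G) : Set G) :=
        hgen _ (fun y hy => Subgroup.mem_sup_right ⟨y, hy, rfl⟩) (fun y hy => Subgroup.mem_sup_left (ho12 y hy))
      refine eq_top_iff.2 fun x _ => ?_
      by_cases hx : x ∈ K
      · exact hK' hx
      · have : x * o ∈ K := (Subgroup.mul_mem_iff_of_index_two hKi).2
          ⟨fun h => absurd h hx, fun h => absurd h hoK⟩
        have := mul_mem (hK' this) (inv_mem hO')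
        simpa [mul_assoc] using this
    have hbot := D.nosol _ hnormal hsup
    rw [sup_eq_bot_iff] at hbot
    exact (Subgroup.map_eq_bot_iff_of_injective N (Subgroup.subtype_injective K)).1 hbot.1
  have hns : ¬ Group.IsSolvable K := fun h => D.h_ne (by
    have := D.nosol K hKn h
    rwa [this, Subgroup.mem_bot] at hhK)
  -- no subgroup of index two in `K`
  have no2 : ∀ L : Subgroup K, L.index ≠ 2 := by
    intro L hL
    set L1 : Subgroup G := L.map K.subtype with hL1
    have hLn := Subgroup.normal_of_index_eq_two hL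
    have hmem : ∀ x : G, ∀ hx : x ∈ K, x ∈ L1 ↔ (⟨x, hx⟩ : K) ∈ L := fun x hx =>
      Subgroup.mem_map_iff_mem (f := K.subtype) (Subgroup.subtype_injective K) (x := ⟨x, hx⟩)
    have hKconj : ∀ k ∈ K, ∀ x ∈ L1, k * x * k⁻¹ ∈ L1 := by
      rintro k hk _ ⟨x, hx, rfl⟩
      exact ⟨_, hLn.conj_mem x hx ⟨k, hk⟩, rfl⟩
    have hhL : ∀ g : G, g * D.h * g⁻¹ ∈ L1 := by
      intro g
      have hjK : (j : G) ∈ K := hHcK j (Or.inl hjA)
      have hgj : g * j * g⁻¹ ∈ K := hKn.conj_mem _ hjK g
      rw [← hj, show g * ((j : G) * j) * g⁻¹ = g * j * g⁻¹ * (g * j * g⁻¹) by group,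
        hmem _ (mul_mem hgj hgj)]
      exact Subgroup.mul_self_mem_of_index_two hL ⟨_, hgj⟩
    have hHL : ∀ x ∈ Hc, (x : G) ∈ L1 := by
      have hout : ∀ x : Subgroup.centralizer ({D.h} : Set G), x * x = 1 → (x : G) ∈ L1 := by
        intro x hx
        by_cases h : (x : G) = 1
        · rw [h]; exact one_mem _
        · obtain ⟨g, hg⟩ := (invG x (congrArg Subtype.val hx) h).2
          exact hg ▸ hhL g
      rintro x (hx | hx)
      · have h1 : t * x * (t * x) = 1 := by rw [← mul_assoc, hx.2, inv_mul_cancel]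
        have := mul_mem (hout t ht2) (hout _ h1)
        rwa [← Subgroup.coe_mul, ← mul_assoc, ht2, one_mul] at this
      · by_cases hxA : x ∈ A
        · exact absurd (show t ∈ A from by simpa [mul_assoc] using mul_mem hx (inv_mem hxA)) fun h => htn h.1
        · exact hout x (outHc x (Or.inr hx) hxA)
    have hPKL : (P : Subgroup G) ⊓ K ≤ L1 := fun x ⟨hxP, hxK⟩ =>
      hHL ⟨x, hPC hxP⟩ ((CK ⟨x, hPC hxP⟩).1 hxK)
    have h4 : L1.index = 4 := by
      rw [hL1, Subgroup.index_map_subtype, hL, hKi]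
    have hPK : ((P : Subgroup G) ⊓ K).index ∣ 2 * (P : Subgroup G).index := by
      have h := Subgroup.relIndex_mul_index (inf_le_left : (P : Subgroup G) ⊓ K ≤ P)
      rw [← h, Subgroup.inf_relIndex_left]
      refine Nat.mul_dvd_mul_right ?_ _
      have h := Subgroup.relIndex_dvd_index_of_normal K P
      rwa [hKi] at h
    have h' := Subgroup.index_dvd_of_le hPKL
    rw [h4] at h'
    have := h'.trans hPK
    have h2 : 2 ∣ (P : Subgroup G).index := Nat.dvd_of_mul_dvd_mul_left two_pos this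
    exact P.not_dvd_index h2
  -- recognition
  set HK : Subgroup K := HG.subgroupOf K with hHK
  set AK : Subgroup K := (A.map (Subgroup.centralizer ({D.h} : Set G)).subtype).subgroupOf K with hAK
  have memHK : ∀ y : Subgroup.centralizer ({D.h} : Set G), ∀ hy : (y : G) ∈ K, (⟨y, hy⟩ : K) ∈ HK ↔ y ∈ Hc :=
    fun y hy => by rw [hHK, Subgroup.mem_subgroupOf]; exact memHG y
  have memAK : ∀ y : Subgroup.centralizer ({D.h} : Set G), ∀ hy : (y : G) ∈ K, (⟨y, hy⟩ : K) ∈ AK ↔ y ∈ A :=
    fun y hy => by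
      rw [hAK, Subgroup.mem_subgroupOf]
      exact Subgroup.mem_map_iff_mem (Subgroup.subtype_injective _)
  have hlift : ∀ x ∈ HK, ∃ y : Subgroup.centralizer ({D.h} : Set G), (y : G) = (x : G) ∧ y ∈ Hc := by
    intro x hx
    rw [hHK, Subgroup.mem_subgroupOf] at hx
    obtain ⟨y, hy, hye⟩ := hx
    exact ⟨y, hye, hy⟩
  have hjK : (j : G) ∈ K := hHcK j (Or.inl hjA)
  set hK' : K := ⟨D.h, hhK⟩ with hhK'
  have hcentK : ∀ x : K, x ∈ HK ↔ x * hK' = hK' * x := by
    intro x
    constructor
    · intro hx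
      obtain ⟨y, hy, -⟩ := hlift x hx
      exact Subtype.ext (by simp only [Subgroup.coe_mul, hhK', ← hy]; exact D.comm y)
    · intro hx
      set y : Subgroup.centralizer ({D.h} : Set G) :=
        ⟨x, Subgroup.mem_centralizer_singleton_iff.2 (congrArg Subtype.val hx)⟩
      exact (memHK y x.2).2 ((CK y).1 x.2)
  obtain ⟨N, hN, hNcase, F', _, _, hF3, hiso⟩ := Cfsg.Agent.S3322.result HK AK (by
      refine lt_of_le_of_ne ?_ ?_
      · intro x hx
        rw [hAK, Subgroup.mem_subgroupOf] at hx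
        obtain ⟨y, hy, hye⟩ := hx
        rw [hHK, Subgroup.mem_subgroupOf]
        exact ⟨y, Or.inl hy, hye⟩
      · intro e
        exact htn ((memAK t htK).1 (e ▸ (memHK t htK).2 htHc)).1) (by
      intro x hx hxA
      obtain ⟨y, hy, hyH⟩ := hlift x hx
      have hyA : y ∉ A := fun h => hxA (by
        have := (memAK y (hy ▸ x.2)).2 h
        rwa [show (⟨y, hy ▸ x.2⟩ : K) = x from Subtype.ext hy] at this)
      exact Subtype.ext (by rw [pow_two, Subgroup.coe_mul, ← hy]; exact congrArg Subtype.val (outHc y hyH hyA))) (by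
      have h4 : orderOf (⟨j, hjK⟩ : K) = 4 := by
        have hj' : orderOf (j : G) = 2 ^ (1 + 1) := orderOf_eq_prime_pow (fun h => D.h_ne (by
          rw [pow_one, pow_two, hj] at h; exact h)) (by
          rw [show (2 : ℕ) ^ (1 + 1) = 2 * 2 by rfl, pow_mul, pow_two (j : G), hj, pow_two, D.h_sq])
        rw [← Subgroup.orderOf_coe]
        exact hj'
      rw [← h4]
      exact Subgroup.orderOf_dvd_natCard _ ((memHK j hjK).2 (Or.inl hjA))) (by
      intro x hx hx2 hxc
      obtain ⟨y, hy, hyH⟩ := hlift x hx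
      have hyy : y * y = 1 := Subtype.ext (by
        have := congrArg Subtype.val (pow_orderOf_eq_one x)
        rw [hx2, pow_two, Subgroup.coe_mul, ← hy] at this
        exact this)
      have hy1 : y ≠ 1 := fun e => by
        have : x = 1 := Subtype.ext (by rw [← hy, e]; rfl)
        rw [this, orderOf_one] at hx2; norm_num at hx2
      have hxh : x = hK' := by
        rcases hyH with h | h
        · rcases C1inv y h.1 hyy with e | e
          · exact absurd e hy1
          · exact Subtype.ext (by rw [← hy, e]; rfl)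
        · exfalso
          have hyj : j * y = y * j := Subtype.ext (by
            have := congrArg Subtype.val (hxc ⟨j, hjK⟩ ((memHK j hjK).2 (Or.inl hjA)))
            simpa [hy] using this)
          obtain ⟨a, ha, hya⟩ : ∃ a ∈ C1, y = t * a := ⟨t * y, h.1, by rw [← mul_assoc, ht2, one_mul]⟩
          rw [hya] at hyj
          have e1 : j⁻¹ * (t * a) = t * (j * a) := by
            rw [← hjA.2, show t * j * t * (t * a) = t * j * (t * t) * a by simp only [mul_assoc], ht2, mul_one,
              mul_assoc]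
          rw [C1comm _ hjT _ ha, ← mul_assoc t a j, ← hyj] at e1
          have : j⁻¹ = j := mul_right_cancel e1
          exact hhne (by rw [← hjj]; nth_rewrite 1 [← this]; rw [inv_mul_cancel])
      ext z
      rw [Subgroup.mem_centralizer_singleton_iff, hcentK, hxh]) hns
  have hNb : N = ⊥ := by
    refine noK N hN ?_
    rcases hNcase with h | ⟨m, hm, hcard⟩
    · exact Cfsg.Agent.S0205.result h
    · exact isSolvable_two_mul_odd hm hcard
  subst hNb
  obtain ⟨e⟩ : Nonempty (K ≃* Matrix.ProjectiveSpecialLinearGroup (Fin 2) F') := by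
    rcases hiso with ⟨⟨e⟩⟩ | ⟨⟨e⟩⟩
    · exact ⟨QuotientGroup.quotientBot.symm.trans e⟩
    · set e' : K ≃* Matrix.ProjGenLinGroup (Fin 2) F' := QuotientGroup.quotientBot.symm.trans e
      rcases Nat.even_or_odd (Fintype.card F') with he | hodd
      · exact ⟨e'.trans (MulEquiv.ofBijective (Matrix.ProjectiveSpecialLinearGroup.toPGL (n := Fin 2) (R := F'))
          ⟨Matrix.ProjectiveSpecialLinearGroup.toPGL_injective,
            MonoidHom.range_eq_top.1 (imL_eq_top he)⟩).symm⟩
      · exfalso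
        refine no2 ((imL F').comap e'.toMonoidHom) ?_
        rw [Subgroup.index_comap_of_surjective _ e'.surjective, imL_index hodd]
  -- the field has nine elements
  have h3fact : Fact (Nat.Prime 3) := ⟨Nat.prime_three⟩
  have cube : ∀ y : G, y ^ 3 = 1 → y ∈ K := fun y hy => by
    have : y = (y * y) * (y * y) := by
      rw [show (y * y) * (y * y) = y ^ 3 * y by simp [pow_succ, mul_assoc], hy, one_mul]
    rw [this]; exact mul_mem (Ksq _) (Ksq _)
  have hr1 : D.r ≠ 1 := fun h => D.r_notin (h ▸ one_mem _)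
  have hs1 : D.s ≠ 1 := fun h => D.s_notin (h ▸ one_mem _)
  set r' := e ⟨D.r, cube _ D.r_three⟩ with hr'
  set s' := e ⟨D.s, cube _ D.s_three⟩ with hs'
  have hr3 : orderOf r' = 3 := by
    rw [hr', MulEquiv.orderOf_eq, ← Subgroup.orderOf_coe]; exact orderOf_eq_prime D.r_three hr1
  have hs3 : orderOf s' = 3 := by
    rw [hs', MulEquiv.orderOf_eq, ← Subgroup.orderOf_coe]; exact orderOf_eq_prime D.s_three hs1
  have hq3 : 3 ∣ Fintype.card F' := by
    by_contra h3
    obtain ⟨Z, hZc, hZ⟩ := CfsgLib.Recog.SuborbitThree.exists_cyclic_odd_psl r' (by rwa [hr3])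
    have hrs : Commute s' r' := by
      rw [hr', hs']; exact (Commute.map (Subtype.ext D.r_s.symm : Commute (⟨D.s, _⟩ : K) ⟨D.r, _⟩) e)
    have hrZ : r' ∈ Z := hZ r' (Commute.refl _) (by rw [hr3]; decide)
    have hsZ : s' ∈ Z := hZ s' hrs (by rw [hs3]; decide)
    have := Fintype.ofFinite Z
    have heq : Subgroup.zpowers (⟨r', hrZ⟩ : Z) = Subgroup.zpowers ⟨s', hsZ⟩ := by
      classical
      set a : Z := ⟨r', hrZ⟩
      set b : Z := ⟨s', hsZ⟩
      have ha : orderOf a = 3 := by rw [Subgroup.orderOf_mk, hr3]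
      have hb : orderOf b = 3 := by rw [Subgroup.orderOf_mk, hs3]
      have key : ∀ x y : Z, orderOf x = 3 → orderOf y = 3 → Subgroup.zpowers x ≤ Subgroup.zpowers y := by
        intro x y hx hy
        rw [Subgroup.zpowers_le]
        by_contra hxy
        have hy1 : y ≠ 1 := fun h => by rw [h, orderOf_one] at hy; omega
        have h2y : y ^ 2 ≠ 1 := fun h => by
          have := orderOf_dvd_of_pow_eq_one h
          rw [hy] at this; norm_num at this
        have hne : y ^ 2 ≠ y := fun h => hy1 (by rwa [pow_two, mul_eq_left] at h)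
        have hy3 : y ^ 3 = 1 := hy ▸ pow_orderOf_eq_one y
        have hsub : ({x, 1, y, y ^ 2} : Finset Z) ⊆ Finset.univ.filter fun z : Z => z ^ 3 = 1 := by
          intro z hz
          simp only [Finset.mem_insert, Finset.mem_singleton] at hz
          refine Finset.mem_filter.2 ⟨Finset.mem_univ _, ?_⟩
          rcases hz with rfl | rfl | rfl | rfl
          · exact hx ▸ pow_orderOf_eq_one z
          · exact one_pow 3
          · exact hy3
          · rw [← pow_mul, show 2 * 3 = 3 * 2 from rfl, pow_mul, hy3, one_pow]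
        have hc : ({x, 1, y, y ^ 2} : Finset Z).card = 4 := by
          rw [Finset.card_insert_of_notMem, Finset.card_insert_of_notMem, Finset.card_insert_of_notMem,
            Finset.card_singleton]
          · simp [hne.symm]
          · simp [hy1.symm, h2y.symm]
          · simp only [Finset.mem_insert, Finset.mem_singleton, not_or]
            exact ⟨fun h => hxy (h ▸ one_mem _), fun h => hxy (h ▸ Subgroup.mem_zpowers y),
              fun h => hxy (h ▸ pow_mem (Subgroup.mem_zpowers y) 2)⟩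
        have := (Finset.card_le_card hsub).trans (IsCyclic.card_pow_eq_one_le (α := Z) (by norm_num : 0 < 3))
        omega
      exact le_antisymm (key a b ha hb) (key b a hb ha)
    obtain ⟨i, hi⟩ := Subgroup.mem_zpowers_iff.1 (heq ▸ Subgroup.mem_zpowers (⟨r', hrZ⟩ : Z))
    have hi' : s' ^ i = r' := congrArg Subtype.val hi
    rw [hr', hs', ← map_zpow, e.injective.eq_iff] at hi'
    exact D.r_notin ⟨i, congrArg Subtype.val hi'⟩
  have h4le : 4 ≤ Fintype.card F' := hF3
  obtain ⟨hcard_r, hcomm_r⟩ := centralizer_three hq3 h4le hr3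
  have hq9 : Fintype.card F' ≤ 9 := by
    rw [← hcard_r]
    have hsub : ∀ x ∈ Subgroup.centralizer ({r'} : Set _), ∃ i k : Fin 3, x = r' ^ (i : ℕ) * s' ^ (k : ℕ) := by
      intro x hx
      obtain ⟨⟨y, hyK⟩, rfl⟩ := e.surjective x
      have hx' := Subgroup.mem_centralizer_singleton_iff.1 hx
      have hsr : s' * r' = r' * s' := by
        rw [hr', hs', ← map_mul, ← map_mul]; exact congrArg e (Subtype.ext D.r_s.symm)
      have h1 := congrArg Subtype.val (e.injective (((map_mul e _ _).trans hx').trans (map_mul e _ _).symm))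
      have h2 := congrArg Subtype.val (e.injective (((map_mul e _ _).trans (hcomm_r _ s' hx' hsr)).trans
        (map_mul e _ _).symm))
      obtain ⟨a, b, ha, hb, hab⟩ := D.self_cent y h1 h2
      refine ⟨⟨a, ha⟩, ⟨b, hb⟩, ?_⟩
      rw [hr', hs', ← map_pow, ← map_pow, ← map_mul]
      exact congrArg e (Subtype.ext (by simpa using hab))
    choose fi fk hf using hsub
    have hinj : Function.Injective fun x : Subgroup.centralizer ({r'} : Set _) => (fi x x.2, fk x x.2) :=
      fun a b h => Subtype.ext (by simp only [Prod.mk.injEq] at h; rw [hf a a.2, hf b b.2, h.1, h.2])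
    have := Nat.card_le_card_of_injective _ hinj
    rwa [Nat.card_prod, Nat.card_eq_fintype_card (α := Fin 3), Fintype.card_fin] at this
  have hq : Fintype.card F' = 9 := by
    obtain ⟨c, hc'⟩ := CharP.exists F'
    obtain ⟨n, hcp, hn⟩ := FiniteField.card F' c
    have hc3 : c = 3 := ((Nat.prime_dvd_prime_iff_eq Nat.prime_three hcp).1
      (Nat.prime_three.dvd_of_dvd_pow (hn ▸ hq3))).symm
    rw [hc3] at hn
    have h3n : (n : ℕ) ≤ 2 := by
      by_contra hlt
      have : 3 ^ 3 ≤ 3 ^ (n : ℕ) := Nat.pow_le_pow_right (by norm_num) (by omega)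
      omega
    have := n.pos
    interval_cases hh : (n : ℕ) <;> omega
  have hcardK : Nat.card K = 360 := by
    rw [Nat.card_congr e.toEquiv, CfsgLib.Classical.card_psl_two_eq (F := F') hq 360 (by norm_num)]
  have hcardG : Nat.card G = 720 := by
    rw [← K.index_mul_card, hKi, hcardK]
  -- the centraliser of the involution has order sixteen
  have hC16 : Nat.card (Subgroup.centralizer ({D.h} : Set G)) = 16 := by
    have hh2 : orderOf (e hK') = 2 := by
      rw [MulEquiv.orderOf_eq, ← Subgroup.orderOf_coe]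
      exact orderOf_eq_prime (by rw [pow_two, D.h_sq]) D.h_ne
    have hHcard : Nat.card Hc = Nat.card (Subgroup.centralizer ({e hK'} : Set _)) := by
      refine Nat.card_congr (Equiv.ofBijective (fun y => ⟨e ⟨_, hHcK y.1 y.2⟩, ?_⟩) ⟨?_, ?_⟩)
      · rw [Subgroup.mem_centralizer_singleton_iff, ← map_mul, ← map_mul]
        exact congrArg e ((hcentK _).1 ((memHK y.1 _).2 y.2))
      · intro a b h
        exact Subtype.ext (Subtype.ext (congrArg (fun z : K => (z : G)) (e.injective (congrArg Subtype.val h))))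
      · rintro ⟨x, hx⟩
        obtain ⟨z, rfl⟩ := e.surjective x
        rw [Subgroup.mem_centralizer_singleton_iff, ← map_mul, ← map_mul, e.injective.eq_iff, ← hcentK] at hx
        obtain ⟨y, hy, hyH⟩ := hlift z hx
        exact ⟨⟨y, hyH⟩, Subtype.ext (congrArg e (Subtype.ext hy))⟩
    have h4 : 4 ∣ Nat.card Hc := by
      have hj4 : orderOf j = 2 ^ (1 + 1) := orderOf_eq_prime_pow (fun h => hhne (by
        rw [pow_one, pow_two, hjj] at h; exact h)) (by
        rw [show (2 : ℕ) ^ (1 + 1) = 2 * 2 by rfl, pow_mul, pow_two j, hjj, pow_two, hh1])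
      have h := Subgroup.orderOf_dvd_natCard Hc (Or.inl hjA : j ∈ Hc)
      rwa [hj4] at h
    rw [← Hc.index_mul_card, hHc2]
    rcases CfsgLib.Recog.SuborbitThree.card_centralizer_involution_psl (F := F') (by rw [hq]; decide)
      (by omega) hh2 with h | h <;> rw [hq] at h <;> omega
  -- an element of order five
  have : Fact (Nat.Prime 5) := ⟨by norm_num⟩
  obtain ⟨x, hx⟩ := exists_prime_orderOf_dvd_card' (G := G) 5 (by rw [hcardG]; norm_num)
  have hx5 : x ^ 5 = 1 := hx ▸ pow_orderOf_eq_one x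
  have hxK : x ∈ K := by
    have : x = x ^ 3 * x ^ 3 := by
      rw [← pow_add, show 3 + 3 = 5 + 1 by rfl, pow_add, hx5, pow_one, one_mul]
    rw [this]; exact Ksq _
  have hC5 : Subgroup.centralizer ({x} : Set G) = Subgroup.zpowers x := by
    refine (Subgroup.eq_of_le_of_card_ge (Subgroup.zpowers_le.2 (Subgroup.mem_centralizer_singleton_iff.2 rfl)) ?_).symm
    rw [Nat.card_zpowers, hx]
    have hdvd := Subgroup.card_subgroup_dvd_card (Subgroup.centralizer ({x} : Set G))
    rw [hcardG] at hdvd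
    have hno2 : ¬ 2 ∣ Nat.card (Subgroup.centralizer ({x} : Set G)) := by
      intro h
      obtain ⟨⟨i, hi⟩, hi2⟩ := exists_prime_orderOf_dvd_card' 2 h
      rw [← Subgroup.orderOf_coe] at hi2
      obtain ⟨-, g, hg⟩ := invG i (by rw [← pow_two]; exact hi2 ▸ pow_orderOf_eq_one i)
        (fun h1 => by
          simp only [] at hi2
          rw [h1, orderOf_one] at hi2; norm_num at hi2)
      have hix := Subgroup.mem_centralizer_singleton_iff.1 hi
      have : g⁻¹ * x * g ∈ Subgroup.centralizer ({D.h} : Set G) := Subgroup.mem_centralizer_singleton_iff.2 (by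
        have := congrArg (fun z => g⁻¹ * z * g) hix
        rw [← hg] at this
        simpa [mul_assoc] using this.symm)
      have h5 := Subgroup.orderOf_dvd_natCard _ this
      rw [hC16, show g⁻¹ * x * g = MulAut.conj g⁻¹ x by simp, MulEquiv.orderOf_eq, hx] at h5
      norm_num at h5
    have hno3 : ¬ 3 ∣ Nat.card (Subgroup.centralizer ({x} : Set G)) := by
      intro h
      obtain ⟨⟨y, hy⟩, hy3⟩ := exists_prime_orderOf_dvd_card' 3 h
      rw [← Subgroup.orderOf_coe] at hy3
      simp only at hy3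
      have hyK := cube y (hy3 ▸ pow_orderOf_eq_one y)
      obtain ⟨hc9, -⟩ := centralizer_three hq3 h4le (g := e ⟨y, hyK⟩) (by
        rw [MulEquiv.orderOf_eq, ← Subgroup.orderOf_coe]; exact hy3)
      have hmem : e ⟨x, hxK⟩ ∈ Subgroup.centralizer ({e ⟨y, hyK⟩} : Set _) := by
        rw [Subgroup.mem_centralizer_singleton_iff, ← map_mul, ← map_mul]
        exact congrArg e (Subtype.ext (Subgroup.mem_centralizer_singleton_iff.1 hy).symm)
      have h5 := Subgroup.orderOf_dvd_natCard _ hmem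
      rw [hc9, hq, MulEquiv.orderOf_eq, ← Subgroup.orderOf_coe] at h5
      simp only at h5
      rw [hx] at h5; norm_num at h5
    have hcop : Nat.Coprime (Nat.card (Subgroup.centralizer ({x} : Set G))) 144 := by
      have h144 : (144 : ℕ) = 2 ^ 4 * 3 ^ 2 := by norm_num
      rw [h144]
      exact Nat.Coprime.mul_right
        (Nat.Coprime.pow_right 4 ((Nat.prime_two.coprime_iff_not_dvd.2 hno2).symm))
        (Nat.Coprime.pow_right 2 ((Nat.prime_three.coprime_iff_not_dvd.2 hno3).symm))
    exact Nat.le_of_dvd (by norm_num) (hcop.dvd_of_dvd_mul_right (show _ ∣ 5 * 144 by simpa using hdvd))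
  obtain ⟨g, hg⟩ := exists_conj_sq (m := 144) (by rw [hcardG]) (by norm_num)
    (fun n e h he hn => by interval_cases e <;> omega) hx hC5
  exact hfive x g hx5 (fun h => by rw [h, orderOf_one] at hx; norm_num at hx) hg

include D in
theorem false_of_obstructions (hfive : ∀ x g : G, x ^ 5 = 1 → x ≠ 1 → g * x * g⁻¹ = x ^ 2 → False)
    (hnine : ∀ a b d e : G, a ^ 3 = 1 → b ^ 3 = 1 → a * b = b * a → a ≠ 1 → b ≠ 1 → b ≠ a → b ≠ a⁻¹ →
      d * a * d⁻¹ = a⁻¹ → d * b * d⁻¹ = b → e * b * e⁻¹ = b⁻¹ → False) : False := by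
  obtain ⟨t, g, htg, -, hcase⟩ := D.exists_other
  cases hcase with
  | octa e ha hb hc => exact D.octa_contra hfive hnine htg e ha hb hc
  | pair T hcyc hcomm hone hout hprod hc => exact D.pair_contra hfive htg T hcyc hone hout hprod hc

end Shape

end CfsgLib.MaxSub.SlThree.Extra
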