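import Cfsg.Agent.Lib.MaxSub.SlThree.Basic

/-!
The extraspecial group of order `27` in `SL₃(F)`: coordinates.

`w` is a primitive cube root of unity, `dG = diag(1, w, w²)`, `shG` the cyclic shift; `heis` is the group
they generate, obtained as the elements of `SL₃` commuting with both up to scalars.  `hG`, `q1G`, `q2G`
are the elements of the normaliser giving the quaternion group.
-/

set_option autoImplicit false
set_option linter.unusedSectionVars false
set_option linter.unusedSimpArgs false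
set_option linter.unreachableTactic false
set_option linter.unusedTactic false

namespace CfsgLib.MaxSub.SlThree.Extra

open Matrix
open scoped MatrixGroups

variable {F : Type*} [Field F]

/-- `w` is a primitive cube root of unity, in odd characteristic other than three. -/
structure Root (w : F) : Prop where
  eq : w * w + w + 1 = 0
  three : (3 : F) ≠ 0
  two : (2 : F) ≠ 0

namespace Root

variable {w : F} (hw : Root w)
include hw

theorem ne_zero : w ≠ 0 := fun h => by have := hw.eq; rw [h] at this; simp at this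

theorem cube : w * (w * w) = 1 := by linear_combination (w - 1) * hw.eq

theorem pow_three : w ^ 3 = 1 := by linear_combination (w - 1) * hw.eq

theorem ne_one : w ≠ 1 := fun h => hw.three (by have := hw.eq; rw [h] at this; linear_combination this)

theorem sq_ne_one : w * w ≠ 1 := fun h => hw.ne_one (by
  linear_combination hw.cube - w * h)

theorem sq_ne_self : w * w ≠ w := fun h => hw.ne_one (mul_left_cancel₀ hw.ne_zero (by rw [h, mul_one]))

theorem cases_of_cube {x : F} (h : x ^ 3 = 1) : x = 1 ∨ x = w ∨ x = w * w := by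
  have : (x - 1) * ((x - w) * (x - w * w)) = 0 := by
    linear_combination h + (-(x * x) + x * w + 1 - w) * hw.eq
  rcases mul_eq_zero.1 this with h1 | h1
  · exact Or.inl (sub_eq_zero.1 h1)
  rcases mul_eq_zero.1 h1 with h2 | h2
  · exact Or.inr (Or.inl (sub_eq_zero.1 h2))
  · exact Or.inr (Or.inr (sub_eq_zero.1 h2))

theorem diag : (!![1, 0, 0; 0, w, 0; 0, 0, w * w] : Matrix (Fin 3) (Fin 3) F) *
    !![1, 0, 0; 0, w * w, 0; 0, 0, w] = 1 ∧
    (!![1, 0, 0; 0, w * w, 0; 0, 0, w] : Matrix (Fin 3) (Fin 3) F) * !![1, 0, 0; 0, w, 0; 0, 0, w * w] = 1 := by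
  have := hw.eq
  constructor <;> ext i j <;> fin_cases i <;> fin_cases j <;>
    simp [Matrix.mul_apply, Fin.sum_univ_three] <;> grind

theorem twist : (!![1, 0, 0; 0, w, 0; 0, 0, w] : Matrix (Fin 3) (Fin 3) F) *
    !![1, 0, 0; 0, w * w, 0; 0, 0, w * w] = 1 ∧
    (!![1, 0, 0; 0, w * w, 0; 0, 0, w * w] : Matrix (Fin 3) (Fin 3) F) * !![1, 0, 0; 0, w, 0; 0, 0, w] = 1 := by
  have := hw.eq
  constructor <;> ext i j <;> fin_cases i <;> fin_cases j <;>
    simp [Matrix.mul_apply, Fin.sum_univ_three] <;> grind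

theorem fourier : ((-(w - w * w) / 3) • (!![1, 1, 1; 1, w, w * w; 1, w * w, w] : Matrix (Fin 3) (Fin 3) F)) *
    ((w - w * w) / 3) • !![1, 1, 1; 1, w * w, w; 1, w, w * w] = 1 ∧
    (((w - w * w) / 3) • (!![1, 1, 1; 1, w * w, w; 1, w, w * w] : Matrix (Fin 3) (Fin 3) F)) *
    (-(w - w * w) / 3) • !![1, 1, 1; 1, w, w * w; 1, w * w, w] = 1 := by
  have := hw.eq
  have := hw.three
  constructor <;> ext i j <;> fin_cases i <;> fin_cases j <;>
    simp [Matrix.mul_apply, Fin.sum_univ_three] <;> grind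

end Root

variable {w : F}

/-- `diag(1, w, w²)` -/
def dG (hw : Root w) : GL (Fin 3) F :=
  ⟨!![1, 0, 0; 0, w, 0; 0, 0, w * w], !![1, 0, 0; 0, w * w, 0; 0, 0, w], hw.diag.1, hw.diag.2⟩

/-- The cyclic shift. -/
def shG : GL (Fin 3) F :=
  ⟨!![0, 0, 1; 1, 0, 0; 0, 1, 0], !![0, 1, 0; 0, 0, 1; 1, 0, 0],
    by ext i j; fin_cases i <;> fin_cases j <;> simp [Matrix.mul_apply, Fin.sum_univ_three],
    by ext i j; fin_cases i <;> fin_cases j <;> simp [Matrix.mul_apply, Fin.sum_univ_three]⟩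

/-- `diag(1, w, w)` -/
def twG (hw : Root w) : GL (Fin 3) F :=
  ⟨!![1, 0, 0; 0, w, 0; 0, 0, w], !![1, 0, 0; 0, w * w, 0; 0, 0, w * w], hw.twist.1, hw.twist.2⟩

/-- The involution inverting the group of order nine. -/
def hG : GL (Fin 3) F :=
  ⟨!![-1, 0, 0; 0, 0, -1; 0, -1, 0], !![-1, 0, 0; 0, 0, -1; 0, -1, 0],
    by ext i j; fin_cases i <;> fin_cases j <;> simp [Matrix.mul_apply, Fin.sum_univ_three],
    by ext i j; fin_cases i <;> fin_cases j <;> simp [Matrix.mul_apply, Fin.sum_univ_three]⟩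

/-- The normalised Fourier matrix. -/
def q1G (hw : Root w) : GL (Fin 3) F :=
  ⟨(-(w - w * w) / 3) • !![1, 1, 1; 1, w, w * w; 1, w * w, w],
    ((w - w * w) / 3) • !![1, 1, 1; 1, w * w, w; 1, w, w * w], hw.fourier.1, hw.fourier.2⟩

/-- Its conjugate by `diag(1, w, w)`. -/
def q2G (hw : Root w) : GL (Fin 3) F := twG hw * q1G hw * (twG hw)⁻¹

variable (hw : Root w)

theorem coe_dG : (dG hw : Matrix (Fin 3) (Fin 3) F) = !![1, 0, 0; 0, w, 0; 0, 0, w * w] := rfl
theorem coe_shG : ((shG : GL (Fin 3) F) : Matrix (Fin 3) (Fin 3) F) = !![0, 0, 1; 1, 0, 0; 0, 1, 0] := rfl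
theorem coe_twG : (twG hw : Matrix (Fin 3) (Fin 3) F) = !![1, 0, 0; 0, w, 0; 0, 0, w] := rfl
theorem coe_hG : ((hG : GL (Fin 3) F) : Matrix (Fin 3) (Fin 3) F) = !![-1, 0, 0; 0, 0, -1; 0, -1, 0] := rfl
theorem coe_q1G : (q1G hw : Matrix (Fin 3) (Fin 3) F) =
    (-(w - w * w) / 3) • !![1, 1, 1; 1, w, w * w; 1, w * w, w] := rfl

theorem coe_q2G : (q2G hw : Matrix (Fin 3) (Fin 3) F) =
    (-(w - w * w) / 3) • !![1, w * w, w * w; w, w, w * w; w, w * w, w] := by
  show (twG hw : Matrix (Fin 3) (Fin 3) F) * (q1G hw : Matrix (Fin 3) (Fin 3) F) *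
    !![1, 0, 0; 0, w * w, 0; 0, 0, w * w] = _
  rw [coe_twG, coe_q1G]
  have := hw.eq
  ext i j
  fin_cases i <;> fin_cases j <;> simp [Matrix.mul_apply, Fin.sum_univ_three] <;> grind

theorem hG_mul_hG : (hG * hG : GL (Fin 3) F) = 1 := by
  refine Units.ext ?_
  rw [Units.val_mul, coe_hG, Units.val_one]
  ext i j; fin_cases i <;> fin_cases j <;> simp [Matrix.mul_apply, Fin.sum_univ_three]

theorem hG_inv : (hG⁻¹ : GL (Fin 3) F) = hG := inv_eq_of_mul_eq_one_right hG_mul_hG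

theorem q1G_sq : q1G hw * q1G hw = hG := by
  have := hw.eq
  have := hw.three
  refine Units.ext ?_
  rw [Units.val_mul, coe_q1G, coe_hG]
  ext i j; fin_cases i <;> fin_cases j <;> simp [Matrix.mul_apply, Fin.sum_univ_three] <;> grind

theorem hG_commute_twG : Commute hG (twG hw) := by
  refine Units.ext ?_
  rw [Units.val_mul, Units.val_mul, coe_hG, coe_twG]
  ext i j; fin_cases i <;> fin_cases j <;> simp [Matrix.mul_apply, Fin.sum_univ_three]

theorem q2G_sq : q2G hw * q2G hw = hG := by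
  rw [q2G, conj_mul, q1G_sq, ← (hG_commute_twG hw).eq, mul_inv_cancel_right]

theorem q2G_mul_q1G : q2G hw * q1G hw = hG * (q1G hw * q2G hw) := by
  have := hw.eq
  have := hw.three
  refine Units.ext ?_
  simp only [Units.val_mul, coe_hG, coe_q1G, coe_q2G]
  ext i j; fin_cases i <;> fin_cases j <;> simp [Matrix.mul_apply, Fin.sum_univ_three] <;> grind

/-! ### Elements commuting with both generators up to scalars -/

/-- Scalar multiples. -/
def Prop' (a b : GL (Fin 3) F) : Prop :=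
  ∃ c : F, (a : Matrix (Fin 3) (Fin 3) F) = c • (b : Matrix (Fin 3) (Fin 3) F)

theorem Prop'.refl (a : GL (Fin 3) F) : Prop' a a := ⟨1, (one_smul _ _).symm⟩

theorem Prop'.mul {a b c d : GL (Fin 3) F} (h : Prop' a b) (h' : Prop' c d) : Prop' (a * c) (b * d) := by
  obtain ⟨x, hx⟩ := h
  obtain ⟨y, hy⟩ := h'
  exact ⟨x * y, by rw [Units.val_mul, Units.val_mul, hx, hy, Matrix.smul_mul, Matrix.mul_smul, smul_smul]⟩

theorem Prop'.trans {a b c : GL (Fin 3) F} (h : Prop' a b) (h' : Prop' b c) : Prop' a c := by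
  obtain ⟨x, hx⟩ := h
  obtain ⟨y, hy⟩ := h'
  exact ⟨x * y, by rw [hx, hy, smul_smul]⟩

theorem Prop'.ne_zero {a b : GL (Fin 3) F} {c : F}
    (h : (a : Matrix (Fin 3) (Fin 3) F) = c • (b : Matrix (Fin 3) (Fin 3) F)) : c ≠ 0 := by
  rintro rfl
  rw [zero_smul] at h
  exact a.ne_zero h

theorem Prop'.symm {a b : GL (Fin 3) F} (h : Prop' a b) : Prop' b a := by
  obtain ⟨x, hx⟩ := h
  exact ⟨x⁻¹, by rw [hx, smul_smul, inv_mul_cancel₀ (Prop'.ne_zero hx), one_smul]⟩

theorem Prop'.conj {a b : GL (Fin 3) F} (h : Prop' a b) (g : GL (Fin 3) F) :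
    Prop' (g * a * g⁻¹) (g * b * g⁻¹) := ((Prop'.refl g).mul h).mul (Prop'.refl g⁻¹)

/-- The elements commuting with `dG` and `shG` up to scalars. -/
def heisC : Subgroup (GL (Fin 3) F) where
  carrier := {g | Prop' (g * dG hw * g⁻¹) (dG hw) ∧ Prop' (g * shG * g⁻¹) shG}
  one_mem' := ⟨by simpa using Prop'.refl _, by simpa using Prop'.refl _⟩
  mul_mem' := by
    rintro a b ⟨ha, ha'⟩ ⟨hb, hb'⟩
    refine ⟨?_, ?_⟩
    · rw [show a * b * dG hw * (a * b)⁻¹ = a * (b * dG hw * b⁻¹) * a⁻¹ by group]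
      exact (hb.conj a).trans ha
    · rw [show a * b * shG * (a * b)⁻¹ = a * (b * shG * b⁻¹) * a⁻¹ by group]
      exact (hb'.conj a).trans ha'
  inv_mem' := by
    rintro a ⟨ha, ha'⟩
    refine ⟨?_, ?_⟩
    · have := (ha.conj a⁻¹).symm
      rwa [show a⁻¹ * (a * dG hw * a⁻¹) * a⁻¹⁻¹ = dG hw by group] at this
    · have := (ha'.conj a⁻¹).symm
      rwa [show a⁻¹ * (a * shG * a⁻¹) * a⁻¹⁻¹ = shG by group] at this

theorem mem_heisC {g : GL (Fin 3) F} :
    g ∈ heisC hw ↔ Prop' (g * dG hw * g⁻¹) (dG hw) ∧ Prop' (g * shG * g⁻¹) shG := Iff.rfl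

/-- The extraspecial group of order `27`. -/
def heis : Subgroup (GL (Fin 3) F) := heisC hw ⊓ Cfsg.Geo.specialLinear (Fin 3) F

theorem mem_sl {g : GL (Fin 3) F} :
    g ∈ Cfsg.Geo.specialLinear (Fin 3) F ↔ (g : Matrix (Fin 3) (Fin 3) F).det = 1 := by
  rw [Cfsg.Geo.specialLinear, MonoidHom.mem_ker, Units.ext_iff, GeneralLinearGroup.val_det_apply, Units.val_one]

theorem dG_mem_sl : dG hw ∈ Cfsg.Geo.specialLinear (Fin 3) F := by
  rw [mem_sl, coe_dG]
  simp [Matrix.det_fin_three]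
  linear_combination hw.pow_three

theorem shG_mem_sl : (shG : GL (Fin 3) F) ∈ Cfsg.Geo.specialLinear (Fin 3) F := by
  rw [mem_sl, coe_shG]; simp [Matrix.det_fin_three]

theorem hG_mem_sl : (hG : GL (Fin 3) F) ∈ Cfsg.Geo.specialLinear (Fin 3) F := by
  rw [mem_sl, coe_hG]; simp [Matrix.det_fin_three]

theorem q1G_mem_sl : q1G hw ∈ Cfsg.Geo.specialLinear (Fin 3) F := by
  have := hw.eq
  have := hw.three
  rw [mem_sl, coe_q1G]
  simp [Matrix.det_fin_three]
  grind

theorem q2G_mem_sl : q2G hw ∈ Cfsg.Geo.specialLinear (Fin 3) F := by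
  have h := q1G_mem_sl hw
  unfold q2G
  exact (MonoidHom.normal_ker _).conj_mem _ h _

theorem d_sh : Prop' (shG * dG hw * shG⁻¹) (dG hw) ∧ Prop' (dG hw * shG * (dG hw)⁻¹) shG := by
  have := hw.eq
  constructor
  · refine ⟨w * w, ?_⟩
    show !![0, 0, 1; 1, 0, 0; 0, 1, 0] * !![1, 0, 0; 0, w, 0; 0, 0, w * w] *
      !![0, 1, 0; 0, 0, 1; 1, 0, 0] = (w * w) • !![1, 0, 0; 0, w, 0; 0, 0, w * w]
    ext i j; fin_cases i <;> fin_cases j <;> simp [Matrix.mul_apply, Fin.sum_univ_three] <;> grind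
  · refine ⟨w, ?_⟩
    show !![1, 0, 0; 0, w, 0; 0, 0, w * w] * !![0, 0, 1; 1, 0, 0; 0, 1, 0] *
      !![1, 0, 0; 0, w * w, 0; 0, 0, w] = w • !![0, 0, 1; 1, 0, 0; 0, 1, 0]
    ext i j; fin_cases i <;> fin_cases j <;> simp [Matrix.mul_apply, Fin.sum_univ_three] <;> grind

theorem dG_mem : dG hw ∈ heis hw :=
  ⟨⟨by simpa using Prop'.refl _, (d_sh hw).2⟩, dG_mem_sl hw⟩

theorem shG_mem : shG ∈ heis hw :=
  ⟨⟨(d_sh hw).1, by simpa using Prop'.refl _⟩, shG_mem_sl⟩

/-- Scalars. -/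
def scG (c : Fˣ) : GL (Fin 3) F := Units.map (Matrix.scalar (Fin 3)).toMonoidHom c

theorem coe_scG (c : Fˣ) : (scG c : Matrix (Fin 3) (Fin 3) F) = (c : F) • 1 := by
  show Matrix.scalar (Fin 3) (c : F) = _
  rw [Matrix.scalar_apply, ← Matrix.smul_one_eq_diagonal]

theorem scG_commute (c : Fˣ) (g : GL (Fin 3) F) : Commute (scG c) g :=
  Units.ext (by simp [coe_scG])

theorem scG_mem_heisC (c : Fˣ) : scG c ∈ heisC hw := by
  constructor <;> rw [(scG_commute c _).eq, mul_inv_cancel_right] <;> exact Prop'.refl _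

/-- Commuting with `dG` up to a scalar which is one: diagonal. -/
theorem diag_of_commute {g : GL (Fin 3) F}
    (h : (g : Matrix (Fin 3) (Fin 3) F) * (dG hw : Matrix (Fin 3) (Fin 3) F) =
      (dG hw : Matrix (Fin 3) (Fin 3) F) * (g : Matrix (Fin 3) (Fin 3) F)) :
    ∀ i j, i ≠ j → (g : Matrix (Fin 3) (Fin 3) F) i j = 0 := by
  intro i j hij
  have := hw.ne_one; have := hw.sq_ne_one; have := hw.sq_ne_self
  have he := congrFun (congrFun h i) j
  rw [coe_dG] at he
  fin_cases i <;> fin_cases j <;>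
    simp [Matrix.mul_apply, Fin.sum_univ_three] at hij he ⊢ <;> grind

/-- A scalar commutator with `dG` is a cube root of unity. -/
theorem scalar_dG {g : GL (Fin 3) F} {c : F}
    (h : ((g * dG hw * g⁻¹ : GL (Fin 3) F) : Matrix (Fin 3) (Fin 3) F) = c • (dG hw : Matrix (Fin 3) (Fin 3) F)) :
    c = 1 ∨ c = w ∨ c = w * w := by
  refine hw.cases_of_cube ?_
  have hd := congrArg Matrix.det h
  rw [Matrix.det_smul, (mem_sl.1 (dG_mem_sl hw) : _), mul_one,
    mem_sl.1 ((MonoidHom.normal_ker _).conj_mem _ (dG_mem_sl hw) g : g * dG hw * g⁻¹ ∈ _)] at hd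
  simpa using hd.symm

theorem shG_conj_dG : ((shG * dG hw * shG⁻¹ : GL (Fin 3) F) : Matrix (Fin 3) (Fin 3) F) =
    (w * w) • (dG hw : Matrix (Fin 3) (Fin 3) F) := by
  have := hw.eq
  show !![0, 0, 1; 1, 0, 0; 0, 1, 0] * !![1, 0, 0; 0, w, 0; 0, 0, w * w] *
      !![0, 1, 0; 0, 0, 1; 1, 0, 0] = (w * w) • !![1, 0, 0; 0, w, 0; 0, 0, w * w]
  ext i j; fin_cases i <;> fin_cases j <;> simp [Matrix.mul_apply, Fin.sum_univ_three] <;> grind

/-- An element preserving `dG` up to a scalar is diagonal times a power of the shift. -/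
theorem exists_shift {g : GL (Fin 3) F} (h : Prop' (g * dG hw * g⁻¹) (dG hw)) :
    ∃ k : ℕ, ∀ i j, i ≠ j → ((g * shG ^ k : GL (Fin 3) F) : Matrix (Fin 3) (Fin 3) F) i j = 0 := by
  obtain ⟨c, hc⟩ := h
  -- the effect of a power of the shift
  have hpow : ∀ k : ℕ, ((shG ^ k * dG hw * (shG ^ k)⁻¹ : GL (Fin 3) F) : Matrix (Fin 3) (Fin 3) F) =
      (w * w) ^ k • (dG hw : Matrix (Fin 3) (Fin 3) F) := by
    intro k
    induction k with
    | zero => simp
    | succ k ih =>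
      rw [show shG ^ (k + 1) * dG hw * (shG ^ (k + 1))⁻¹ =
        shG ^ k * (shG * dG hw * shG⁻¹) * (shG ^ k)⁻¹ by rw [pow_succ]; group]
      rw [Units.val_mul, Units.val_mul, shG_conj_dG, Matrix.mul_smul, Matrix.smul_mul,
        ← Units.val_mul, ← Units.val_mul, ih, smul_smul, ← pow_succ']
  obtain ⟨k, hk⟩ : ∃ k : ℕ, c * (w * w) ^ k = 1 := by
    rcases scalar_dG hw hc with rfl | rfl | rfl
    exacts [⟨0, by simp⟩, ⟨1, by linear_combination hw.pow_three⟩,
      ⟨2, by linear_combination (w ^ 3 + 1) * hw.pow_three⟩]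
  refine ⟨k, diag_of_commute hw ?_⟩
  have he : g * shG ^ k * dG hw * (g * shG ^ k)⁻¹ = g * (shG ^ k * dG hw * (shG ^ k)⁻¹) * g⁻¹ := by group
  have hval : ((g * shG ^ k * dG hw * (g * shG ^ k)⁻¹ : GL (Fin 3) F) : Matrix (Fin 3) (Fin 3) F) =
      (dG hw : Matrix (Fin 3) (Fin 3) F) := by
    rw [he, Units.val_mul, Units.val_mul, hpow, Matrix.mul_smul, Matrix.smul_mul, ← Units.val_mul,
      ← Units.val_mul, hc, smul_smul, mul_comm _ c, hk, one_smul]
  rw [← Units.val_mul, ← Units.val_mul]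
  exact congrArg Units.val (mul_inv_eq_iff_eq_mul.1 (Units.ext hval))

/-- The normal form of the elements of `heisC`. -/
theorem exists_form {g : GL (Fin 3) F} (hg : g ∈ heisC hw) :
    ∃ (c : Fˣ) (j k : ℕ), g = scG c * dG hw ^ j * shG ^ k := by
  obtain ⟨k, hdiag⟩ := exists_shift hw hg.1
  set d := g * shG ^ k with hd
  have hdC : d ∈ heisC hw := mul_mem hg (pow_mem (shG_mem hw).1 k)
  obtain ⟨b, hb⟩ := hdC.2
  have hb' : (d : Matrix (Fin 3) (Fin 3) F) * !![0, 0, 1; 1, 0, 0; 0, 1, 0] =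
      b • (!![0, 0, 1; 1, 0, 0; 0, 1, 0] * (d : Matrix (Fin 3) (Fin 3) F)) := by
    rw [← coe_shG, ← Matrix.smul_mul, ← hb, ← Units.val_mul, ← Units.val_mul]
    group
  have e10 := congrFun (congrFun hb' 1) 0
  have e21 := congrFun (congrFun hb' 2) 1
  have e02 := congrFun (congrFun hb' 0) 2
  simp [Matrix.mul_apply, Fin.sum_univ_three, Matrix.vecMul, dotProduct] at e10 e21 e02
  set x := (d : Matrix (Fin 3) (Fin 3) F) 0 0 with hx
  set y := (d : Matrix (Fin 3) (Fin 3) F) 1 1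
  set z := (d : Matrix (Fin 3) (Fin 3) F) 2 2
  have hdet : x * y * z ≠ 0 := by
    have h := (Matrix.isUnit_iff_isUnit_det _).1 d.isUnit
    rw [isUnit_iff_ne_zero, Matrix.det_fin_three, hdiag 0 1 (by decide), hdiag 0 2 (by decide),
      hdiag 1 0 (by decide), hdiag 1 2 (by decide), hdiag 2 0 (by decide), hdiag 2 1 (by decide)] at h
    simpa using h
  have hx0 : x ≠ 0 := fun e => hdet (by rw [e]; ring)
  have hb3 : b ^ 3 = 1 := by
    refine mul_left_cancel₀ hx0 ?_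
    rw [mul_one]
    linear_combination (-1 : F) * (b ^ 2) * e10 - b * e21 - e02
  obtain ⟨j, hj⟩ : ∃ j : ℕ, b = w ^ j := by
    rcases hw.cases_of_cube hb3 with e | e | e
    exacts [⟨0, by rw [e, pow_zero]⟩, ⟨1, by rw [e, pow_one]⟩, ⟨2, by rw [e, pow_two]⟩]
  -- shift back
  obtain ⟨k', hk'⟩ : ∃ k', (shG ^ k)⁻¹ = (shG : GL (Fin 3) F) ^ k' := by
    refine ⟨2 * k, inv_eq_of_mul_eq_one_right ?_⟩
    rw [← pow_add, show k + 2 * k = 3 * k by ring, pow_mul]
    have h3 : (shG : GL (Fin 3) F) ^ 3 = 1 := by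
      refine Units.ext ?_
      rw [pow_succ, pow_two, Units.val_mul, Units.val_mul, coe_shG, Units.val_one]
      ext i j; fin_cases i <;> fin_cases j <;> simp [Matrix.mul_apply, Fin.sum_univ_three]
    rw [h3, one_pow]
  refine ⟨Units.mk0 x hx0, j, k', ?_⟩
  rw [← hk', eq_mul_inv_iff_mul_eq, ← hd]
  refine Units.ext ?_
  have hpw : ((dG hw ^ j : GL (Fin 3) F) : Matrix (Fin 3) (Fin 3) F) =
      !![1, 0, 0; 0, w ^ j, 0; 0, 0, (w * w) ^ j] := by
    clear hj
    induction j with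
    | zero => simp [Matrix.one_fin_three]
    | succ j ih =>
      rw [pow_succ, Units.val_mul, ih, coe_dG, pow_succ, pow_succ]
      ext i l; fin_cases i <;> fin_cases l <;> simp [Matrix.mul_apply, Fin.sum_univ_three]
  simp only [Units.val_mul, coe_scG, Units.val_mk0, hpw, Matrix.smul_mul, Matrix.one_mul, mul_pow, ← hj]
  have hy : y = b * x := e10
  have hz : z = b * b * x := by rw [e21, hy]; ring
  ext i l
  fin_cases i <;> fin_cases l <;>
    simp [hdiag 0 1 (by decide), hdiag 0 2 (by decide), hdiag 1 0 (by decide), hdiag 1 2 (by decide),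
      hdiag 2 0 (by decide), hdiag 2 1 (by decide)] <;> grind

/-- The normal form in the special linear group. -/
theorem scalar_cube {c : Fˣ} (h : scG c ∈ Cfsg.Geo.specialLinear (Fin 3) F) : (c : F) ^ 3 = 1 := by
  rw [mem_sl, coe_scG, Matrix.det_smul, Matrix.det_one, mul_one, Fintype.card_fin] at h
  exact h

theorem exists_form_heis {g : GL (Fin 3) F} (hg : g ∈ heis hw) :
    ∃ (c : Fˣ) (j k : ℕ), (c : F) ^ 3 = 1 ∧ g = scG c * dG hw ^ j * shG ^ k := by
  obtain ⟨c, j, k, rfl⟩ := exists_form hw hg.1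
  refine ⟨c, j, k, scalar_cube ?_, rfl⟩
  have h : scG c * dG hw ^ j * shG ^ k ∈ Cfsg.Geo.specialLinear (Fin 3) F := hg.2
  rwa [Subgroup.mul_mem_cancel_right _ (pow_mem shG_mem_sl k),
    Subgroup.mul_mem_cancel_right _ (pow_mem (dG_mem_sl hw) j)] at h

/-- An element normalises `heis` iff it maps both generators into it. -/
theorem mem_normalizer_heis [Finite F] {g : GL (Fin 3) F}
    (h1 : g * dG hw * g⁻¹ ∈ heis hw) (h2 : g * shG * g⁻¹ ∈ heis hw) :
    g ∈ Subgroup.normalizer (heis hw : Set (GL (Fin 3) F)) := by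
  have hsub : ∀ x ∈ heis hw, g * x * g⁻¹ ∈ heis hw := by
    intro x hx
    obtain ⟨c, j, k, hc, rfl⟩ := exists_form_heis hw hx
    rw [← conj_mul, ← conj_mul, ← conj_pow, ← conj_pow, ← (scG_commute c g).eq, mul_inv_cancel_right]
    refine mul_mem (mul_mem ?_ (pow_mem h1 j)) (pow_mem h2 k)
    exact ⟨scG_mem_heisC hw c, mem_sl.2 (by rw [coe_scG, Matrix.det_smul, Matrix.det_one, mul_one,
      Fintype.card_fin, hc])⟩
  refine Subgroup.mem_normalizer_iff_map_conj_eq.2 ?_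
  refine Subgroup.eq_of_le_of_card_ge ?_ (le_of_eq ?_)
  · rintro _ ⟨x, hx, rfl⟩
    exact hsub x hx
  · exact (Subgroup.card_map_of_injective (MulAut.conj g).injective).symm

/-- Image of a generator from a matrix identity. -/
theorem conj_mem_heis {g x : GL (Fin 3) F} (hx : x ∈ Cfsg.Geo.specialLinear (Fin 3) F) (a b : ℕ) (c : F)
    (h : (g : Matrix (Fin 3) (Fin 3) F) * (x : Matrix (Fin 3) (Fin 3) F) =
      c • (((dG hw ^ a * shG ^ b : GL (Fin 3) F) : Matrix (Fin 3) (Fin 3) F) *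
        (g : Matrix (Fin 3) (Fin 3) F))) : g * x * g⁻¹ ∈ heis hw := by
  refine ⟨?_, (MonoidHom.normal_ker _).conj_mem _ hx _⟩
  have hP : Prop' (g * x * g⁻¹) (dG hw ^ a * shG ^ b) := by
    refine ⟨c, ?_⟩
    rw [Units.val_mul, Units.val_mul g x, h, Matrix.smul_mul, ← Units.val_mul, ← Units.val_mul,
      mul_inv_cancel_right]
  obtain ⟨u, hu⟩ := hP
  have : g * x * g⁻¹ = scG (Units.mk0 u (Prop'.ne_zero hu)) * (dG hw ^ a * shG ^ b) :=
    Units.ext (by simp only [hu, Units.val_mul _ (dG hw ^ a * shG ^ b), coe_scG, Matrix.smul_mul,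
      Matrix.one_mul, Units.val_mk0])
  rw [this]
  exact mul_mem (scG_mem_heisC hw _) (mul_mem (pow_mem (dG_mem hw).1 a) (pow_mem (shG_mem hw).1 b))

theorem hG_normalizes [Finite F] :
    (hG : GL (Fin 3) F) ∈ Subgroup.normalizer (heis hw : Set (GL (Fin 3) F)) := by
  have := hw.eq; have := hw.three
  refine mem_normalizer_heis hw (conj_mem_heis hw (dG_mem_sl hw) 2 0 1 ?_)
    (conj_mem_heis hw shG_mem_sl 0 2 1 ?_)
  all_goals
    simp only [pow_zero, pow_one, pow_two, one_mul, mul_one, Units.val_mul, coe_dG, coe_shG, coe_hG]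
    ext i j
    fin_cases i <;> fin_cases j <;> simp [Matrix.mul_apply, Fin.sum_univ_three] <;> grind

theorem q1G_normalizes [Finite F] :
    q1G hw ∈ Subgroup.normalizer (heis hw : Set (GL (Fin 3) F)) := by
  have := hw.eq; have := hw.three
  refine mem_normalizer_heis hw (conj_mem_heis hw (dG_mem_sl hw) 0 2 1 ?_)
    (conj_mem_heis hw shG_mem_sl 1 0 1 ?_)
  all_goals
    simp only [pow_zero, pow_one, pow_two, one_mul, mul_one, Units.val_mul, coe_dG, coe_shG, coe_q1G]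
    ext i j
    fin_cases i <;> fin_cases j <;> simp [Matrix.mul_apply, Fin.sum_univ_three] <;> grind

theorem q2G_normalizes [Finite F] :
    q2G hw ∈ Subgroup.normalizer (heis hw : Set (GL (Fin 3) F)) := by
  have := hw.eq; have := hw.three
  refine mem_normalizer_heis hw (conj_mem_heis hw (dG_mem_sl hw) 1 2 (w * w) ?_)
    (conj_mem_heis hw shG_mem_sl 2 2 w ?_)
  all_goals
    simp only [pow_zero, pow_one, pow_two, one_mul, mul_one, Units.val_mul, coe_dG, coe_shG, coe_q2G]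
    ext i j
    fin_cases i <;> fin_cases j <;> simp [Matrix.mul_apply, Fin.sum_univ_three] <;> grind

end CfsgLib.MaxSub.SlThree.Extra
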