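import Cfsg.Agent.Lib.MaxSub.SlThree.ExtraSol

/-!
Two configurations with no lift to `SL₃` in characteristic different from `2`, `3`, `5`.
-/

set_option autoImplicit false
set_option linter.unusedSectionVars false
set_option linter.unusedSimpArgs false

namespace CfsgLib.MaxSub.SlThree.Extra

open Matrix
open scoped MatrixGroups

variable {F : Type*} [Field F]

/-- The middle coefficient of the characteristic polynomial. -/
def sig (A : Matrix (Fin 3) (Fin 3) F) : F :=
  A 0 0 * A 1 1 - A 0 1 * A 1 0 + (A 0 0 * A 2 2 - A 0 2 * A 2 0) + (A 1 1 * A 2 2 - A 1 2 * A 2 1)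

theorem cayley_three (A : Matrix (Fin 3) (Fin 3) F) :
    A * A * A - A.trace • (A * A) + sig A • A - A.det • 1 = 0 := by
  ext i j
  fin_cases i <;> fin_cases j <;>
    simp [sig, Matrix.mul_apply, Fin.sum_univ_three, Matrix.trace_fin_three, Matrix.det_fin_three] <;> ring

theorem two_sig (A : Matrix (Fin 3) (Fin 3) F) :
    2 * sig A = A.trace * A.trace - (A * A).trace := by
  simp [sig, Matrix.mul_apply, Fin.sum_univ_three, Matrix.trace_fin_three]
  ring

theorem trace_one_three : (1 : Matrix (Fin 3) (Fin 3) F).trace = 3 := by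
  rw [Matrix.trace_one, Fintype.card_fin]; norm_num

theorem trace_conj (g a : GL (Fin 3) F) :
    ((g * a * g⁻¹ : GL (Fin 3) F) : Matrix (Fin 3) (Fin 3) F).trace = (a : Matrix (Fin 3) (Fin 3) F).trace := by
  rw [Units.val_mul, Units.val_mul, Matrix.trace_mul_cycle, ← Units.val_mul, inv_mul_cancel, Units.val_one,
    Matrix.one_mul]

theorem det_conj (g a : GL (Fin 3) F) :
    ((g * a * g⁻¹ : GL (Fin 3) F) : Matrix (Fin 3) (Fin 3) F).det = (a : Matrix (Fin 3) (Fin 3) F).det := by
  rw [Units.val_mul, Units.val_mul, Matrix.det_mul_right_comm, ← Units.val_mul, mul_inv_cancel, Units.val_one,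
    Matrix.one_mul]

/-- A projective equality is an equality up to a scalar. -/
theorem exists_sc {x y : GL (Fin 3) F} (h : proj x = proj y) : ∃ c : Fˣ, x = scG c * y := by
  obtain ⟨c, hc⟩ := proj_eq_iff.1 h
  exact ⟨Units.mk0 c (Prop'.ne_zero hc), Units.ext (by
    rw [Units.val_mul, coe_scG, Units.val_mk0, Matrix.smul_mul, Matrix.one_mul, hc])⟩

theorem det_scG_mul (c : Fˣ) (y : GL (Fin 3) F) :
    ((scG c * y : GL (Fin 3) F) : Matrix (Fin 3) (Fin 3) F).det = (c : F) ^ 3 * (y : Matrix (Fin 3) (Fin 3) F).det := by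
  rw [Units.val_mul, Matrix.det_mul, coe_scG, Matrix.det_smul, Matrix.det_one, mul_one, Fintype.card_fin]

theorem scG_one : (scG (1 : Fˣ) : GL (Fin 3) F) = 1 := map_one _

theorem scG_mul (a b : Fˣ) : (scG (a * b) : GL (Fin 3) F) = scG a * scG b := map_mul _ _ _

theorem scG_pow (a : Fˣ) (n : ℕ) : (scG a : GL (Fin 3) F) ^ n = scG (a ^ n) := (map_pow _ _ _).symm

theorem scG_inj {a b : Fˣ} (h : (scG a : GL (Fin 3) F) = scG b) : a = b := by
  have h' := congrArg (fun X : GL (Fin 3) F => (X : Matrix (Fin 3) (Fin 3) F) 0 0) h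
  simp [coe_scG] at h'
  exact Units.ext h'

variable {M : Subgroup (GL (Fin 3) F)}

/-- No element of order five of the projective image is conjugate to its square. -/
theorem no_five (hsl : M ≤ Cfsg.Geo.specialLinear (Fin 3) F) (h2 : (2 : F) ≠ 0) (h3 : (3 : F) ≠ 0)
    (h5 : (5 : F) ≠ 0) {x g : GL (Fin 3) F ⧸ Cfsg.Geo.scalars (Fin 3) F} (hx : x ∈ M.map proj)
    (hg : g ∈ M.map proj) (hx5 : x ^ 5 = 1) (hx1 : x ≠ 1) (hconj : g * x * g⁻¹ = x ^ 2) : False := by
  obtain ⟨A₀, hA₀, rfl⟩ := hx
  obtain ⟨g, -, rfl⟩ := hg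
  set A := A₀ ^ 6 with hA
  have hpA : proj A = proj A₀ := by rw [hA, map_pow, pow_succ, hx5, one_mul]
  have hdet : (A : Matrix (Fin 3) (Fin 3) F).det = 1 := mem_sl.1 (pow_mem (hsl hA₀) 6)
  clear_value A
  -- exact order five
  have hA5 : A ^ 5 = 1 := by
    obtain ⟨c, hc⟩ := exists_sc (x := A₀ ^ 5) (y := 1) (by rw [map_pow, hx5, map_one])
    rw [mul_one] at hc
    have hc3 : (c : F) ^ 3 = 1 := scalar_cube (hc ▸ pow_mem (hsl hA₀) 5)
    rw [hA, ← pow_mul, show 6 * 5 = 5 * 6 by rfl, pow_mul, hc, scG_pow,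
      show c ^ 6 = 1 from Units.ext (by rw [Units.val_pow_eq_pow_val, show 6 = 3 * 2 by rfl, pow_mul, hc3,
        one_pow, Units.val_one]), scG_one]
  -- exact conjugation
  obtain ⟨μ, hμ⟩ := exists_sc (x := g * A * g⁻¹) (y := A ^ 2) (by
    rw [map_mul, map_mul, map_inv, map_pow, hpA, hconj])
  have hμ1 : μ = 1 := by
    have h3' : (μ : F) ^ 3 = 1 := by
      have h := congrArg (fun X : GL (Fin 3) F => (X : Matrix (Fin 3) (Fin 3) F).det) hμ
      simp only [det_conj, det_scG_mul] at h
      rwa [hdet, Units.val_pow_eq_pow_val, Matrix.det_pow, hdet, one_pow, mul_one, eq_comm] at h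
    have h5' : (μ : F) ^ 5 = 1 := by
      have h := congrArg (· ^ 5) hμ
      simp only [conj_pow, hA5, mul_one, mul_inv_cancel] at h
      rw [(scG_commute μ _).mul_pow, ← pow_mul, mul_comm 2 5, pow_mul, hA5, one_pow, mul_one, scG_pow,
        ← scG_one] at h
      simpa using (congrArg Units.val (scG_inj h)).symm
    refine Units.ext ?_
    rw [Units.val_one]
    linear_combination (-(μ : F) * h5' + (μ : F) ^ 3 * h3' + h3')
  rw [hμ1, scG_one, one_mul] at hμ
  have hμ4 : g * A ^ 2 * g⁻¹ = A ^ 4 := by rw [← conj_pow, hμ, ← pow_mul]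
  set B := (A : Matrix (Fin 3) (Fin 3) F) with hB
  set s := B.trace with hs
  have t2 : (B * B).trace = s := by
    have h := trace_conj g A
    rw [hμ, pow_two, Units.val_mul] at h
    exact h
  have t4 : (B * B * (B * B)).trace = s := by
    have h := trace_conj g (A ^ 2)
    rw [hμ4, show A ^ 4 = A * A * (A * A) by simp [pow_succ, mul_assoc], pow_two, Units.val_mul,
      Units.val_mul] at h
    rw [h]; exact t2
  have B5 : B * B * (B * B) * B = 1 := by
    have h := congrArg Units.val hA5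
    simpa [pow_succ, mul_assoc] using h
  have hCH := cayley_three B
  rw [hdet, one_smul] at hCH
  -- multiply by the inverse
  have e1 : B * B - s • B + sig B • (1 : Matrix (Fin 3) (Fin 3) F) - B * B * (B * B) = 0 := by
    have h := congrArg (B * B * (B * B) * ·) hCH
    simp only [mul_sub, mul_add, mul_zero, Matrix.mul_smul, mul_one] at h
    have a1 : B * B * (B * B) * (B * B * B) = B * B := by
      rw [show B * B * (B * B) * (B * B * B) = B * B * (B * B) * B * (B * B) by simp only [mul_assoc],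
        B5, one_mul]
    have a2 : B * B * (B * B) * (B * B) = B := by
      rw [show B * B * (B * B) * (B * B) = B * B * (B * B) * B * B by simp only [mul_assoc], B5, one_mul]
    rw [a1, a2, B5, ← hs] at h
    exact h
  have k3 : 3 * sig B = s * s := by
    have h := congrArg Matrix.trace e1
    simp only [Matrix.trace_sub, Matrix.trace_add, Matrix.trace_smul, Matrix.trace_zero, t2, t4,
      trace_one_three, smul_eq_mul, ← hs] at h
    linear_combination h
  have k2 := two_sig B
  rw [← hs, t2] at k2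
  have hss : s * (s - 3) = 0 := by linear_combination -3 * k2 + 2 * k3
  have hAone : A = 1 := by
    rcases mul_eq_zero.1 hss with h | h
    · have hc : sig B = 0 := (mul_eq_zero.1 (k3.trans (by rw [h, mul_zero]))).resolve_left h3
      rw [← hs, h, hc, zero_smul, zero_smul, sub_zero, add_zero, sub_eq_zero] at hCH
      have hA3 : A ^ 3 = 1 := Units.ext (by
        rw [pow_succ, pow_two, Units.val_mul, Units.val_mul, ← hB, hCH, Units.val_one])
      have e : A = (A ^ 3) ^ 2 * (A ^ 5)⁻¹ := by
        rw [← pow_mul, eq_mul_inv_iff_mul_eq, ← pow_succ']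
      rw [e, hA3, hA5, one_pow, inv_one, mul_one]
    · rw [sub_eq_zero] at h
      have hc : sig B = 3 := mul_left_cancel₀ h3 (by rw [k3, h])
      rw [← hs, h, hc] at hCH
      set N := B - 1 with hN
      have hN3 : N * (N * N) = 0 := by
        rw [← hCH, hN]
        simp only [mul_sub, sub_mul, one_mul, mul_one, mul_assoc]
        module
      have e5 : (5 : F) • N + (10 : F) • (N * N) = 0 := by
        have hBN : B = 1 + N := by rw [hN, add_sub_cancel]
        have h := B5
        rw [hBN] at h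
        simp only [mul_add, add_mul, one_mul, mul_one, mul_assoc, hN3, mul_zero, add_zero] at h
        rw [← sub_eq_zero] at h
        rw [← h]
        module
      have hNN : N * N = 0 := by
        have h := congrArg (N * ·) e5
        simp only [mul_add, Matrix.mul_smul, hN3, smul_zero, add_zero, mul_zero] at h
        exact (smul_eq_zero.1 h).resolve_left h5
      rw [hNN, smul_zero, add_zero] at e5
      exact Units.ext (sub_eq_zero.1 ((smul_eq_zero.1 e5).resolve_left h5))
  exact hx1 (by rw [← hpA, hAone, map_one])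

/-- A non-scalar element of order three of determinant one has trace zero. -/
theorem trace_zero_of_cube {X : GL (Fin 3) F} (hd : (X : Matrix (Fin 3) (Fin 3) F).det = 1)
    (h : X ^ 3 = 1) (hX : proj X ≠ 1) : (X : Matrix (Fin 3) (Fin 3) F).trace = 0 := by
  set B := (X : Matrix (Fin 3) (Fin 3) F) with hB
  have h' : B * B * B = 1 := by
    have := congrArg Units.val h
    simpa [pow_succ] using this
  have hCH := cayley_three B
  rw [hd, one_smul, h'] at hCH
  by_contra hs
  have hBB : B * B = (B.trace⁻¹ * sig B) • B := by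
    have h2 : B.trace • (B * B) = sig B • B := by
      rw [← sub_eq_zero, ← neg_eq_zero, ← hCH]; abel
    rw [mul_smul, ← h2, smul_smul, inv_mul_cancel₀ hs, one_smul]
  have hsc : B = (B.trace⁻¹ * sig B) • (1 : Matrix (Fin 3) (Fin 3) F) := by
    have := congrArg (((X⁻¹ : GL (Fin 3) F) : Matrix (Fin 3) (Fin 3) F) * ·) hBB
    simp only [Matrix.mul_smul, ← mul_assoc] at this
    rwa [hB, ← Units.val_mul, inv_mul_cancel, Units.val_one, one_mul] at this
  exact hX (proj_eq_one.2 (scalars_iff.2 ⟨_, by rw [Units.val_one]; exact hsc⟩))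

/-- An element inverting another modulo scalars forces order three. -/
theorem cube_of_inverted {A D : GL (Fin 3) F} (hA : (A : Matrix (Fin 3) (Fin 3) F).det = 1)
    (h3 : proj A ^ 3 = 1) (h : proj D * proj A * (proj D)⁻¹ = (proj A)⁻¹) :
    A ^ 3 = 1 := by
  obtain ⟨l, hl⟩ := exists_sc (x := A ^ 3) (y := 1) (by rw [map_pow, h3, map_one])
  rw [mul_one] at hl
  obtain ⟨μ, hμ⟩ := exists_sc (x := D * A * D⁻¹) (y := A⁻¹) (by rw [map_mul, map_mul, map_inv, map_inv, h])
  have hl3 : l ^ 3 = 1 := Units.ext (by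
    rw [Units.val_pow_eq_pow_val, Units.val_one]
    refine scalar_cube ?_
    rw [← hl, mem_sl, Units.val_pow_eq_pow_val, Matrix.det_pow, hA, one_pow])
  have hμ3 : μ ^ 3 = 1 := Units.ext (by
    have hd := congrArg (fun X : GL (Fin 3) F => (X : Matrix (Fin 3) (Fin 3) F).det) hμ
    simp only [det_conj, det_scG_mul] at hd
    have hinv : ((A⁻¹ : GL (Fin 3) F) : Matrix (Fin 3) (Fin 3) F).det = 1 := by
      have := congrArg Matrix.det (A.mul_inv)
      rwa [Matrix.det_mul, hA, one_mul, Matrix.det_one] at this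
    rw [hA, hinv, mul_one] at hd
    rw [Units.val_pow_eq_pow_val, Units.val_one, ← hd])
  have e := congrArg (· ^ 3) hμ
  simp only [conj_pow, hl] at e
  rw [← (scG_commute l D).eq, mul_inv_cancel_right, (scG_commute μ _).mul_pow, inv_pow, hl, scG_pow, hμ3,
    scG_one, one_mul] at e
  have e2 : l * l = 1 := scG_inj (by rw [scG_mul, scG_one]; nth_rewrite 1 [e]; rw [inv_mul_cancel])
  have hl1 : l = 1 := by
    rw [pow_succ, pow_two, e2, one_mul] at hl3
    exact hl3
  rw [hl, hl1, scG_one]

/-- An elementary group of order nine with commuting lifts of order three. -/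
theorem no_nine (hsl : M ≤ Cfsg.Geo.specialLinear (Fin 3) F) (h2 : (2 : F) ≠ 0) (h3 : (3 : F) ≠ 0)
    (h5 : (5 : F) ≠ 0) {a b d e : GL (Fin 3) F ⧸ Cfsg.Geo.scalars (Fin 3) F} (ha : a ∈ M.map proj)
    (hb : b ∈ M.map proj) (hd : d ∈ M.map proj) (he : e ∈ M.map proj) (ha3 : a ^ 3 = 1) (hb3 : b ^ 3 = 1)
    (hab : a * b = b * a) (ha1 : a ≠ 1) (hb1 : b ≠ 1) (hba : b ≠ a) (hbai : b ≠ a⁻¹)
    (hda : d * a * d⁻¹ = a⁻¹) (hdb : d * b * d⁻¹ = b) (heb : e * b * e⁻¹ = b⁻¹) : False := by
  obtain ⟨A, hA, rfl⟩ := ha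
  obtain ⟨B, hB, rfl⟩ := hb
  obtain ⟨D, hD, rfl⟩ := hd
  obtain ⟨E, hE, rfl⟩ := he
  have hdA : (A : Matrix (Fin 3) (Fin 3) F).det = 1 := mem_sl.1 (hsl hA)
  have hdB : (B : Matrix (Fin 3) (Fin 3) F).det = 1 := mem_sl.1 (hsl hB)
  have hA3 := cube_of_inverted hdA ha3 hda
  have hB3 := cube_of_inverted hdB hb3 heb
  -- the lifts commute
  have hcomm : A * B = B * A := by
    obtain ⟨c, hc⟩ := exists_sc (x := A * B) (y := B * A) (by rw [map_mul, map_mul, hab])
    obtain ⟨μ, hμ⟩ := exists_sc (x := D * A * D⁻¹) (y := A⁻¹) (by rw [map_mul, map_mul, map_inv, map_inv, hda])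
    obtain ⟨ν, hν⟩ := exists_sc (x := D * B * D⁻¹) (y := B) (by rw [map_mul, map_mul, map_inv, hdb])
    have h1 := congrArg (fun X => D * X * D⁻¹) hc
    have hl : D * (scG c * (B * A)) * D⁻¹ = scG c * ((D * B * D⁻¹) * (D * A * D⁻¹)) := by
      rw [← mul_assoc D, ← (scG_commute c D).eq]; group
    rw [← conj_mul, hl, hμ, hν] at h1
    have h1' : A⁻¹ * B = scG c * (B * A⁻¹) := by
      have e1 : scG μ * A⁻¹ * (scG ν * B) = scG (μ * ν) * (A⁻¹ * B) := by
        rw [scG_mul, mul_assoc (scG μ), ← mul_assoc A⁻¹, ← (scG_commute ν A⁻¹).eq]; group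
      have e2 : scG c * (scG ν * B * (scG μ * A⁻¹)) = scG (μ * ν) * (scG c * (B * A⁻¹)) := by
        rw [scG_mul, mul_assoc (scG ν), ← mul_assoc B, ← (scG_commute μ B).eq, mul_assoc (scG μ) B,
          ← mul_assoc (scG ν), (scG_commute ν (scG μ)).eq, ← mul_assoc (scG c),
          (scG_commute c (scG μ * scG ν)).eq]
        group
      rw [e1, e2] at h1
      exact mul_left_cancel h1
    have h2' : B * A⁻¹ = scG c * (A⁻¹ * B) := by
      have : B = scG c * (A⁻¹ * B * A) := by
        rw [show scG c * (A⁻¹ * B * A) = A⁻¹ * (scG c * (B * A)) by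
          rw [← mul_assoc A⁻¹, ← (scG_commute c A⁻¹).eq]; group, ← hc, inv_mul_cancel_left]
      nth_rewrite 1 [this]
      group
    rw [h2', ← mul_assoc, eq_comm, mul_eq_right, ← scG_mul, ← scG_one] at h1'
    have hcc : c * c = 1 := scG_inj h1'
    have hc3 : c ^ 3 = 1 := Units.ext (by
      rw [Units.val_pow_eq_pow_val, Units.val_one]
      refine scalar_cube ?_
      rw [show scG c = A * B * (B * A)⁻¹ by rw [hc, mul_inv_cancel_right]]
      exact hsl (mul_mem (mul_mem hA hB) (inv_mem (mul_mem hB hA))))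
    rw [pow_succ, pow_two, hcc, one_mul] at hc3
    rw [hc, hc3, scG_one, one_mul]
  -- all nine products
  have hc' : Commute A B := hcomm
  have key : ∀ i j : ℕ, proj (A ^ i * B ^ j) ≠ 1 →
      ((A ^ i * B ^ j : GL (Fin 3) F) : Matrix (Fin 3) (Fin 3) F).trace = 0 := fun i j h =>
    trace_zero_of_cube (by
      rw [Units.val_mul, Matrix.det_mul, Units.val_pow_eq_pow_val, Units.val_pow_eq_pow_val, Matrix.det_pow,
        Matrix.det_pow, hdA, hdB, one_pow, one_pow, one_mul]) (by
      rw [(hc'.pow_pow i j).mul_pow, ← pow_mul, ← pow_mul, mul_comm i, mul_comm j, pow_mul, pow_mul, hA3,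
        hB3, one_pow, one_pow, one_mul]) h
  have hpc : Commute (proj A) (proj B) := hab
  have sqA : proj A ^ 2 = (proj A)⁻¹ := eq_inv_of_mul_eq_one_left (by rw [← pow_succ, ha3])
  have sqB : proj B ^ 2 = (proj B)⁻¹ := eq_inv_of_mul_eq_one_left (by rw [← pow_succ, hb3])
  have n10 : proj (A ^ 1 * B ^ 0) ≠ 1 := by simpa using ha1
  have n20 : proj (A ^ 2 * B ^ 0) ≠ 1 := by simpa [sqA] using ha1
  have n01 : proj (A ^ 0 * B ^ 1) ≠ 1 := by simpa using hb1
  have n02 : proj (A ^ 0 * B ^ 2) ≠ 1 := by simpa [sqB] using hb1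
  have n11 : proj (A ^ 1 * B ^ 1) ≠ 1 := by
    rw [map_mul, map_pow, map_pow, pow_one, pow_one]
    exact fun h => hbai (eq_inv_of_mul_eq_one_right h)
  have n22 : proj (A ^ 2 * B ^ 2) ≠ 1 := by
    rw [map_mul, map_pow, map_pow, sqA, sqB, hpc.inv_inv.eq, ← _root_.mul_inv_rev, Ne, inv_eq_one]
    exact fun h => hbai (eq_inv_of_mul_eq_one_right h)
  have n12 : proj (A ^ 1 * B ^ 2) ≠ 1 := by
    rw [map_mul, map_pow, map_pow, pow_one, sqB, Ne, mul_inv_eq_one]
    exact fun h => hba h.symm
  have n21 : proj (A ^ 2 * B ^ 1) ≠ 1 := by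
    rw [map_mul, map_pow, map_pow, pow_one, sqA, Ne, inv_mul_eq_one]
    exact fun h => hba h.symm
  -- the projection onto the fixed space
  set a := (A : Matrix (Fin 3) (Fin 3) F) with ha
  set b := (B : Matrix (Fin 3) (Fin 3) F) with hb
  have t10 := key 1 0 n10
  have t20 := key 2 0 n20
  have t01 := key 0 1 n01
  have t02 := key 0 2 n02
  have t11 := key 1 1 n11
  have t12 := key 1 2 n12
  have t21 := key 2 1 n21
  have t22 := key 2 2 n22
  simp only [pow_zero, pow_one, pow_two, one_mul, mul_one, Units.val_mul, ← ha, ← hb] at t10 t20 t01 t02 t11 t12 t21 t22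
  have h9 : (9 : F) ≠ 0 := by
    have := mul_ne_zero h3 h3; norm_num at this; exact this
  set S1 := 1 + a + a * a with hS1
  set S2 := 1 + b + b * b with hS2
  have ha3' : a * (a * a) = 1 := by
    have := congrArg Units.val hA3
    simpa [pow_succ, mul_assoc] using this
  have hb3' : b * (b * b) = 1 := by
    have := congrArg Units.val hB3
    simpa [pow_succ, mul_assoc] using this
  have hab' : Commute a b := congrArg Units.val hcomm
  have q1 : S1 * S1 = (3 : F) • S1 := by
    rw [hS1]
    simp only [mul_add, add_mul, one_mul, mul_one, mul_assoc, ha3']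
    module
  have q2 : S2 * S2 = (3 : F) • S2 := by
    rw [hS2]
    simp only [mul_add, add_mul, one_mul, mul_one, mul_assoc, hb3']
    module
  have hS : Commute S1 S2 := by
    have h1 : Commute S1 b :=
      ((Commute.one_left b).add_left hab').add_left (hab'.mul_left hab')
    exact ((Commute.one_right S1).add_right h1).add_right (h1.mul_right h1)
  set P := (9 : F)⁻¹ • (S1 * S2) with hP
  have hPP : P * P = P := by
    rw [hP, Matrix.smul_mul, Matrix.mul_smul, smul_smul,
      show S1 * S2 * (S1 * S2) = (S1 * S1) * (S2 * S2) by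
        rw [mul_assoc, ← mul_assoc S2, ← hS.eq]; simp only [mul_assoc],
      q1, q2, Matrix.smul_mul, Matrix.mul_smul, smul_smul, smul_smul]
    congr 1
    field_simp
    norm_num
  have htr : 3 * P.trace = 1 := by
    rw [hP, Matrix.trace_smul, hS1, hS2]
    simp only [mul_add, add_mul, one_mul, mul_one, mul_assoc, Matrix.trace_add, trace_one_three] at t10 t20 t01 t02 t11 t12 t21 t22 ⊢
    rw [t10, t20, t01, t02, t11, t12, t21, t22, smul_eq_mul]
    field_simp
    norm_num
  have hCH := cayley_three P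
  rw [hPP, hPP] at hCH
  set t := P.trace with ht
  have hcoef : (1 - t + sig P) • P = P.det • (1 : Matrix (Fin 3) (Fin 3) F) := by
    rw [← sub_eq_zero, ← hCH]; module
  have ht2 : 2 * sig P = t * t - t := by
    have := two_sig P
    rwa [hPP] at this
  rcases eq_or_ne P.det 0 with hd0 | hd0
  · rw [hd0, zero_smul, smul_eq_zero] at hcoef
    rcases hcoef with h | h
    · -- `(t - 1) * (t - 2) = 0` with `3 t = 1`
      refine mul_ne_zero (mul_ne_zero h2 h5) one_ne_zero ?_
      linear_combination 18 * h - 9 * ht2 - (3 * t - 8) * htr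
    · rw [ht, h, Matrix.trace_zero, mul_zero] at htr
      exact zero_ne_one htr
  · have hP1 : P = 1 := by
      have hu : IsUnit P.det := isUnit_iff_ne_zero.2 hd0
      have := congrArg (P⁻¹ * ·) hPP
      simpa [← mul_assoc, Matrix.nonsing_inv_mul _ hu] using this
    rw [ht, hP1, trace_one_three] at htr
    have h8 : (2 : F) * 2 * 2 = 0 := by linear_combination htr
    exact mul_ne_zero (mul_ne_zero h2 h2) h2 h8

end CfsgLib.MaxSub.SlThree.Extra
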