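import Cfsg.Agent.Lib.MaxSub.SlThree.ExtraShape
import Cfsg.Agent.Lib.InvChar.GLTwoThreeRecog
import Cfsg.Agent.Lib.Invol.TwoGroups
import Cfsg.Agent.Lib.Invol.QWGroups
import Cfsg.Agent.Lib.Recog.OrderM11Five
import Cfsg.Agent.Lib.Golay.Mathieu
import Cfsg.Agent.S2916

/-!
The octahedral shape leads to `M11` or `PSL₃(3)`, which contain the two forbidden configurations.
-/

set_option autoImplicit false
set_option linter.unusedSectionVars false
set_option linter.unusedSimpArgs false

namespace CfsgLib.MaxSub.SlThree.Extra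

open CfsgLib.InvChar.OctaRecog
open scoped MatrixGroups

universe u v

/-- A self-centralising element of order five is conjugate to its square, when the Sylow count forces it. -/
theorem exists_conj_sq {G : Type u} [Group G] [Finite G] {m : ℕ} (hG : Nat.card G = 5 * m) (h5 : ¬ 5 ∣ m)
    (hm : ∀ n e : ℕ, n * e = m → e ≤ 4 → n % 5 = 1 → 3 ≤ e) {x : G} (hx : orderOf x = 5)
    (hC : Subgroup.centralizer ({x} : Set G) = Subgroup.zpowers x) : ∃ g : G, g * x * g⁻¹ = x ^ 2 := by
  classical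
  have : Fact (Nat.Prime 5) := ⟨by norm_num⟩
  have hx5 : x ^ 5 = 1 := hx ▸ pow_orderOf_eq_one x
  let P : Sylow 5 G := Sylow.ofCard (Subgroup.zpowers x) (by
    rw [Nat.card_zpowers, hx, hG]
    have hm0 : m ≠ 0 := fun h => h5 (h ▸ dvd_zero 5)
    rw [Nat.factorization_mul (by norm_num) hm0, Finsupp.add_apply,
      Nat.Prime.factorization_self (by norm_num), Nat.factorization_eq_zero_of_not_dvd h5]
    norm_num)
  set N := Subgroup.normalizer ((Subgroup.zpowers x : Subgroup G) : Set G) with hN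
  have hn : Nat.card (Sylow 5 G) = N.index := P.card_eq_index_normalizer
  have hn1 : N.index % 5 = 1 := by
    rw [← hn]; simpa [Nat.ModEq] using card_sylow_modEq_one 5 G
  have hle : Subgroup.zpowers x ≤ N := Subgroup.le_normalizer
  obtain ⟨e, he⟩ : 5 ∣ Nat.card N := by
    have := Subgroup.card_dvd_of_le hle
    rwa [Nat.card_zpowers, hx] at this
  have hmul : N.index * e = m := by
    have := Subgroup.index_mul_card N
    rw [he, hG] at this
    nlinarith
  -- the image of `x` under an element of the normaliser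
  have himg : ∀ g ∈ N, ∃ k : ℕ, 1 ≤ k ∧ k ≤ 4 ∧ g * x * g⁻¹ = x ^ k := by
    intro g hg
    have hmem := (Subgroup.mem_normalizer_iff.1 hg x).1 (Subgroup.mem_zpowers x)
    obtain ⟨k, hk, hk'⟩ : ∃ k < 5, g * x * g⁻¹ = x ^ k := by
      have hz := ((isOfFinOrder_of_finite x).mem_zpowers_iff_mem_range_orderOf (y := g * x * g⁻¹)).1 hmem
      simp only [Finset.mem_image, Finset.mem_range, hx] at hz
      obtain ⟨k, hk, hk'⟩ := hz
      exact ⟨k, hk, hk'.symm⟩
    rcases Nat.eq_zero_or_pos k with rfl | hk0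
    · rw [pow_zero, conj_eq_one_iff] at hk'
      rw [hk', orderOf_one] at hx
      omega
    · exact ⟨k, hk0, by omega, hk'⟩
  -- counting
  have cover : ∀ (s : Finset ℕ), (∀ g ∈ N, ∃ k ∈ s, g * x * g⁻¹ = x ^ k) → Nat.card N ≤ s.card * 5 := by
    intro s hs
    choose f hf hf' using hs
    have hex : ∀ k : s, ∃ g0 : G, ∀ g (hg : g ∈ N), f g hg = k → g0⁻¹ * g ∈ Subgroup.zpowers x := by
      intro k
      by_cases hk : ∃ g0, ∃ hg0 : g0 ∈ N, f g0 hg0 = k
      · obtain ⟨g0, hg0, hk⟩ := hk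
        refine ⟨g0, fun g hg hgk => ?_⟩
        rw [← hC, Subgroup.mem_centralizer_singleton_iff]
        have e1 := hf' g hg
        have e2 := hf' g0 hg0
        rw [hgk, ← hk, ← e2] at e1
        have e3 := congrArg (fun z => g0⁻¹ * z * g) e1
        simpa [mul_assoc] using e3
      · exact ⟨1, fun g hg hgk => absurd ⟨g, hg, hgk⟩ hk⟩
    choose g0 hg0 using hex
    let ι : N → s × Subgroup.zpowers x := fun g =>
      (⟨f g g.2, hf g g.2⟩, ⟨(g0 ⟨f g g.2, hf g g.2⟩)⁻¹ * g, hg0 _ g g.2 rfl⟩)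
    have hι : Function.Injective ι := by
      intro a b hab
      simp only [ι, Prod.mk.injEq, Subtype.mk.injEq] at hab
      obtain ⟨h1, h2⟩ := hab
      have hk : (⟨f a a.2, hf a a.2⟩ : s) = ⟨f b b.2, hf b b.2⟩ := Subtype.ext h1
      rw [hk] at h2
      exact Subtype.ext (mul_left_cancel h2)
    have := Nat.card_le_card_of_injective ι hι
    rwa [Nat.card_prod, Nat.card_zpowers, hx, Nat.card_eq_finsetCard] at this
  have he4 : e ≤ 4 := by
    have := cover {1, 2, 3, 4} fun g hg => by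
      obtain ⟨k, h1, h2, hk⟩ := himg g hg
      exact ⟨k, by simp only [Finset.mem_insert, Finset.mem_singleton]; omega, hk⟩
    have h4 : ({1, 2, 3, 4} : Finset ℕ).card = 4 := by decide
    rw [he, h4] at this
    omega
  have he3 := hm _ _ hmul he4 hn1
  by_contra hno
  push Not at hno
  have := cover {1, 4} fun g hg => by
    obtain ⟨k, h1, h2, hk⟩ := himg g hg
    have : k = 1 ∨ k = 2 ∨ k = 3 ∨ k = 4 := by omega
    rcases this with rfl | rfl | rfl | rfl
    · exact ⟨1, by simp, hk⟩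
    · exact absurd hk (hno g)
    · refine absurd ?_ (hno g⁻¹)
      have e1 := congrArg (fun z => g⁻¹ * z ^ 2 * g) hk
      simp only [conj_pow, ← pow_mul] at e1
      rw [show x ^ (3 * 2) = x by rw [show 3 * 2 = 5 + 1 by rfl, pow_add, hx5, pow_one, one_mul]] at e1
      rw [inv_inv]
      simpa [mul_assoc] using e1.symm
    · exact ⟨4, by simp, hk⟩
  have h2 : ({1, 4} : Finset ℕ).card = 2 := by decide
  rw [he, h2] at this
  omega

/-- An elementary group of order nine in `PSL₃(3)`, with two involutions. -/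
theorem exists_nine_config {G : Type u} [Group G] {K : Type} [Field K] [Fintype K]
    (f : G ≃* Matrix.ProjectiveSpecialLinearGroup (Fin 3) K) (hK : Fintype.card K = 3) :
    ∃ a b d e : G, a ^ 3 = 1 ∧ b ^ 3 = 1 ∧ a * b = b * a ∧ a ≠ 1 ∧ b ≠ 1 ∧ b ≠ a ∧ b ≠ a⁻¹ ∧
      d * a * d⁻¹ = a⁻¹ ∧ d * b * d⁻¹ = b ∧ e * b * e⁻¹ = b⁻¹ := by
  have h30 : (3 : K) = 0 := by
    have := FiniteField.cast_card_eq_zero K
    rwa [hK, Nat.cast_ofNat] at this
  let mk : Matrix.SpecialLinearGroup (Fin 3) K →* G :=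
    f.symm.toMonoidHom.comp (QuotientGroup.mk' _)
  have mk_ne : ∀ A B : Matrix.SpecialLinearGroup (Fin 3) K,
      ((A⁻¹ * B : Matrix.SpecialLinearGroup (Fin 3) K) : Matrix (Fin 3) (Fin 3) K) 0 2 ≠ 0 ∨
      ((A⁻¹ * B : Matrix.SpecialLinearGroup (Fin 3) K) : Matrix (Fin 3) (Fin 3) K) 1 2 ≠ 0 → mk A ≠ mk B := by
    intro A B h e
    obtain ⟨r, -, hr⟩ := Matrix.SpecialLinearGroup.mem_center_iff.1 (QuotientGroup.eq.1 (f.symm.injective e))
    rw [← hr] at h
    simp at h
  let a : Matrix.SpecialLinearGroup (Fin 3) K := ⟨!![1, 0, 1; 0, 1, 0; 0, 0, 1], by simp [Matrix.det_fin_three]⟩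
  let b : Matrix.SpecialLinearGroup (Fin 3) K := ⟨!![1, 0, 0; 0, 1, 1; 0, 0, 1], by simp [Matrix.det_fin_three]⟩
  let d : Matrix.SpecialLinearGroup (Fin 3) K := ⟨!![1, 0, 0; 0, -1, 0; 0, 0, -1], by simp [Matrix.det_fin_three]⟩
  let e : Matrix.SpecialLinearGroup (Fin 3) K := ⟨!![-1, 0, 0; 0, 1, 0; 0, 0, -1], by simp [Matrix.det_fin_three]⟩
  let a' : Matrix.SpecialLinearGroup (Fin 3) K := ⟨!![1, 0, -1; 0, 1, 0; 0, 0, 1], by simp [Matrix.det_fin_three]⟩
  let b' : Matrix.SpecialLinearGroup (Fin 3) K := ⟨!![1, 0, 0; 0, 1, -1; 0, 0, 1], by simp [Matrix.det_fin_three]⟩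
  have ca : (a : Matrix (Fin 3) (Fin 3) K) = !![1, 0, 1; 0, 1, 0; 0, 0, 1] := rfl
  have cb : (b : Matrix (Fin 3) (Fin 3) K) = !![1, 0, 0; 0, 1, 1; 0, 0, 1] := rfl
  have cd : (d : Matrix (Fin 3) (Fin 3) K) = !![1, 0, 0; 0, -1, 0; 0, 0, -1] := rfl
  have ce : (e : Matrix (Fin 3) (Fin 3) K) = !![-1, 0, 0; 0, 1, 0; 0, 0, -1] := rfl
  have ca' : (a' : Matrix (Fin 3) (Fin 3) K) = !![1, 0, -1; 0, 1, 0; 0, 0, 1] := rfl
  have cb' : (b' : Matrix (Fin 3) (Fin 3) K) = !![1, 0, 0; 0, 1, -1; 0, 0, 1] := rfl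
  clear_value a b d e a' b'
  have sl_eq : ∀ {A B : Matrix.SpecialLinearGroup (Fin 3) K}, (A : Matrix (Fin 3) (Fin 3) K) = B → A = B :=
    fun h => Subtype.ext h
  have hai : a⁻¹ = a' := inv_eq_of_mul_eq_one_right (sl_eq (by
    simp only [Matrix.SpecialLinearGroup.coe_mul, Matrix.SpecialLinearGroup.coe_one, ca, ca']
    ext i j; fin_cases i <;> fin_cases j <;> simp [Matrix.mul_apply, Fin.sum_univ_three]))
  have hbi : b⁻¹ = b' := inv_eq_of_mul_eq_one_right (sl_eq (by
    simp only [Matrix.SpecialLinearGroup.coe_mul, Matrix.SpecialLinearGroup.coe_one, cb, cb']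
    ext i j; fin_cases i <;> fin_cases j <;> simp [Matrix.mul_apply, Fin.sum_univ_three]))
  refine ⟨mk a, mk b, mk d, mk e, ?_, ?_, ?_, ?_, ?_, ?_, ?_, ?_, ?_, ?_⟩
  · rw [← map_pow, ← map_one mk]
    refine congrArg mk (sl_eq ?_)
    rw [pow_succ, pow_two]
    simp only [Matrix.SpecialLinearGroup.coe_mul, Matrix.SpecialLinearGroup.coe_one, ca]
    ext i j
    fin_cases i <;> fin_cases j <;> simp [Matrix.mul_apply, Fin.sum_univ_three] <;> linear_combination h30
  · rw [← map_pow, ← map_one mk]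
    refine congrArg mk (sl_eq ?_)
    rw [pow_succ, pow_two]
    simp only [Matrix.SpecialLinearGroup.coe_mul, Matrix.SpecialLinearGroup.coe_one, cb]
    ext i j
    fin_cases i <;> fin_cases j <;> simp [Matrix.mul_apply, Fin.sum_univ_three] <;> linear_combination h30
  · rw [← map_mul, ← map_mul]
    refine congrArg mk (sl_eq ?_)
    simp only [Matrix.SpecialLinearGroup.coe_mul, ca, cb]
    ext i j; fin_cases i <;> fin_cases j <;> simp [Matrix.mul_apply, Fin.sum_univ_three]
  · rw [← map_one mk]; exact mk_ne _ _ (Or.inl (by rw [mul_one, hai, ca']; simp))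
  · rw [← map_one mk]; exact mk_ne _ _ (Or.inr (by rw [mul_one, hbi, cb']; simp))
  · exact mk_ne _ _ (Or.inr (by
      rw [hbi, Matrix.SpecialLinearGroup.coe_mul, cb', ca]; simp [Matrix.mul_apply, Fin.sum_univ_three]))
  · rw [← map_inv]; exact mk_ne _ _ (Or.inr (by
      rw [hbi, hai, Matrix.SpecialLinearGroup.coe_mul, cb', ca']; simp [Matrix.mul_apply, Fin.sum_univ_three]))
  · rw [← map_inv mk a, ← map_mul, mul_inv_eq_iff_eq_mul, ← map_mul, hai]
    refine congrArg mk (sl_eq ?_)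
    simp only [Matrix.SpecialLinearGroup.coe_mul, ca, ca', cd]
    ext i j; fin_cases i <;> fin_cases j <;> simp [Matrix.mul_apply, Fin.sum_univ_three]
  · rw [← map_mul, mul_inv_eq_iff_eq_mul, ← map_mul]
    refine congrArg mk (sl_eq ?_)
    simp only [Matrix.SpecialLinearGroup.coe_mul, cb, cd]
    ext i j; fin_cases i <;> fin_cases j <;> simp [Matrix.mul_apply, Fin.sum_univ_three]
  · rw [← map_inv mk b, ← map_mul, mul_inv_eq_iff_eq_mul, ← map_mul, hbi]
    refine congrArg mk (sl_eq ?_)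
    simp only [Matrix.SpecialLinearGroup.coe_mul, cb, cb', ce]
    ext i j; fin_cases i <;> fin_cases j <;> simp [Matrix.mul_apply, Fin.sum_univ_three]

namespace Shape

variable {G : Type u} [Group G] [Finite G] {F : Type v} [Field F] [Fintype F] (D : Shape G F)

set_option maxHeartbeats 1000000 in
include D in
/-- The octahedral shape leads to one of two groups. -/
theorem octa_cases
    {t : Subgroup.centralizer ({D.h} : Set G)} {g : G} (htg : (t : G) = g * D.h * g⁻¹)
    (e : D.φ.range ≃* Equiv.Perm (Fin 4))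
    (ha : ∀ x : D.φ.range, (x : PGL(2, F)) = D.φ D.u → Equiv.Perm.sign (e x) = 1)
    (hb : ∀ x : D.φ.range, (x : PGL(2, F)) = D.φ D.v → Equiv.Perm.sign (e x) = 1)
    (hc : ∀ x : D.φ.range, (x : PGL(2, F)) = D.φ t → Equiv.Perm.sign (e x) = -1) :
    (∃ (K : Type) (_ : Field K) (_ : Fintype K), Fintype.card K = 3 ∧
      Nonempty (G ≃* Matrix.ProjectiveSpecialLinearGroup (Fin 3) K)) ∨ Cfsg.Spor.IsoM11 G := by
  classical
  let η : Subgroup.centralizer ({D.h} : Set G) →* Equiv.Perm (Fin 4) := e.toMonoidHom.comp D.φ.rangeRestrict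
  have hη : Function.Surjective η := e.surjective.comp D.φ.rangeRestrict_surjective
  have hηker : ∀ x y, η x = η y → (x : G) = y ∨ (x : G) = y * D.h := fun x y h =>
    D.lift (congrArg Subtype.val (e.injective h))
  have hηh : η D.hC = 1 := by
    show e (D.φ.rangeRestrict D.hC) = 1
    rw [← map_one e]; exact congrArg e (Subtype.ext (D.φh _ rfl))
  -- the order of the centraliser
  have hker : Nat.card η.ker = 2 := by
    rw [Nat.card_eq_two_iff' 1]
    refine ⟨⟨D.hC, hηh⟩, fun h => D.h_ne (congrArg (fun z : η.ker => ((z : Subgroup.centralizer ({D.h} : Set G)) : G)) h), ?_⟩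
    rintro ⟨x, hx⟩ hne
    rcases hηker x 1 (hx.trans (map_one η).symm) with h | h
    · exact absurd (Subtype.ext (Subtype.ext h)) hne
    · exact Subtype.ext (Subtype.ext (by rw [h, Subgroup.coe_one, one_mul]; rfl))
  have hcardC : Nat.card (Subgroup.centralizer ({D.h} : Set G)) = 48 := by
    rw [Subgroup.card_eq_card_quotient_mul_card_subgroup η.ker,
      Nat.card_congr (QuotientGroup.quotientKerEquivOfSurjective η hη).toEquiv, hker, Nat.card_perm,
      Nat.card_eq_fintype_card, Fintype.card_fin]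
    rfl
  have sa : Equiv.Perm.sign (η D.u) = 1 := ha _ rfl
  have sb : Equiv.Perm.sign (η D.v) = 1 := hb _ rfl
  have sc : Equiv.Perm.sign (η t) = -1 := hc _ rfl
  have inv2 : ∀ y : Subgroup.centralizer ({D.h} : Set G), (y : G) * y = D.h → η y * η y = 1 ∧ η y ≠ 1 := by
    intro y hy
    refine ⟨by rw [← map_mul, show y * y = D.hC from Subtype.ext hy, hηh], fun h => ?_⟩
    rcases hηker y 1 (h.trans (map_one η).symm) with h' | h'
    · rw [h'] at hy; simp at hy; exact D.h_ne hy.symm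
    · rw [h', Subgroup.coe_one, one_mul, D.h_sq] at hy; exact D.h_ne hy.symm
  obtain ⟨ua, ub⟩ := inv2 _ D.u_sq
  obtain ⟨va, vb⟩ := inv2 _ D.v_sq
  have huv : η D.u ≠ η D.v := fun h => D.φ_ne (congrArg Subtype.val (e.injective h))
  -- no subgroup of index two
  have hno2 : ∀ H : Subgroup G, H.index ≠ 2 := by
    intro H hH
    have hHn : H.Normal := Subgroup.normal_of_index_eq_two hH
    have hsq : ∀ y : G, y * y ∈ H := fun y => Subgroup.mul_self_mem_of_index_two hH y
    have hh : D.h ∈ H := D.u_sq ▸ hsq _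
    have ht : (t : G) ∈ H := htg ▸ hHn.conj_mem _ hh g
    have key : ∀ c : Equiv.Perm (Fin 4), Equiv.Perm.sign c = -1 → ∀ x : Equiv.Perm (Fin 4),
        (∃ y, y * y = x) ∨ ∃ y, y * y * c = x := by decide +kernel
    have hCH : Subgroup.centralizer ({D.h} : Set G) ≤ H := by
      intro x hx
      have push : ∀ z : Subgroup.centralizer ({D.h} : Set G), η ⟨x, hx⟩ = η z → (z : G) ∈ H → x ∈ H := by
        intro z hz hzH
        rcases hηker _ _ hz with h | h
        · exact (show x = (z : G) from h) ▸ hzH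
        · exact (show x = (z : G) * D.h from h) ▸ mul_mem hzH hh
      rcases key _ sc (η ⟨x, hx⟩) with ⟨y, hy⟩ | ⟨y, hy⟩
      · obtain ⟨y, rfl⟩ := hη y
        exact push (y * y) (by rw [map_mul, hy]) (hsq _)
      · obtain ⟨y, rfl⟩ := hη y
        exact push (y * y * t) (by rw [map_mul, map_mul, hy]) (mul_mem (hsq _) ht)
    obtain ⟨P, -, -, -, hPC⟩ := D.exists_sylow
    have hdvd := Subgroup.index_dvd_of_le (hPC.trans hCH)
    rw [hH] at hdvd
    exact P.not_dvd_index hdvd
  have hO : Cfsg.pResidual 2 G = ⊤ := CfsgLib.Invol.pResidual_eq_top_of_no_index_two hno2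
  -- the quaternion subgroup
  set Q := Subgroup.closure ({D.u, D.v} : Set (Subgroup.centralizer ({D.h} : Set G))) with hQ
  have hu4 : orderOf D.u = 2 * 2 := by
    refine orderOf_eq_prime_pow (p := 2) (n := 1) (fun h => ?_) ?_
    · rw [pow_one, pow_two] at h
      exact D.h_ne (D.u_sq.symm.trans (congrArg Subtype.val h))
    · refine Subtype.ext ?_
      rw [show (2 : ℕ) ^ (1 + 1) = 2 * 2 by rfl, pow_mul, pow_two D.u, pow_two, Subgroup.coe_mul,
        Subgroup.coe_mul, D.u_sq, D.h_sq, Subgroup.coe_one]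
  have hvnot : D.v ∉ Subgroup.zpowers D.u := by
    intro h
    have h2 : ∀ y ∈ Subgroup.zpowers D.u, η y = 1 ∨ η y = η D.u := by
      rintro y ⟨i, rfl⟩
      simp only [map_zpow]
      rcases Int.even_or_odd' i with ⟨k, rfl | rfl⟩
      · left; rw [zpow_mul, zpow_two, ua, one_zpow]
      · right; rw [zpow_add_one, zpow_mul, zpow_two, ua, one_zpow, one_mul]
    rcases h2 _ h with h' | h'
    exacts [vb h', huv h'.symm]
  obtain ⟨eQ⟩ := CfsgLib.Invol.exists_mulEquiv_quaternion (n := 2) hu4 (q := D.v) (Subtype.ext (by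
      rw [pow_two, Subgroup.coe_mul, Subgroup.coe_mul, D.v_sq, D.u_sq]))
    (Subtype.ext (by
      simp only [Subgroup.coe_mul, Subgroup.coe_inv]
      rw [eq_inv_iff_mul_eq_one, D.v_u, mul_assoc D.h, mul_assoc (D.u : G), mul_inv_cancel, mul_one,
        mul_assoc, D.u_sq, D.h_sq])) hvnot
  have huQ : D.u ∈ Q := Subgroup.subset_closure (by simp)
  have hvQ : D.v ∈ Q := Subgroup.subset_closure (by simp)
  have hhQ : D.hC ∈ Q := (show D.hC = D.u * D.u from Subtype.ext D.u_sq.symm) ▸ mul_mem huQ huQ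
  have memQ : ∀ x : Subgroup.centralizer ({D.h} : Set G),
      x ∈ Q ↔ η x = 1 ∨ η x = η D.u ∨ η x = η D.v ∨ η x = η D.u * η D.v := by
    intro x
    constructor
    · intro hx
      induction hx using Subgroup.closure_induction with
      | mem y hy => rcases hy with rfl | rfl <;> simp
      | one => simp
      | mul y z _ _ iy iz =>
        have hcuv : η D.v * η D.u = η D.u * η D.v := by
          rw [← map_mul, ← map_mul, show D.v * D.u = D.hC * (D.u * D.v) from Subtype.ext D.v_u, map_mul,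
            hηh, one_mul]
        rw [map_mul]
        rcases iy with h | h | h | h <;> rcases iz with h' | h' | h' | h' <;> rw [h, h'] <;>
          simp [mul_assoc, ua, va, hcuv, ← mul_assoc (η D.u) (η D.u), ← mul_assoc (η D.v) (η D.u),
            ← mul_assoc (η D.v) (η D.v)]
      | inv y _ iy =>
        rw [map_inv]
        rcases iy with h | h | h | h <;> rw [h]
        · simp
        · rw [inv_eq_of_mul_eq_one_right ua]; simp
        · rw [inv_eq_of_mul_eq_one_right va]; simp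
        · right; right; right
          rw [_root_.mul_inv_rev, inv_eq_of_mul_eq_one_right ua, inv_eq_of_mul_eq_one_right va]
          rw [← map_mul, ← map_mul, show D.v * D.u = D.hC * (D.u * D.v) from Subtype.ext D.v_u, map_mul,
            hηh, one_mul]
    · intro hx
      have lift : ∀ z ∈ Q, η x = η z → x ∈ Q := fun z hz h => by
        rcases hηker x z h with h' | h'
        · rwa [show x = z from Subtype.ext h']
        · rw [show x = z * D.hC from Subtype.ext h']; exact mul_mem hz hhQ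
      rcases hx with h | h | h | h
      exacts [lift 1 (one_mem Q) (h.trans (map_one η).symm), lift _ huQ h, lift _ hvQ h,
        lift _ (mul_mem huQ hvQ) (h.trans (map_mul η _ _).symm)]
  have key : ∀ a : Equiv.Perm (Fin 4), Equiv.Perm.sign a = 1 → a * a = 1 → a ≠ 1 →
      ∀ b : Equiv.Perm (Fin 4), Equiv.Perm.sign b = 1 → b * b = 1 → b ≠ 1 → a ≠ b →
      ∀ k : Equiv.Perm (Fin 4), (k * a * k⁻¹ = a ∨ k * a * k⁻¹ = b ∨ k * a * k⁻¹ = a * b) ∧
        (k * b * k⁻¹ = a ∨ k * b * k⁻¹ = b ∨ k * b * k⁻¹ = a * b) := by decide +kernel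
  have hQn : Q.Normal := ⟨fun x hx k => by
    rw [memQ] at hx ⊢
    rw [map_mul, map_mul, map_inv]
    obtain ⟨k1, k2⟩ := key _ sa ua ub _ sb va vb huv (η k)
    rcases hx with h | h | h | h <;> rw [h]
    · left; group
    · rcases k1 with h1 | h1 | h1 <;> simp [h1]
    · rcases k2 with h1 | h1 | h1 <;> simp [h1]
    · rw [← conj_mul]
      rcases k1 with h1 | h1 | h1 <;> rcases k2 with h2 | h2 | h2 <;> rw [h1, h2]
      all_goals first
        | (left; exact ua)
        | (left; exact va)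
        | (right; right; right; rfl)
        | (right; right; left; rw [← mul_assoc, ua, one_mul]; done)
        | (right; left; rw [mul_assoc, va, mul_one]; done)
        | (left; rw [← map_mul, ← map_mul, show D.u * D.v * (D.u * D.v) = D.hC from Subtype.ext D.uv_sq, hηh]; done)
        | (right; right; right; rw [← map_mul, ← map_mul,
            show D.v * D.u = D.hC * (D.u * D.v) from Subtype.ext D.v_u, map_mul, hηh, one_mul]; done)
        | (right; right; left; rw [mul_assoc, ← map_mul _ D.v D.u, show D.v * D.u = D.hC * (D.u * D.v)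
            from Subtype.ext D.v_u, map_mul, hηh, one_mul, map_mul, ← mul_assoc, ua, one_mul]; done)
        | (right; left; rw [← mul_assoc, ← map_mul _ D.v D.u, show D.v * D.u = D.hC * (D.u * D.v)
            from Subtype.ext D.v_u, map_mul, hηh, one_mul, map_mul, mul_assoc, va, mul_one]; done)⟩
  have hCQ : Subgroup.centralizer (Q : Set (Subgroup.centralizer ({D.h} : Set G))) ≤ Q := by
    intro x hx
    rw [Subgroup.mem_centralizer_iff] at hx
    rw [memQ]
    have hφη : ∀ z y, D.φ z = D.φ y → η z = η y := fun z y h => congrArg e (Subtype.ext h)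
    rcases D.over_four (hx _ huQ).symm (hx _ hvQ).symm with h | h | h | h
    · exact Or.inl ((hφη _ 1 (h.trans (map_one D.φ).symm)).trans (map_one η))
    · exact Or.inr (Or.inl (hφη _ _ h))
    · exact Or.inr (Or.inr (Or.inl (hφη _ _ h)))
    · exact Or.inr (Or.inr (Or.inr ((hφη _ _ h).trans (map_mul η _ _))))
  have ht2 : t * t = 1 := Subtype.ext (by
    rw [Subgroup.coe_mul, htg, conj_mul, D.h_sq, Subgroup.coe_one]; group)
  have htQ : t ∉ Q := fun h => by
    rcases (memQ t).1 h with h' | h' | h' | h' <;> rw [h'] at sc <;> simp [sa, sb] at sc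
  obtain ⟨iso⟩ := equiv_gl hcardC Q eQ hCQ ht2 htQ
  exact Cfsg.Agent.S2916.result hO D.h (orderOf_eq_prime (by rw [pow_two, D.h_sq]) D.h_ne) ⟨iso⟩

theorem octa_contra (hfive : ∀ x g : G, x ^ 5 = 1 → x ≠ 1 → g * x * g⁻¹ = x ^ 2 → False)
    (hnine : ∀ a b d e : G, a ^ 3 = 1 → b ^ 3 = 1 → a * b = b * a → a ≠ 1 → b ≠ 1 → b ≠ a → b ≠ a⁻¹ →
      d * a * d⁻¹ = a⁻¹ → d * b * d⁻¹ = b → e * b * e⁻¹ = b⁻¹ → False)
    {t : Subgroup.centralizer ({D.h} : Set G)} {g : G} (htg : (t : G) = g * D.h * g⁻¹)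
    (e : D.φ.range ≃* Equiv.Perm (Fin 4))
    (ha : ∀ x : D.φ.range, (x : PGL(2, F)) = D.φ D.u → Equiv.Perm.sign (e x) = 1)
    (hb : ∀ x : D.φ.range, (x : PGL(2, F)) = D.φ D.v → Equiv.Perm.sign (e x) = 1)
    (hc : ∀ x : D.φ.range, (x : PGL(2, F)) = D.φ t → Equiv.Perm.sign (e x) = -1) : False := by
  classical
  rcases D.octa_cases htg e ha hb hc with ⟨K, _, _, hK, ⟨f⟩⟩ | hM11
  · -- `PSL₃(3)`
    obtain ⟨a, b, d, e, h1, h2, h3, h4, h5, h6, h7, h8, h9, h10⟩ := exists_nine_config f hK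
    exact hnine a b d e h1 h2 h3 h4 h5 h6 h7 h8 h9 h10
  · -- `M11`
    obtain ⟨f⟩ := (hM11 : Nonempty (G ≃* Cfsg.Spor.M11))
    have : IsSimpleGroup Cfsg.Spor.M11 := CfsgLib.Golay.isSimple_sporM11
    have : Fact (Nat.Prime 5) := ⟨by norm_num⟩
    obtain ⟨x, hx⟩ := exists_prime_orderOf_dvd_card' (G := Cfsg.Spor.M11) 5
      (by rw [CfsgLib.Golay.card_sporM11]; norm_num)
    obtain ⟨y, hy⟩ := exists_conj_sq (m := 1584) (by rw [CfsgLib.Golay.card_sporM11]) (by norm_num)
      (fun n e h he hn => by interval_cases e <;> omega) hx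
      (CfsgLib.Recog.OrderM11.centralizer_five CfsgLib.Golay.card_sporM11 hx)
    refine hfive (f.symm x) (f.symm y) ?_ ?_ ?_
    · rw [← map_pow, ← hx, pow_orderOf_eq_one, map_one]
    · intro h
      rw [← map_one f.symm, f.symm.injective.eq_iff] at h
      rw [h, orderOf_one] at hx; norm_num at hx
    · rw [← map_inv, ← map_mul, ← map_mul, hy, map_pow]

end Shape

end CfsgLib.MaxSub.SlThree.Extra
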