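import Cfsg.Agent.Lib.MaxSub.SlThree.ExtraObs
import Cfsg.Agent.Lib.Geom.DicksonPGL
import Cfsg.Agent.Lib.Geom.MaxSetup
import Cfsg.Agent.Lib.Geom.PSLTwoCentralizer

/-!
The plane of the involution `hG`: without transvections, the elements commuting with `hG` act on it
without unipotents, and only `1` and `hG` act as scalars modulo scalars.
-/

set_option autoImplicit false
set_option linter.unusedSectionVars false
set_option linter.unusedSimpArgs false

namespace CfsgLib.MaxSub.SlThree.Extra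

open Matrix CfsgLib.MaxSub CfsgLib.Geom.Moebius
open scoped MatrixGroups

variable {F : Type*} [Field F]

/-- `diag(-1, 1, 1)` -/
def fG : GL (Fin 3) F :=
  ⟨!![-1, 0, 0; 0, 1, 0; 0, 0, 1], !![-1, 0, 0; 0, 1, 0; 0, 0, 1],
    by ext i j; fin_cases i <;> fin_cases j <;> simp [Matrix.mul_apply, Fin.sum_univ_three],
    by ext i j; fin_cases i <;> fin_cases j <;> simp [Matrix.mul_apply, Fin.sum_univ_three]⟩

theorem coe_fG : ((fG : GL (Fin 3) F) : Matrix (Fin 3) (Fin 3) F) = !![-1, 0, 0; 0, 1, 0; 0, 0, 1] := rfl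

theorem commute_hG_iff {g : GL (Fin 3) F} : g ∈ Subgroup.centralizer {(hG : GL (Fin 3) F)} ↔
    (g : Matrix (Fin 3) (Fin 3) F) 0 2 = (g : Matrix (Fin 3) (Fin 3) F) 0 1 ∧
    (g : Matrix (Fin 3) (Fin 3) F) 2 0 = (g : Matrix (Fin 3) (Fin 3) F) 1 0 ∧
    (g : Matrix (Fin 3) (Fin 3) F) 2 2 = (g : Matrix (Fin 3) (Fin 3) F) 1 1 ∧
    (g : Matrix (Fin 3) (Fin 3) F) 2 1 = (g : Matrix (Fin 3) (Fin 3) F) 1 2 := by
  rw [Subgroup.mem_centralizer_singleton_iff, Units.ext_iff, Units.val_mul, Units.val_mul, coe_hG]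
  constructor
  · intro h
    have h1 := congrFun (congrFun h 0) 1
    have h2 := congrFun (congrFun h 1) 0
    have h3 := congrFun (congrFun h 1) 2
    have h4 := congrFun (congrFun h 1) 1
    simp [Matrix.mul_apply, Fin.sum_univ_three] at h1 h2 h3 h4
    refine ⟨?_, ?_, ?_, ?_⟩ <;> grind
  · rintro ⟨h1, h2, h3, h4⟩
    ext i j
    fin_cases i <;> fin_cases j <;>
      simp [Matrix.mul_apply, Fin.sum_univ_three, h1, h2, h3, h4, Matrix.vecMul, dotProduct]

theorem commute_fG_iff (h2 : (2 : F) ≠ 0) {g : GL (Fin 3) F} :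
    g ∈ Subgroup.centralizer {(fG : GL (Fin 3) F)} ↔
    (g : Matrix (Fin 3) (Fin 3) F) 0 1 = 0 ∧ (g : Matrix (Fin 3) (Fin 3) F) 0 2 = 0 ∧
    (g : Matrix (Fin 3) (Fin 3) F) 1 0 = 0 ∧ (g : Matrix (Fin 3) (Fin 3) F) 2 0 = 0 := by
  rw [Subgroup.mem_centralizer_singleton_iff, Units.ext_iff, Units.val_mul, Units.val_mul, coe_fG]
  constructor
  · intro h
    have h1 := congrFun (congrFun h 0) 1
    have h2 := congrFun (congrFun h 0) 2
    have h3 := congrFun (congrFun h 1) 0
    have h4 := congrFun (congrFun h 2) 0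
    simp [Matrix.mul_apply, Fin.sum_univ_three] at h1 h2 h3 h4
    refine ⟨?_, ?_, ?_, ?_⟩ <;> grind
  · rintro ⟨h1, h2, h3, h4⟩
    ext i j
    fin_cases i <;> fin_cases j <;>
      simp [Matrix.mul_apply, Fin.sum_univ_three, h1, h2, h3, h4, Matrix.vecMul, dotProduct]

/-- The action on the plane spanned by `e₀` and `e₁ + e₂`. -/
def planeH : Subgroup.centralizer {(hG : GL (Fin 3) F)} →* GL (Fin 2) F :=
  MonoidHom.toHomUnits
    { toFun := fun g => !![(g.1 : Matrix (Fin 3) (Fin 3) F) 0 0, 2 * (g.1 : Matrix (Fin 3) (Fin 3) F) 0 1;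
        (g.1 : Matrix (Fin 3) (Fin 3) F) 1 0,
        (g.1 : Matrix (Fin 3) (Fin 3) F) 1 1 + (g.1 : Matrix (Fin 3) (Fin 3) F) 1 2]
      map_one' := by ext i j; fin_cases i <;> fin_cases j <;> simp
      map_mul' := fun a b => by
        obtain ⟨a1, a2, a3, a4⟩ := commute_hG_iff.1 a.2
        obtain ⟨b1, b2, b3, b4⟩ := commute_hG_iff.1 b.2
        ext i j
        fin_cases i <;> fin_cases j <;>
          simp [Matrix.mul_apply, Fin.sum_univ_three, Fin.sum_univ_two, a1, a2, a3, a4, b1, b2, b3, b4] <;>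
          ring }

theorem coe_planeH (g : Subgroup.centralizer {(hG : GL (Fin 3) F)}) :
    (planeH g : Matrix (Fin 2) (Fin 2) F) =
      !![(g.1 : Matrix (Fin 3) (Fin 3) F) 0 0, 2 * (g.1 : Matrix (Fin 3) (Fin 3) F) 0 1;
        (g.1 : Matrix (Fin 3) (Fin 3) F) 1 0,
        (g.1 : Matrix (Fin 3) (Fin 3) F) 1 1 + (g.1 : Matrix (Fin 3) (Fin 3) F) 1 2] := rfl

/-- The action on the plane `x₀ = 0`. -/
def planeF (h2 : (2 : F) ≠ 0) : Subgroup.centralizer {(fG : GL (Fin 3) F)} →* GL (Fin 2) F :=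
  MonoidHom.toHomUnits
    { toFun := fun g => !![(g.1 : Matrix (Fin 3) (Fin 3) F) 1 1, (g.1 : Matrix (Fin 3) (Fin 3) F) 1 2;
        (g.1 : Matrix (Fin 3) (Fin 3) F) 2 1, (g.1 : Matrix (Fin 3) (Fin 3) F) 2 2]
      map_one' := by ext i j; fin_cases i <;> fin_cases j <;> simp
      map_mul' := fun a b => by
        obtain ⟨a1, a2, a3, a4⟩ := (commute_fG_iff h2).1 a.2
        obtain ⟨b1, b2, b3, b4⟩ := (commute_fG_iff h2).1 b.2
        ext i j
        fin_cases i <;> fin_cases j <;>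
          simp [Matrix.mul_apply, Fin.sum_univ_three, Fin.sum_univ_two, a1, a2, a3, a4, b1, b2, b3, b4] }

theorem coe_planeF (h2 : (2 : F) ≠ 0) (g : Subgroup.centralizer {(fG : GL (Fin 3) F)}) :
    (planeF h2 g : Matrix (Fin 2) (Fin 2) F) =
      !![(g.1 : Matrix (Fin 3) (Fin 3) F) 1 1, (g.1 : Matrix (Fin 3) (Fin 3) F) 1 2;
        (g.1 : Matrix (Fin 3) (Fin 3) F) 2 1, (g.1 : Matrix (Fin 3) (Fin 3) F) 2 2] := rfl

section prime

variable {p : ℕ} (hp : p.Prime) (hc : CharP F p)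
include hp hc

theorem eq_one_of_pow_p {x : F} (h : x ^ p = 1) : x = 1 := by
  have := Fact.mk hp
  refine sub_eq_zero.1 ((pow_eq_zero_iff hp.ne_zero).1 ?_)
  rw [sub_pow_char, h, one_pow, sub_self]

/-- A `2 × 2` matrix of order dividing the characteristic is unipotent of index two. -/
theorem sq_zero_of_pow_p {B : Matrix (Fin 2) (Fin 2) F} (h : B ^ p = 1) :
    (B 0 0 - 1) + (B 1 1 - 1) = 0 ∧ (B 0 0 - 1) * (B 1 1 - 1) - B 0 1 * B 1 0 = 0 := by
  have := Fact.mk hp
  have : CharP (Matrix (Fin 2) (Fin 2) F) p := Matrix.charP p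
  set N := B - 1 with hN
  have hNp : N ^ p = 0 := by
    rw [hN, sub_pow_char_of_commute p (Commute.one_right B), h, one_pow, sub_self]
  have hdet : N.det = 0 := by
    have := congrArg Matrix.det hNp
    rw [Matrix.det_pow, Matrix.det_zero] at this
    exact pow_eq_zero_iff hp.ne_zero |>.1 this
  have hd : (B 0 0 - 1) * (B 1 1 - 1) - B 0 1 * B 1 0 = 0 := by
    rw [← hdet, Matrix.det_fin_two]
    simp [hN]
  refine ⟨?_, hd⟩
  set t := (B 0 0 - 1) + (B 1 1 - 1) with ht
  have hsq : N * N = t • N := by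
    ext i j
    fin_cases i <;> fin_cases j <;> simp [hN, Matrix.mul_apply, Fin.sum_univ_two, ht] <;> grind
  have hk : ∀ k : ℕ, N ^ (k + 1) = t ^ k • N := by
    intro k
    induction k with
    | zero => simp
    | succ k ih => rw [pow_succ, ih, Matrix.smul_mul, hsq, smul_smul, ← pow_succ]
  obtain ⟨k, hk'⟩ := Nat.exists_eq_succ_of_ne_zero hp.ne_zero
  rw [hk', hk, smul_eq_zero] at hNp
  rcases hNp with h0 | h0
  · exact eq_zero_of_pow_eq_zero h0
  · have e0 := congrFun (congrFun h0 0) 0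
    have e1 := congrFun (congrFun h0 1) 1
    simp [hN] at e0 e1
    rw [ht]; linear_combination e0 + e1

variable [Finite F] {M : Subgroup (GL (Fin 3) F)} (hT : NoTv M) (h2 : (2 : F) ≠ 0)
include hT h2

theorem not_dvd_card_hG : ¬ p ∣ Nat.card (M ⊓ Subgroup.centralizer {hG} : Subgroup (GL (Fin 3) F)) := by
  intro hdvd
  have := Fact.mk hp
  obtain ⟨⟨g, hgM, hgC⟩, hg⟩ := exists_prime_orderOf_dvd_card'
    (G := (M ⊓ Subgroup.centralizer {hG} : Subgroup (GL (Fin 3) F))) p hdvd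
  rw [← Subgroup.orderOf_coe] at hg
  change orderOf g = p at hg
  have hgp : g ^ p = 1 := hg ▸ pow_orderOf_eq_one g
  have hne : g ≠ 1 := fun e => by rw [e, orderOf_one] at hg; exact hp.ne_one hg.symm
  have hB : (planeH ⟨g, hgC⟩ : Matrix (Fin 2) (Fin 2) F) ^ p = 1 := by
    rw [← Units.val_pow_eq_pow_val, ← map_pow, show (⟨g, hgC⟩ : Subgroup.centralizer {hG}) ^ p = 1 from
      Subtype.ext hgp, map_one, Units.val_one]
  obtain ⟨ht, hd⟩ := sq_zero_of_pow_p hp hc hB
  obtain ⟨a1, a2, a3, a4⟩ := commute_hG_iff.1 hgC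
  have hdet : (g : Matrix (Fin 3) (Fin 3) F).det = 1 := by
    refine eq_one_of_pow_p hp hc ?_
    rw [← Matrix.det_pow, ← Units.val_pow_eq_pow_val, hgp, Units.val_one, Matrix.det_one]
  rw [coe_planeH] at ht hd
  simp at ht hd
  set α := (g : Matrix (Fin 3) (Fin 3) F) 0 0 - 1 with hα
  set b := (g : Matrix (Fin 3) (Fin 3) F) 0 1
  set c := (g : Matrix (Fin 3) (Fin 3) F) 1 0
  set d := (g : Matrix (Fin 3) (Fin 3) F) 1 1
  set e := (g : Matrix (Fin 3) (Fin 3) F) 1 2
  have hμ : d - e = 1 := by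
    rw [Matrix.det_fin_three, a1, a2, a3, a4] at hdet
    have hp2 : (α + 1) * (d + e) - 2 * b * c = 1 := by linear_combination hd + ht
    linear_combination hdet - (d - e) * hp2
  have he : 2 * e = -α := by linear_combination ht - hμ
  have ha : (g : Matrix (Fin 3) (Fin 3) F) 0 0 = 1 + α := by rw [hα]; ring
  have hform : (g : Matrix (Fin 3) (Fin 3) F) =
      !![1 + α, b, b; c, 1 + e, e; c, e, 1 + e] := by
    ext i j
    fin_cases i <;> fin_cases j <;> simp [a1, a2, a3, a4, ha, b, c, d, e] <;> linear_combination hμ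
  by_cases hc : c = 0
  · have hα0 : α = 0 := eq_zero_of_pow_eq_zero (n := 2) (by
      rw [hc] at hd; linear_combination -hd + α * ht)
    have he0 : e = 0 := (mul_eq_zero.1 (by rw [he, hα0, neg_zero])).resolve_left h2
    rcases hT ![1, 0, 0] ![0, b, b] ⟨by simp [dot_three], g, hgM, by
        rw [hform, hc, hα0, he0]
        ext i j; fin_cases i <;> fin_cases j <;> simp [tvMat, vecMulVec_apply]⟩ with h | h
    · simpa using congrFun h 0
    · have hb : b = 0 := by simpa using congrFun h 1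
      refine hne (Units.ext ?_)
      rw [hform, hc, hα0, he0, hb, Units.val_one]
      ext i j; fin_cases i <;> fin_cases j <;> simp
  · rcases hT ![α, c, c] ![1, e / c, e / c] ⟨by simp [dot_three]; field_simp; linear_combination he,
        g, hgM, by
        rw [hform]
        ext i j
        fin_cases i <;> fin_cases j <;> simp [tvMat, vecMulVec_apply] <;> field_simp <;> grind⟩ with h | h
    · exact hc (by simpa using congrFun h 1)
    · simpa using congrFun h 0

theorem not_dvd_card_fG : ¬ p ∣ Nat.card (M ⊓ Subgroup.centralizer {fG} : Subgroup (GL (Fin 3) F)) := by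
  intro hdvd
  have := Fact.mk hp
  obtain ⟨⟨g, hgM, hgC⟩, hg⟩ := exists_prime_orderOf_dvd_card'
    (G := (M ⊓ Subgroup.centralizer {fG} : Subgroup (GL (Fin 3) F))) p hdvd
  rw [← Subgroup.orderOf_coe] at hg
  change orderOf g = p at hg
  have hgp : g ^ p = 1 := hg ▸ pow_orderOf_eq_one g
  have hne : g ≠ 1 := fun e => by rw [e, orderOf_one] at hg; exact hp.ne_one hg.symm
  have hB : (planeF h2 ⟨g, hgC⟩ : Matrix (Fin 2) (Fin 2) F) ^ p = 1 := by
    rw [← Units.val_pow_eq_pow_val, ← map_pow, show (⟨g, hgC⟩ : Subgroup.centralizer {fG}) ^ p = 1 from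
      Subtype.ext hgp, map_one, Units.val_one]
  obtain ⟨ht, hd⟩ := sq_zero_of_pow_p hp hc hB
  obtain ⟨a1, a2, a3, a4⟩ := (commute_fG_iff h2).1 hgC
  have hdet : (g : Matrix (Fin 3) (Fin 3) F).det = 1 := by
    refine eq_one_of_pow_p hp hc ?_
    rw [← Matrix.det_pow, ← Units.val_pow_eq_pow_val, hgp, Units.val_one, Matrix.det_one]
  rw [coe_planeF] at ht hd
  simp at ht hd
  set α := (g : Matrix (Fin 3) (Fin 3) F) 1 1 - 1 with hα
  set b := (g : Matrix (Fin 3) (Fin 3) F) 1 2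
  set c := (g : Matrix (Fin 3) (Fin 3) F) 2 1
  have hf : (g : Matrix (Fin 3) (Fin 3) F) 0 0 = 1 := by
    rw [Matrix.det_fin_three, a1, a2, a3, a4] at hdet
    linear_combination hdet - (g : Matrix (Fin 3) (Fin 3) F) 0 0 * (hd + ht)
  have hd' : (g : Matrix (Fin 3) (Fin 3) F) 2 2 = 1 - α := by linear_combination ht
  have ha : (g : Matrix (Fin 3) (Fin 3) F) 1 1 = 1 + α := by rw [hα]; ring
  have hform : (g : Matrix (Fin 3) (Fin 3) F) = !![1, 0, 0; 0, 1 + α, b; 0, c, 1 - α] := by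
    ext i j
    fin_cases i <;> fin_cases j <;> simp [a1, a2, a3, a4, ha, hf, hd', b, c]
  by_cases hc : c = 0
  · have hα0 : α = 0 := eq_zero_of_pow_eq_zero (n := 2) (by
      rw [hc] at hd; linear_combination -hd + α * ht)
    rcases hT ![0, 1, 0] ![0, 0, b] ⟨by simp [dot_three], g, hgM, by
        rw [hform, hc, hα0]
        ext i j; fin_cases i <;> fin_cases j <;> simp [tvMat, vecMulVec_apply]⟩ with h | h
    · simpa using congrFun h 1
    · have hb : b = 0 := by simpa using congrFun h 2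
      refine hne (Units.ext ?_)
      rw [hform, hc, hα0, hb, Units.val_one]
      ext i j; fin_cases i <;> fin_cases j <;> simp
  · rcases hT ![0, α, c] ![0, 1, -(α / c)] ⟨by simp [dot_three]; field_simp; ring,
        g, hgM, by
        rw [hform]
        ext i j
        fin_cases i <;> fin_cases j <;> simp [tvMat, vecMulVec_apply] <;> field_simp <;> grind⟩ with h | h
    · exact hc (by simpa using congrFun h 2)
    · simpa using congrFun h 1

end prime

/-- The possibilities for a subgroup of `PGL₂` in characteristic `p` of order prime to `p`. -/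
theorem pgl_cases_coprime {E : Type*} [Field E] [Fintype (Line E)] (f : F →+* E) [Fintype F] {p : ℕ}
    (hp : p.Prime) (hc' : CharP F p) (hp2 : p ≠ 2) (hE : QuadClosed f) (X : Subgroup PGL(2, F))
    (hX : X ≠ ⊥) (hcop : ¬ p ∣ Nat.card X) :
    (∃ P : Line F, ∀ x ∈ X, x • P = P) ∨
    (∃ P Q : Line E, P ≠ Q ∧ X ≤ pairStab f P Q ∧
      ∃ g ∈ X, g ≠ 1 ∧ extHom f g • P = P ∧ extHom f g • Q = Q) ∨
    (Nonempty (X ≃* alternatingGroup (Fin 4)) ∧ Nat.card X = 12) ∨
    (Nonempty (X ≃* Equiv.Perm (Fin 4)) ∧ Nat.card X = 24) ∨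
    (Nonempty (X ≃* alternatingGroup (Fin 5)) ∧ Nat.card X = 60) := by
  have := Fact.mk hp
  cases dicksonPGL f p hE X hX with
  | point P h => exact .inl ⟨P, h⟩
  | pair P Q hPQ hle hg => exact .inr (.inl ⟨P, Q, hPQ, hle, hg⟩)
  | tetrahedral h hcard => exact .inr (.inr (.inl ⟨h, hcard⟩))
  | octahedral h hcard => exact .inr (.inr (.inr (.inl ⟨h, hcard⟩)))
  | icosahedral h2 h hcard => exact .inr (.inr (.inr (.inr ⟨h, hcard⟩)))
  | subfieldGroup K u hu hK m hle hcard =>
    exfalso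
    have hd : p ∣ (u + 1) * (u * (u - 1)) := by
      refine dvd_mul_of_dvd_right (dvd_mul_of_dvd_left ?_ _) _
      refine (CharP.cast_eq_zero_iff F p u).1 ?_
      have h0 : Nat.card K • (1 : K) = 0 := card_nsmul_eq_zero'
      have h1 := congrArg K.subtype h0
      rw [map_nsmul, map_one, map_zero, nsmul_one] at h1
      rw [← hK]
      exact h1
    rcases hcard with h | h
    · exact hcop (h ▸ hd)
    · rw [← h] at hd
      rcases hp.dvd_mul.1 hd with h' | h'
      · exact hp2 ((Nat.prime_dvd_prime_iff_eq hp Nat.prime_two).1 h')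
      · exact hcop h'

/-- A common eigenvector of two elements of a group fixing a point. -/
theorem eigen_of_fixed {A : GL (Fin 2) F} {v : Fin 2 → F} {hv : v ≠ 0}
    (h : ProjGenLinGroup.mk A • Projectivization.mk F v hv = Projectivization.mk F v hv) :
    ∃ t : F, (A : Matrix (Fin 2) (Fin 2) F) *ᵥ v = t • v := by
  rw [Projectivization.PGL.mk_smul_mk, Projectivization.mk_eq_mk_iff'] at h
  obtain ⟨t, ht⟩ := h
  exact ⟨t, by simpa [Units.smul_def, smul_eq_mulVec] using ht.symm⟩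

theorem mk_eq_one_iff {A : GL (Fin 2) F} : ProjGenLinGroup.mk A = 1 ↔
    (A : Matrix (Fin 2) (Fin 2) F) 0 1 = 0 ∧ (A : Matrix (Fin 2) (Fin 2) F) 1 0 = 0 ∧
      (A : Matrix (Fin 2) (Fin 2) F) 0 0 = (A : Matrix (Fin 2) (Fin 2) F) 1 1 := by
  constructor
  · intro h
    obtain ⟨c, hc⟩ := ProjGenLinGroup.mk_eq_mk_iff.1 (h.trans ProjGenLinGroup.mk_one.symm).symm
    rw [one_mul] at hc
    rw [← hc]
    simp
  · rintro ⟨h1, h2, h3⟩
    refine ProjGenLinGroup.mk_eq_one.2 (Subgroup.mem_center_iff.2 fun g => Units.ext ?_)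
    rw [Units.val_mul, Units.val_mul]
    ext i j
    fin_cases i <;> fin_cases j <;> simp [Matrix.mul_apply, Fin.sum_univ_two, h1, h2, h3, mul_comm]

variable {w : F} {hw : Root w} {M : Subgroup (GL (Fin 3) F)}

theorem Over.plane_kernel [Fintype F] (hM : Over hw M) (hT : NoTv M) {p : ℕ} (hp : p.Prime)
    (hc : CharP F p) {g : GL (Fin 3) F} (hg : g ∈ M)
    (hC : g ∈ Subgroup.centralizer {(hG : GL (Fin 3) F)})
    (hk : ProjGenLinGroup.mk (planeH ⟨g, hC⟩) = 1) : proj g = 1 ∨ proj g = proj hG := by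
  obtain ⟨a1, a2, a3, a4⟩ := commute_hG_iff.1 hC
  obtain ⟨k1, k2, k3⟩ := mk_eq_one_iff.1 hk
  rw [coe_planeH] at k1 k2 k3
  simp at k1 k2 k3
  have h2 := hw.two
  replace k1 : (g : Matrix (Fin 3) (Fin 3) F) 0 1 = 0 := k1.resolve_left h2
  have hgf : g ∈ Subgroup.centralizer {(fG : GL (Fin 3) F)} :=
    (commute_fG_iff h2).2 ⟨k1, a1.trans k1, k2, a2.trans k2⟩
  have hdf : dG hw ∈ Subgroup.centralizer {(fG : GL (Fin 3) F)} :=
    (commute_fG_iff h2).2 (by rw [coe_dG]; simp)
  have hhf : hG ∈ Subgroup.centralizer {(fG : GL (Fin 3) F)} :=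
    (commute_fG_iff h2).2 (by rw [coe_hG]; simp)
  set K := (M ⊓ Subgroup.centralizer {fG} : Subgroup (GL (Fin 3) F)) with hK
  let ρ : K →* PGL(2, F) := (ProjGenLinGroup.mk.comp (planeF h2)).comp (Subgroup.inclusion inf_le_right)
  set τ := ρ ⟨dG hw, hM.d_mem, hdf⟩ with hτd
  set η := ρ ⟨hG, hM.h_mem, hhf⟩ with hηd
  set z := ρ ⟨g, hg, hgf⟩ with hzd
  have hη2 : η * η = 1 := by
    rw [hηd, ← map_mul, show (⟨hG, hM.h_mem, hhf⟩ : K) * ⟨hG, hM.h_mem, hhf⟩ = 1 from
      Subtype.ext hG_mul_hG, map_one]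
  have hτ3 : τ * τ * τ = 1 := by
    rw [hτd, ← map_mul, ← map_mul, show (⟨dG hw, hM.d_mem, hdf⟩ : K) * ⟨dG hw, hM.d_mem, hdf⟩ *
      ⟨dG hw, hM.d_mem, hdf⟩ = 1 from Subtype.ext (by
        show dG hw * dG hw * dG hw = 1
        rw [← dG_pow_three hw, pow_succ, pow_two]), map_one]
  have hτ1 : τ ≠ 1 := fun h => by
    obtain ⟨-, -, h3⟩ := mk_eq_one_iff.1 h
    rw [coe_planeF] at h3
    simp [coe_dG] at h3
    exact hw.sq_ne_self h3.symm
  have hη1 : η ≠ 1 := fun h => by
    obtain ⟨h3, -⟩ := mk_eq_one_iff.1 h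
    rw [coe_planeF] at h3
    simp [coe_hG] at h3
  have hinv : η * τ * η = τ * τ := by
    rw [hηd, hτd, ← map_mul, ← map_mul, ← map_mul]
    refine congrArg ρ (Subtype.ext (Units.ext ?_))
    show (((hG * dG hw * hG : GL (Fin 3) F)) : Matrix (Fin 3) (Fin 3) F) = ((dG hw * dG hw : GL (Fin 3) F) : Matrix _ _ _)
    simp only [Units.val_mul, coe_hG, coe_dG]
    have := hw.eq
    ext i j; fin_cases i <;> fin_cases j <;> simp [Matrix.mul_apply, Fin.sum_univ_three] <;> grind
  have hηz : η * z = z * η := by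
    rw [hηd, hzd, ← map_mul, ← map_mul]
    exact congrArg ρ (Subtype.ext (Subgroup.mem_centralizer_singleton_iff.1 hC).symm)
  have hz2 : z * z = 1 := by
    obtain ⟨E, _, _, f, hE, hQC⟩ := exists_quadExt F
    have hXne : ρ.range ≠ ⊥ := fun e => hτ1 (by
      have h : τ ∈ ρ.range := ⟨_, rfl⟩
      rwa [e, Subgroup.mem_bot] at h)
    have hp2 : p ≠ 2 := fun e => by
      exact h2 (by exact_mod_cast (CharP.cast_eq_zero_iff F p 2).2 (e ▸ dvd_rfl))
    have hτX : τ ∈ ρ.range := ⟨_, rfl⟩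
    have hηX : η ∈ ρ.range := ⟨_, rfl⟩
    have hzX : z ∈ ρ.range := ⟨_, rfl⟩
    rcases pgl_cases_coprime f hp hc hp2 hQC ρ.range hXne (fun h => not_dvd_card_fG hp hc hT h2
      (h.trans (Subgroup.card_range_dvd ρ))) with
      ⟨P, hP⟩ | ⟨P, Q, hPQ, hle, -⟩ | ⟨⟨e⟩, -⟩ | ⟨⟨e⟩, -⟩ | ⟨⟨e⟩, -⟩
    · exfalso
      induction P using Projectivization.ind with | _ v hv =>
      obtain ⟨t, ht⟩ := eigen_of_fixed (hP τ hτX)
      obtain ⟨s, hs⟩ := eigen_of_fixed (hP η hηX)
      have t0 := congrFun ht 0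
      have t1 := congrFun ht 1
      have s0 := congrFun hs 0
      have s1 := congrFun hs 1
      simp [ρ, coe_planeF, coe_dG, coe_hG, Matrix.mulVec, dotProduct, Fin.sum_univ_two] at t0 t1 s0 s1
      have := hw.sq_ne_self
      refine hv (funext fun i => ?_)
      fin_cases i <;> simp <;> grind
    · obtain ⟨-, hcases⟩ : True ∧ ∀ x ∈ ρ.range, (extHom f x • P = P ∧ extHom f x • Q = Q) ∨ x * x = 1 :=
        ⟨trivial, fun x hx => by
          rcases (mem_pairStab f).1 (hle hx) with h | ⟨a, b⟩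
          exacts [Or.inl h, Or.inr (sq_eq_one_of_swap f hQC hPQ a b)]⟩
      have hτT : extHom f τ • P = P ∧ extHom f τ • Q = Q :=
        (hcases τ hτX).resolve_right fun h => hτ1 (by rwa [h, one_mul] at hτ3)
      obtain ⟨hcyc, -, -⟩ := torus_pair f hE hQC hPQ hτ1 hτT.1 hτT.2
      rcases hcases z hzX with hzT | h
      swap
      · exact h
      have hT' : ∀ x y : PGL(2, F), x ∈ (fixExt f P ⊓ fixExt f Q : Subgroup PGL(2, F)) →
          y ∈ (fixExt f P ⊓ fixExt f Q : Subgroup PGL(2, F)) → x * y = y * x := fun x y hx hy =>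
        congrArg Subtype.val (IsCyclic.commGroup.mul_comm (⟨x, hx⟩ : (fixExt f P ⊓ fixExt f Q : Subgroup PGL(2, F))) ⟨y, hy⟩)
      have hηn : ¬ η ∈ (fixExt f P ⊓ fixExt f Q : Subgroup PGL(2, F)) := fun h => by
        rw [hT' η τ h hτT, mul_assoc, hη2, mul_one, eq_comm, mul_eq_right] at hinv
        exact hτ1 hinv
      have hηzn : ¬ η * z ∈ (fixExt f P ⊓ fixExt f Q : Subgroup PGL(2, F)) := fun h =>
        hηn (by simpa using mul_mem h (inv_mem (show z ∈ (fixExt f P ⊓ fixExt f Q : Subgroup PGL(2, F)) from hzT)))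
      have := (hcases _ (mul_mem hηX hzX)).resolve_left fun h => hηzn h
      rwa [mul_assoc, ← mul_assoc z, ← hηz, mul_assoc η z, ← mul_assoc η η, hη2, one_mul] at this
    · have key' : ∀ a : Equiv.Perm (Fin 4), Equiv.Perm.sign a = 1 → a * a = 1 → a ≠ 1 →
          ∀ b : Equiv.Perm (Fin 4), Equiv.Perm.sign b = 1 → a * b = b * a → b * b = 1 := by
        decide +kernel
      have key : ∀ a b : alternatingGroup (Fin 4), a * a = 1 → a ≠ 1 → a * b = b * a → b * b = 1 :=
        fun a b ha hne hab => Subtype.ext (key' a.1 a.2 (congrArg Subtype.val ha)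
          (fun h => hne (Subtype.ext h)) b.1 b.2 (congrArg Subtype.val hab))
      have := congrArg e.symm (key (e ⟨η, hηX⟩) (e ⟨z, hzX⟩) (by rw [← map_mul, ← map_one e]; exact congrArg e (Subtype.ext hη2))
        (fun h => hη1 (congrArg Subtype.val (e.injective (h.trans (map_one e).symm))))
        (by rw [← map_mul, ← map_mul]; exact congrArg e (Subtype.ext hηz)))
      simpa using congrArg Subtype.val this
    · have key : ∀ a : Equiv.Perm (Fin 4), a * a = 1 → ∀ t : Equiv.Perm (Fin 4), t * t * t = 1 → t ≠ 1 →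
          a * t * a = t * t → ∀ b : Equiv.Perm (Fin 4), a * b = b * a → b * b = 1 := by decide +kernel
      have := congrArg e.symm (key (e ⟨η, hηX⟩) (by rw [← map_mul, ← map_one e]; exact congrArg e (Subtype.ext hη2))
        (e ⟨τ, hτX⟩) (by rw [← map_mul, ← map_mul, ← map_one e]; exact congrArg e (Subtype.ext hτ3))
        (fun h => hτ1 (congrArg Subtype.val (e.injective (h.trans (map_one e).symm))))
        (by rw [← map_mul, ← map_mul, ← map_mul]; exact congrArg e (Subtype.ext hinv))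
        (e ⟨z, hzX⟩) (by rw [← map_mul, ← map_mul]; exact congrArg e (Subtype.ext hηz)))
      simpa using congrArg Subtype.val this
    · have key' : ∀ a : Equiv.Perm (Fin 5), a * a = 1 → a ≠ 1 → Equiv.Perm.sign a = 1 →
          ∀ b : Equiv.Perm (Fin 5), a * b = b * a → Equiv.Perm.sign b = 1 → b * b = 1 := by decide +kernel
      have key : ∀ a : alternatingGroup (Fin 5), a * a = 1 → a ≠ 1 →
          ∀ b : alternatingGroup (Fin 5), a * b = b * a → b * b = 1 :=
        fun a ha hne b hab => Subtype.ext (key' a.1 (congrArg Subtype.val ha)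
          (fun h => hne (Subtype.ext h)) a.2 b.1 (congrArg Subtype.val hab) b.2)
      have := congrArg e.symm (key (e ⟨η, hηX⟩) (by rw [← map_mul, ← map_one e]; exact congrArg e (Subtype.ext hη2))
        (fun h => hη1 (congrArg Subtype.val (e.injective (h.trans (map_one e).symm))))
        (e ⟨z, hzX⟩) (by rw [← map_mul, ← map_mul]; exact congrArg e (Subtype.ext hηz)))
      simpa using congrArg Subtype.val this
  rw [hzd, ← map_mul] at hz2
  obtain ⟨z1, -, -⟩ := mk_eq_one_iff.1 hz2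
  rw [coe_planeF] at z1
  simp [Matrix.mul_apply, Fin.sum_univ_three, a1, a2, a3, a4, k1, k2] at z1
  set d := (g : Matrix (Fin 3) (Fin 3) F) 1 1 with hd
  set e := (g : Matrix (Fin 3) (Fin 3) F) 1 2 with he
  have hde : d = 0 ∨ e = 0 := mul_eq_zero.1 ((mul_eq_zero.1 (show 2 * (d * e) = 0 by linear_combination z1)).resolve_left h2)
  rcases hde with h0 | h0
  · right
    refine proj_eq_iff.2 ⟨-e, ?_⟩
    rw [coe_hG]
    ext i j
    fin_cases i <;> fin_cases j <;> simp [a1, a2, a3, a4, k1, k2, k3, ← hd, ← he, h0]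
  · left
    refine proj_eq_one.2 (scalars_iff.2 ⟨d, ?_⟩)
    rw [Units.val_one]
    ext i j
    fin_cases i <;> fin_cases j <;> simp [a1, a2, a3, a4, k1, k2, k3, ← hd, ← he, h0]

end CfsgLib.MaxSub.SlThree.Extra
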