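import Cfsg.Agent.Lib.MaxSub.SlThree.ExtraPlane
import Cfsg.Agent.S0205
import Cfsg.Agent.S0215

/-!
A finite group with an involution whose centraliser, modulo it, is a subgroup of `PGL₂(p)` of order prime
to `p` containing a quaternion four-group: octahedral or dihedral type.
-/

set_option autoImplicit false
set_option linter.unusedSectionVars false
set_option linter.unusedSimpArgs false
set_option synthInstance.maxSize 4096
set_option synthInstance.maxHeartbeats 200000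

namespace CfsgLib.MaxSub.SlThree.Extra

open CfsgLib.Geom.Moebius
open scoped MatrixGroups

universe u v

/-- The abstract data. -/
structure Shape (G : Type u) [Group G] (F : Type v) [Field F] [Fintype F] where
  p : ℕ
  hp : p.Prime
  char : CharP F p
  hp2 : p ≠ 2
  h : G
  h_sq : h * h = 1
  h_ne : h ≠ 1
  φ : Subgroup.centralizer ({h} : Set G) →* PGL(2, F)
  coprime : ¬ p ∣ Nat.card φ.range
  ker : ∀ x, φ x = 1 → x = 1 ∨ (x : G) = h
  φh : ∀ x : Subgroup.centralizer ({h} : Set G), (x : G) = h → φ x = 1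
  u : Subgroup.centralizer ({h} : Set G)
  v : Subgroup.centralizer ({h} : Set G)
  u_sq : (u : G) * u = h
  v_sq : (v : G) * v = h
  v_u : (v : G) * u = h * (u * v)
  r : G
  s : G
  r_three : r ^ 3 = 1
  s_three : s ^ 3 = 1
  r_s : r * s = s * r
  r_notin : r ∉ Subgroup.zpowers s
  s_notin : s ∉ Subgroup.zpowers r
  h_r : h * r * h⁻¹ = r⁻¹
  h_s : h * s * h⁻¹ = s⁻¹
  self_cent : ∀ x, x * r = r * x → x * s = s * x → ∃ j k : ℕ, j < 3 ∧ k < 3 ∧ x = r ^ j * s ^ k
  nosol : ∀ N : Subgroup G, N.Normal → Group.IsSolvable N → N = ⊥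

/-- The two possible shapes of the image. -/
inductive ImageCase {H : Type*} [Group H] (X : Subgroup H) (a b c : H) : Prop
  | octa (e : X ≃* Equiv.Perm (Fin 4)) (ha : ∀ x : X, (x : H) = a → Equiv.Perm.sign (e x) = 1)
      (hb : ∀ x : X, (x : H) = b → Equiv.Perm.sign (e x) = 1)
      (hc : ∀ x : X, (x : H) = c → Equiv.Perm.sign (e x) = -1)
  | pair (T : Subgroup H) (hcyc : IsCyclic T) (hcomm : ∀ x ∈ T, ∀ y ∈ T, x * y = y * x)
      (hone : ∀ x ∈ T, ∀ y ∈ T, x * x = 1 → y * y = 1 → x ≠ 1 → y ≠ 1 → x = y)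
      (hout : ∀ x ∈ X, x ∉ T → x * x = 1) (hprod : ∀ x ∈ X, ∀ y ∈ X, x ∉ T → y ∉ T → x * y ∈ T)
      (hc : c ∉ T)

/-- Two commuting involutions of `PGL₂` fix no common rational point, in odd characteristic. -/
theorem no_common_fixed {F : Type v} [Field F] (h2 : (2 : F) ≠ 0) {a b : PGL(2, F)} {P : Line F}
    (ha : a • P = P) (hb : b • P = P) (ha2 : a * a = 1) (hb2 : b * b = 1) (ha1 : a ≠ 1) (hb1 : b ≠ 1)
    (hab : a * b = b * a) : a = b := by
  obtain ⟨m, hm⟩ := exists_map1 P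
  have key : ∀ g : PGL(2, F), g • P = P → (m⁻¹ * g * m) • (inf : Line F) = inf := fun g hg => by
    rw [mul_smul, mul_smul, hm, hg, inv_smul_eq_iff, hm]
  obtain ⟨α, β, hα⟩ := exists_aff_of_fix (key a ha)
  obtain ⟨γ, δ, hγ⟩ := exists_aff_of_fix (key b hb)
  have inv : ∀ (g : PGL(2, F)) (x : Fˣ) (y : F), g * g = 1 → g ≠ 1 → m⁻¹ * g * m = aff x y → x = -1 := by
    intro g x y hg hg1 he
    have h1 : aff x y * aff x y = aff 1 0 := by
      rw [← he, aff_one, show m⁻¹ * g * m * (m⁻¹ * g * m) = m⁻¹ * (g * g) * m by group, hg]; group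
    rw [aff_mul] at h1
    obtain ⟨hx, hy⟩ := aff_inj h1
    rcases mul_self_eq_one_iff.1 (show (x : F) * x = 1 by rw [← Units.val_mul, hx, Units.val_one]) with h | h
    · exfalso
      have hy0 : y = 0 := by
        rw [h, one_mul] at hy
        exact (mul_eq_zero.1 (show 2 * y = 0 by linear_combination hy)).resolve_left h2
      rw [hy0, show x = 1 from Units.ext h, aff_one] at he
      refine hg1 ?_
      have := congrArg (fun z => m * z * m⁻¹) he
      simpa [mul_assoc] using this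
    · exact Units.ext (by rw [h]; rfl)
  have hα1 := inv a α β ha2 ha1 hα
  have hγ1 := inv b γ δ hb2 hb1 hγ
  rw [hα1] at hα
  rw [hγ1] at hγ
  have hc : aff (-1 : Fˣ) β * aff (-1) δ = aff (-1) δ * aff (-1) β := by
    rw [← hα, ← hγ, show m⁻¹ * a * m * (m⁻¹ * b * m) = m⁻¹ * (a * b) * m by group, hab]; group
  rw [aff_mul, aff_mul] at hc
  have := (aff_inj hc).2
  simp at this
  have hβδ : β = δ := by
    refine sub_eq_zero.1 ((mul_eq_zero.1 (show 2 * (β - δ) = 0 by linear_combination this)).resolve_left h2)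
  rw [hβδ, ← hγ] at hα
  simpa [mul_assoc] using hα

/-- A four-group in a subgroup of `PGL₂(p)` of order prime to `p`. -/
theorem four_image {F : Type v} [Field F] [Fintype F] {p : ℕ} (hp : p.Prime) (hc : CharP F p)
    (hp2 : p ≠ 2) {X : Subgroup PGL(2, F)} (hX : ¬ p ∣ Nat.card X) {a b : PGL(2, F)} (ha : a ∈ X)
    (hb : b ∈ X) (ha2 : a * a = 1) (hb2 : b * b = 1) (ha1 : a ≠ 1) (hb1 : b ≠ 1) (hab : a ≠ b)
    (hcomm : a * b = b * a) :
    (∀ x ∈ X, x * a = a * x → x * b = b * x → x = 1 ∨ x = a ∨ x = b ∨ x = a * b) ∧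
      ∀ c ∈ X, c * c = 1 → c ≠ 1 →
        (∀ g ∈ X, g * a * g⁻¹ ≠ c ∧ g * b * g⁻¹ ≠ c ∧ g * (a * b) * g⁻¹ ≠ c) → ImageCase X a b c := by
  have h2 : (2 : F) ≠ 0 := fun h => by
    exact hp2 ((Nat.prime_dvd_prime_iff_eq hp Nat.prime_two).1 ((CharP.cast_eq_zero_iff F p 2).1
      (by exact_mod_cast h)))
  have hab1 : a * b ≠ 1 := fun h => hab ((eq_inv_of_mul_eq_one_left h).trans (inv_eq_of_mul_eq_one_right hb2))
  have habab : a * b * (a * b) = 1 := by
    rw [mul_assoc, ← mul_assoc b, ← hcomm, mul_assoc a b b, hb2, mul_one, ha2]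
  -- transporting identities along an isomorphism
  have tr : ∀ {K : Type} [Group K] (e : X ≃* K) (x y : PGL(2, F)) (hx : x ∈ X) (hy : y ∈ X), x = y ↔
      e ⟨x, hx⟩ = e ⟨y, hy⟩ := fun e x y hx hy => by simp
  obtain ⟨E, _, _, f, hE, hQC⟩ := exists_quadExt F
  rcases pgl_cases_coprime f hp hc hp2 hQC X (fun h => ha1 (by rwa [h, Subgroup.mem_bot] at ha)) hX with
    ⟨P, hP⟩ | ⟨P, Q, hPQ, hle, g0, hg0, hg01, hg0P, hg0Q⟩ | ⟨⟨e⟩, -⟩ | ⟨⟨e⟩, -⟩ | ⟨⟨e⟩, -⟩
  · exact absurd (no_common_fixed h2 (hP a ha) (hP b hb) ha2 hb2 ha1 hb1 hcomm) hab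
  · -- a pair
    obtain ⟨hcyc, -, -⟩ := torus_pair f hE hQC hPQ hg01 hg0P hg0Q
    set T := (fixExt f P ⊓ fixExt f Q : Subgroup PGL(2, F)) with hT
    have hTc : ∀ x ∈ T, ∀ y ∈ T, x * y = y * x := fun x hx y hy =>
      congrArg Subtype.val (IsCyclic.commGroup.mul_comm (⟨x, hx⟩ : T) ⟨y, hy⟩)
    have hone : ∀ x ∈ T, ∀ y ∈ T, x * x = 1 → y * y = 1 → x ≠ 1 → y ≠ 1 → x = y := by
      intro x hx y hy hx2 hy2 hx1 hy1
      by_contra hne
      classical
      have := finite_pgl_two (F := F)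
      have := Fintype.ofFinite T
      have hle : ({⟨x, hx⟩, ⟨y, hy⟩, 1} : Finset T) ⊆ Finset.univ.filter fun z : T => z ^ 2 = 1 := by
        intro z hz
        simp only [Finset.mem_insert, Finset.mem_singleton] at hz
        rcases hz with rfl | rfl | rfl <;> simp [pow_two, Subtype.ext_iff, hx2, hy2]
      have h3 : ({⟨x, hx⟩, ⟨y, hy⟩, 1} : Finset T).card = 3 := by
        rw [Finset.card_insert_of_notMem (by simp [Subtype.ext_iff, hne, hx1]),
          Finset.card_insert_of_notMem (by simp [Subtype.ext_iff, hy1]), Finset.card_singleton]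
      have := (Finset.card_le_card hle).trans (IsCyclic.card_pow_eq_one_le (α := T) two_pos)
      omega
    have hcase : ∀ x ∈ X, x ∉ T → extHom f x • P = Q ∧ extHom f x • Q = P := fun x hx hxT =>
      ((mem_pairStab f).1 (hle hx)).resolve_left fun h => hxT h
    have hout : ∀ x ∈ X, x ∉ T → x * x = 1 := fun x hx hxT =>
      sq_eq_one_of_swap f hQC hPQ (hcase x hx hxT).1 (hcase x hx hxT).2
    have hprod : ∀ x ∈ X, ∀ y ∈ X, x ∉ T → y ∉ T → x * y ∈ T := by
      intro x hx y hy hxT hyT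
      obtain ⟨x1, x2⟩ := hcase x hx hxT
      obtain ⟨y1, y2⟩ := hcase y hy hyT
      exact ⟨(mem_fixExt f).2 (by rw [map_mul, mul_smul, y1, x2]), (mem_fixExt f).2 (by rw [map_mul, mul_smul, y2, x1])⟩
    -- exactly one of the three lies in the torus
    have hj : (a ∈ T ∧ b ∉ T ∧ a * b ∉ T) ∨ (b ∈ T ∧ a ∉ T ∧ a * b ∉ T) ∨ (a * b ∈ T ∧ a ∉ T ∧ b ∉ T) := by
      by_cases haT : a ∈ T
      · have hbT : b ∉ T := fun h => hab (hone a haT b h ha2 hb2 ha1 hb1)
        exact Or.inl ⟨haT, hbT, fun h => hbT (by simpa [← mul_assoc, ha2] using mul_mem haT h)⟩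
      · by_cases hbT : b ∈ T
        · exact Or.inr (Or.inl ⟨hbT, haT, fun h => haT (by simpa [mul_assoc, hb2] using mul_mem h hbT)⟩)
        · exact Or.inr (Or.inr ⟨hprod a ha b hb haT hbT, haT, hbT⟩)
    obtain ⟨j, hj0, hj2, hj1, o, hoX, hoT, hjo⟩ : ∃ j, (j = a ∨ j = b ∨ j = a * b) ∧ j * j = 1 ∧ j ≠ 1 ∧
        ∃ o ∈ X, o ∉ T ∧ j ∈ T ∧ (o = a ∨ o = b) := by
      rcases hj with ⟨h1, h2', -⟩ | ⟨h1, h2', -⟩ | ⟨h1, h2', -⟩
      · exact ⟨a, Or.inl rfl, ha2, ha1, b, hb, h2', h1, Or.inr rfl⟩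
      · exact ⟨b, Or.inr (Or.inl rfl), hb2, hb1, a, ha, h2', h1, Or.inl rfl⟩
      · exact ⟨a * b, Or.inr (Or.inr rfl), habab, hab1, a, ha, h2', h1, Or.inl rfl⟩
    obtain ⟨hjT, ho⟩ := hjo
    refine ⟨fun x hx hxa hxb => ?_, fun c hc hc2 hc1 hcne => .pair T hcyc hTc hone hout hprod fun hcT => ?_⟩
    · have hxo : x * o = o * x := by rcases ho with rfl | rfl <;> assumption
      -- an element of the torus commuting with `o`
      have inT : ∀ t ∈ X, t ∈ T → t * o = o * t → t = 1 ∨ t = j := by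
        intro t ht htT hto
        have hoo := hout o hoX hoT
        have := hout (o * t) (mul_mem hoX ht) fun h => hoT (by simpa using mul_mem h (inv_mem htT))
        rw [mul_assoc, ← mul_assoc t, hto, mul_assoc o t, ← mul_assoc o o, hoo, one_mul] at this
        by_cases ht1 : t = 1
        · exact Or.inl ht1
        · exact Or.inr (hone t htT j hjT this hj2 ht1 hj1)
      by_cases hxT : x ∈ T
      · rcases inT x hx hxT hxo with h | h
        · exact Or.inl h
        · rcases hj0 with rfl | rfl | rfl <;> simp [h]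
      · have ht := hprod x hx o hoX hxT hoT
        have hto : x * o * o = o * (x * o) := by rw [← mul_assoc o, ← hxo]
        have hoo := hout o hoX hoT
        rcases inT _ (mul_mem hx hoX) ht hto with h | h
        · have : x = o := by
            have := congrArg (· * o) h
            simpa [mul_assoc, hoo] using this
          rcases ho with rfl | rfl <;> simp [this]
        · have hxjo : x = j * o := by
            rw [← h, mul_assoc, hoo, mul_one]
          rcases ho with rfl | rfl <;> rcases hj0 with rfl | rfl | rfl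
          all_goals first
            | (left; rw [hxjo, ha2]; done)
            | (left; rw [hxjo, hb2]; done)
            | (right; right; right; rw [hxjo, hcomm]; done)
            | (right; right; right; exact hxjo)
            | (right; right; left; rw [hxjo, mul_assoc, ← hcomm, ← mul_assoc, ha2, one_mul]; done)
            | (right; left; rw [hxjo, mul_assoc, hb2, mul_one]; done)
    · have hcj := hone c hcT j hjT hc2 hj2 hc1 hj1
      obtain ⟨e1, e2, e3⟩ := hcne 1 (one_mem X)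
      simp only [one_mul, inv_one, mul_one] at e1 e2 e3
      rcases hj0 with rfl | rfl | rfl
      exacts [e1 hcj.symm, e2 hcj.symm, e3 hcj.symm]
  · -- the alternating group of degree four
    have key : ∀ a : Equiv.Perm (Fin 4), Equiv.Perm.sign a = 1 → a * a = 1 → a ≠ 1 →
        ∀ b : Equiv.Perm (Fin 4), Equiv.Perm.sign b = 1 → b * b = 1 → b ≠ 1 → a ≠ b →
        ∀ x : Equiv.Perm (Fin 4), Equiv.Perm.sign x = 1 →
          (x * a = a * x ∨ (x * x = 1 ∧ x ≠ 1)) → x = 1 ∨ x = a ∨ x = b ∨ x = a * b := by decide +kernel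
    have he : ∀ {x y z : PGL(2, F)} (hx : x ∈ X) (hy : y ∈ X) (hz : z ∈ X), x * y = z →
        (e ⟨x, hx⟩).1 * (e ⟨y, hy⟩).1 = (e ⟨z, hz⟩).1 := fun hx hy hz h =>
      congrArg Subtype.val (show e ⟨_, hx⟩ * e ⟨_, hy⟩ = e ⟨_, hz⟩ by
        rw [← map_mul]; exact congrArg e (Subtype.ext h))
    have he1 : (e ⟨1, one_mem X⟩).1 = 1 := congrArg Subtype.val (map_one e)
    have hn : ∀ {x : PGL(2, F)} (hx : x ∈ X), x ≠ 1 → (e ⟨x, hx⟩).1 ≠ 1 := fun hx h h' =>
      h (congrArg Subtype.val (e.injective ((Subtype.ext h' : e ⟨_, hx⟩ = 1).trans (map_one e).symm)))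
    have main : ∀ x ∈ X, (x * a = a * x ∨ (x * x = 1 ∧ x ≠ 1)) → x = 1 ∨ x = a ∨ x = b ∨ x = a * b := by
      intro x hx hx'
      have := key _ (e ⟨a, ha⟩).2 ((he ha ha (one_mem X) ha2).trans he1) (hn ha ha1)
        _ (e ⟨b, hb⟩).2 ((he hb hb (one_mem X) hb2).trans he1) (hn hb hb1)
        (fun h => hab (congrArg Subtype.val (e.injective (Subtype.ext h))))
        _ (e ⟨x, hx⟩).2 (by
          rcases hx' with h | ⟨h, h'⟩
          · exact Or.inl ((he hx ha (mul_mem ha hx) h).trans (he ha hx (mul_mem ha hx) rfl).symm)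
          · exact Or.inr ⟨(he hx hx (one_mem X) h).trans he1, hn hx h'⟩)
      rcases this with h | h | h | h
      · exact Or.inl (congrArg Subtype.val (e.injective ((Subtype.ext h : e ⟨x, hx⟩ = 1).trans (map_one e).symm)))
      · exact Or.inr (Or.inl (congrArg Subtype.val (e.injective (Subtype.ext h))))
      · exact Or.inr (Or.inr (Or.inl (congrArg Subtype.val (e.injective (Subtype.ext h)))))
      · exact Or.inr (Or.inr (Or.inr (congrArg Subtype.val (e.injective
          ((Subtype.ext h : e ⟨x, hx⟩ = e ⟨a, ha⟩ * e ⟨b, hb⟩).trans (map_mul e _ _).symm)))))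
    refine ⟨fun x hx hxa _ => main x hx (Or.inl hxa), fun c hc hc2 hc1 hcne => absurd ?_ id⟩
    obtain ⟨e1, e2, e3⟩ := hcne 1 (one_mem X)
    simp only [one_mul, inv_one, mul_one] at e1 e2 e3
    rcases main c hc (Or.inr ⟨hc2, hc1⟩) with h | h | h | h
    exacts [hc1 h, e1 h.symm, e2 h.symm, e3 h.symm]
  · -- the symmetric group
    have key : ∀ a : Equiv.Perm (Fin 4), a * a = 1 → a ≠ 1 → ∀ b : Equiv.Perm (Fin 4), b * b = 1 → b ≠ 1 →
        a ≠ b → a * b = b * a → ∀ x : Equiv.Perm (Fin 4), x * a = a * x → x * b = b * x →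
          x = 1 ∨ x = a ∨ x = b ∨ x = a * b := by decide +kernel
    have conj : ∀ a : Equiv.Perm (Fin 4), a * a = 1 → a ≠ 1 → ∀ c : Equiv.Perm (Fin 4), c * c = 1 → c ≠ 1 →
        Equiv.Perm.sign a = Equiv.Perm.sign c → ∃ g, g * a * g⁻¹ = c := by decide +kernel
    have he : ∀ {x : PGL(2, F)} (hx : x ∈ X), x * x = 1 → e ⟨x, hx⟩ * e ⟨x, hx⟩ = 1 := fun hx h => by
      rw [← map_mul, ← map_one e]; exact congrArg e (Subtype.ext h)
    have hn : ∀ {x : PGL(2, F)} (hx : x ∈ X), x ≠ 1 → e ⟨x, hx⟩ ≠ 1 := fun hx h h' =>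
      h (congrArg Subtype.val (e.injective (h'.trans (map_one e).symm)))
    refine ⟨fun x hx hxa hxb => ?_, fun c hc hc2 hc1 hcne => ?_⟩
    · rcases key _ (he ha ha2) (hn ha ha1) _ (he hb hb2) (hn hb hb1)
        (fun h => hab (congrArg Subtype.val (e.injective h)))
        (by rw [← map_mul, ← map_mul]; exact congrArg e (Subtype.ext hcomm))
        (e ⟨x, hx⟩) (by rw [← map_mul, ← map_mul]; exact congrArg e (Subtype.ext hxa))
        (by rw [← map_mul, ← map_mul]; exact congrArg e (Subtype.ext hxb)) with h | h | h | h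
      · exact Or.inl (congrArg Subtype.val (e.injective (h.trans (map_one e).symm)))
      · exact Or.inr (Or.inl (congrArg Subtype.val (e.injective h)))
      · exact Or.inr (Or.inr (Or.inl (congrArg Subtype.val (e.injective h))))
      · exact Or.inr (Or.inr (Or.inr (congrArg Subtype.val (e.injective (h.trans (map_mul e _ _).symm)))))
    · have sne : ∀ {x : PGL(2, F)} (hx : x ∈ X), x * x = 1 → x ≠ 1 → (∀ g ∈ X, g * x * g⁻¹ ≠ c) →
          Equiv.Perm.sign (e ⟨x, hx⟩) ≠ Equiv.Perm.sign (e ⟨c, hc⟩) := by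
        intro x hx hx2 hx1 hne hs
        obtain ⟨g, hg⟩ := conj _ (he hx hx2) (hn hx hx1) _ (he hc hc2) (hn hc hc1) hs
        obtain ⟨g, rfl⟩ := e.surjective g
        rw [← map_inv, ← map_mul, ← map_mul] at hg
        exact hne g g.2 (congrArg Subtype.val (e.injective hg))
      have h1 := sne ha ha2 ha1 fun g hg => (hcne g hg).1
      have h2' := sne hb hb2 hb1 fun g hg => (hcne g hg).2.1
      have h3 := sne (mul_mem ha hb) habab hab1 fun g hg => (hcne g hg).2.2
      rw [show (⟨a * b, mul_mem ha hb⟩ : X) = ⟨a, ha⟩ * ⟨b, hb⟩ from rfl, map_mul, map_mul] at h3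
      refine .octa e (fun x hx => ?_) (fun x hx => ?_) (fun x hx => ?_) <;>
        (rcases Int.units_eq_one_or (Equiv.Perm.sign (e ⟨a, ha⟩)) with sa | sa <;>
          rcases Int.units_eq_one_or (Equiv.Perm.sign (e ⟨b, hb⟩)) with sb | sb <;>
          rcases Int.units_eq_one_or (Equiv.Perm.sign (e ⟨c, hc⟩)) with sc | sc <;>
          simp [sa, sb, sc] at h1 h2' h3)
      all_goals first
        | (rw [show x = ⟨a, ha⟩ from Subtype.ext hx]; exact sa)
        | (rw [show x = ⟨b, hb⟩ from Subtype.ext hx]; exact sb)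
        | (rw [show x = ⟨c, hc⟩ from Subtype.ext hx]; exact sc)
  · -- the alternating group of degree five
    have key : ∀ a : Equiv.Perm (Fin 5), Equiv.Perm.sign a = 1 → a * a = 1 → a ≠ 1 →
        ∀ b : Equiv.Perm (Fin 5), Equiv.Perm.sign b = 1 → b * b = 1 → b ≠ 1 → a ≠ b → a * b = b * a →
        ∀ x : Equiv.Perm (Fin 5), Equiv.Perm.sign x = 1 → x * a = a * x →
          x = 1 ∨ x = a ∨ x = b ∨ x = a * b := by decide +kernel
    have conj : ∀ a : Equiv.Perm (Fin 5), Equiv.Perm.sign a = 1 → a * a = 1 → a ≠ 1 →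
        ∃ g : Equiv.Perm (Fin 5), Equiv.Perm.sign g = 1 ∧
          g * a * g⁻¹ = Equiv.swap 0 1 * Equiv.swap 2 3 := by decide +kernel
    have he : ∀ {x : PGL(2, F)} (hx : x ∈ X), x * x = 1 → (e ⟨x, hx⟩).1 * (e ⟨x, hx⟩).1 = 1 := fun hx h =>
      congrArg Subtype.val (show e ⟨_, hx⟩ * e ⟨_, hx⟩ = 1 by
        rw [← map_mul, ← map_one e]; exact congrArg e (Subtype.ext h))
    have hn : ∀ {x : PGL(2, F)} (hx : x ∈ X), x ≠ 1 → (e ⟨x, hx⟩).1 ≠ 1 := fun hx h h' =>
      h (congrArg Subtype.val (e.injective ((Subtype.ext h' : e ⟨_, hx⟩ = 1).trans (map_one e).symm)))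
    refine ⟨fun x hx hxa hxb => ?_, fun c hc hc2 hc1 hcne => absurd ?_ id⟩
    · rcases key _ (e ⟨a, ha⟩).2 (he ha ha2) (hn ha ha1) _ (e ⟨b, hb⟩).2 (he hb hb2) (hn hb hb1)
        (fun h => hab (congrArg Subtype.val (e.injective (Subtype.ext h))))
        (congrArg Subtype.val (show e ⟨a, ha⟩ * e ⟨b, hb⟩ = e ⟨b, hb⟩ * e ⟨a, ha⟩ by
          rw [← map_mul, ← map_mul]; exact congrArg e (Subtype.ext hcomm)))
        _ (e ⟨x, hx⟩).2 (congrArg Subtype.val (show e ⟨x, hx⟩ * e ⟨a, ha⟩ = e ⟨a, ha⟩ * e ⟨x, hx⟩ by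
          rw [← map_mul, ← map_mul]; exact congrArg e (Subtype.ext hxa))) with h | h | h | h
      · exact Or.inl (congrArg Subtype.val (e.injective ((Subtype.ext h : e ⟨x, hx⟩ = 1).trans (map_one e).symm)))
      · exact Or.inr (Or.inl (congrArg Subtype.val (e.injective (Subtype.ext h))))
      · exact Or.inr (Or.inr (Or.inl (congrArg Subtype.val (e.injective (Subtype.ext h)))))
      · exact Or.inr (Or.inr (Or.inr (congrArg Subtype.val (e.injective
          ((Subtype.ext h : e ⟨x, hx⟩ = e ⟨a, ha⟩ * e ⟨b, hb⟩).trans (map_mul e _ _).symm)))))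
    · obtain ⟨g, hg, hg'⟩ := conj _ (e ⟨a, ha⟩).2 (he ha ha2) (hn ha ha1)
      obtain ⟨k, hk, hk'⟩ := conj _ (e ⟨c, hc⟩).2 (he hc hc2) (hn hc hc1)
      obtain ⟨G', hG'⟩ := e.surjective ⟨g, hg⟩
      obtain ⟨K', hK'⟩ := e.surjective ⟨k, hk⟩
      have hgk : (g : Equiv.Perm (Fin 5)) = (e G').1 ∧ k = (e K').1 :=
        ⟨(congrArg Subtype.val hG').symm, (congrArg Subtype.val hK').symm⟩
      rw [← hk', hgk.1, hgk.2] at hg'
      have he' : e G' * e ⟨a, ha⟩ * (e G')⁻¹ = e K' * e ⟨c, hc⟩ * (e K')⁻¹ := Subtype.ext hg'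
      rw [← map_inv, ← map_inv, ← map_mul, ← map_mul, ← map_mul, ← map_mul] at he'
      have := congrArg Subtype.val (e.injective he')
      simp only [Subgroup.coe_mul, Subgroup.coe_inv] at this
      refine (hcne _ (mul_mem (inv_mem K'.2) G'.2)).1 ?_
      rw [show (K' : PGL(2, F))⁻¹ * (G' : PGL(2, F)) * a * ((K' : PGL(2, F))⁻¹ * (G' : PGL(2, F)))⁻¹ =
        (K' : PGL(2, F))⁻¹ * ((G' : PGL(2, F)) * a * (G' : PGL(2, F))⁻¹) * (K' : PGL(2, F)) by group, this]
      group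

namespace Shape

variable {G : Type u} [Group G] {F : Type v} [Field F] [Fintype F] (D : Shape G F)

theorem comm (x : Subgroup.centralizer ({D.h} : Set G)) : (x : G) * D.h = D.h * x :=
  Subgroup.mem_centralizer_singleton_iff.1 x.2

/-- `h` in its centraliser. -/
def hC : Subgroup.centralizer ({D.h} : Set G) := ⟨D.h, Subgroup.mem_centralizer_singleton_iff.2 rfl⟩

theorem lift {x y : Subgroup.centralizer ({D.h} : Set G)} (e : D.φ x = D.φ y) :
    (x : G) = y ∨ (x : G) = y * D.h := by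
  rcases D.ker (y⁻¹ * x) (by rw [map_mul, map_inv, e, inv_mul_cancel]) with h | h
  · exact Or.inl (by rw [inv_mul_eq_one] at h; rw [h])
  · exact Or.inr (by rw [Subgroup.coe_mul, Subgroup.coe_inv, inv_mul_eq_iff_eq_mul] at h; exact h)

theorem sq_of_eq {x y : Subgroup.centralizer ({D.h} : Set G)} (e : D.φ x = D.φ y)
    (hy : (y : G) * y = D.h) : (x : G) * x = D.h := by
  rcases D.lift e with h | h <;> rw [h]
  · exact hy
  · rw [mul_assoc, ← mul_assoc D.h, ← D.comm y, mul_assoc (y : G) D.h, D.h_sq, mul_one, hy]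

theorem uv_sq : ((D.u * D.v : Subgroup.centralizer ({D.h} : Set G)) : G) *
    (D.u * D.v : Subgroup.centralizer ({D.h} : Set G)) = D.h := by
  rw [Subgroup.coe_mul, show (D.u : G) * D.v * ((D.u : G) * D.v) = D.u * ((D.v : G) * D.u) * D.v by
    simp only [mul_assoc], D.v_u, show (D.u : G) * (D.h * ((D.u : G) * D.v)) * D.v =
    ((D.u : G) * D.h) * D.u * ((D.v : G) * D.v) by simp only [mul_assoc], D.v_sq, D.comm D.u,
    mul_assoc D.h, D.u_sq, D.h_sq, one_mul]

theorem φ_ne_one {y : Subgroup.centralizer ({D.h} : Set G)} (hy : (y : G) * y = D.h) : D.φ y ≠ 1 := by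
  intro e
  rcases D.ker y e with h | h
  · rw [h] at hy; simp at hy; exact D.h_ne hy.symm
  · rw [h, D.h_sq] at hy; exact D.h_ne hy.symm

theorem φ_sq {y : Subgroup.centralizer ({D.h} : Set G)} (hy : (y : G) * y = D.h) : D.φ y * D.φ y = 1 := by
  rw [← map_mul]; exact D.φh _ hy

theorem φ_comm : D.φ D.u * D.φ D.v = D.φ D.v * D.φ D.u := by
  rw [← map_mul, ← map_mul, show D.v * D.u = D.hC * (D.u * D.v) from Subtype.ext D.v_u,
    map_mul _ D.hC, D.φh D.hC rfl, one_mul]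

theorem φ_ne : D.φ D.u ≠ D.φ D.v := fun e => D.φ_ne_one D.uv_sq (by
  rw [map_mul, e]; exact D.φ_sq D.v_sq)

theorem not_sq_h (y : G) (hy : y * y = 1) : y * y ≠ D.h := fun e => D.h_ne (e.symm.trans hy)

theorem four : (∀ x ∈ D.φ.range, x * D.φ D.u = D.φ D.u * x → x * D.φ D.v = D.φ D.v * x →
      x = 1 ∨ x = D.φ D.u ∨ x = D.φ D.v ∨ x = D.φ D.u * D.φ D.v) ∧
      ∀ c ∈ D.φ.range, c * c = 1 → c ≠ 1 →
        (∀ g ∈ D.φ.range, g * D.φ D.u * g⁻¹ ≠ c ∧ g * D.φ D.v * g⁻¹ ≠ c ∧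
          g * (D.φ D.u * D.φ D.v) * g⁻¹ ≠ c) → ImageCase D.φ.range (D.φ D.u) (D.φ D.v) c :=
  four_image D.hp D.char D.hp2 D.coprime ⟨_, rfl⟩ ⟨_, rfl⟩ (D.φ_sq D.u_sq) (D.φ_sq D.v_sq)
    (D.φ_ne_one D.u_sq) (D.φ_ne_one D.v_sq) D.φ_ne D.φ_comm

/-- The elements commuting with the quaternion generators lie over the four-group. -/
theorem over_four {x : Subgroup.centralizer ({D.h} : Set G)} (h1 : x * D.u = D.u * x) (h2 : x * D.v = D.v * x) :
    D.φ x = 1 ∨ D.φ x = D.φ D.u ∨ D.φ x = D.φ D.v ∨ D.φ x = D.φ (D.u * D.v) := by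
  rw [map_mul]
  exact D.four.1 _ ⟨x, rfl⟩ (by rw [← map_mul, h1, map_mul]) (by rw [← map_mul, h2, map_mul])

variable [Finite G]

/-- A Sylow two-subgroup centralising `h`, containing the quaternion group. -/
theorem exists_sylow : ∃ P : Sylow 2 G, (D.u : G) ∈ P ∧ (D.v : G) ∈ P ∧ D.h ∈ P ∧
    (P : Subgroup G) ≤ Subgroup.centralizer {D.h} := by
  have : Fact (Nat.Prime 2) := ⟨Nat.prime_two⟩
  -- the quaternion group is a two-group
  have hu4 : (D.u : G) ^ (2 ^ 2) = 1 := by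
    rw [show (2 : ℕ) ^ 2 = 2 * 2 by rfl, pow_mul, pow_two (D.u : G), D.u_sq, pow_two, D.h_sq]
  have hnorm : (D.v : G) ∈ Subgroup.normalizer ((Subgroup.zpowers (D.u : G) : Subgroup G) : Set G) := by
    rw [Subgroup.mem_normalizer_iff_map_conj_eq, MonoidHom.map_zpowers]
    have e : (D.v : G) * D.u * (D.v : G)⁻¹ = D.h * D.u := by
      rw [D.v_u, mul_assoc D.h, mul_assoc (D.u : G), mul_inv_cancel, mul_one]
    have e' : D.h * D.u = (D.u : G)⁻¹ := by
      rw [eq_inv_iff_mul_eq_one, mul_assoc, D.u_sq, D.h_sq]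
    show Subgroup.zpowers ((D.v : G) * D.u * (D.v : G)⁻¹) = _
    rw [e, e', Subgroup.zpowers_inv]
  have hP4 : ∀ y : G, y * y = D.h → IsPGroup 2 (Subgroup.zpowers y) := fun y hy => by
    have hy4 : y ^ (2 ^ 2) = 1 := by
      rw [show (2 : ℕ) ^ 2 = 2 * 2 by rfl, pow_mul, pow_two y, hy, pow_two, D.h_sq]
    obtain ⟨k, -, hk⟩ := (Nat.dvd_prime_pow Nat.prime_two).1 (orderOf_dvd_of_pow_eq_one hy4)
    exact IsPGroup.of_card (n := k) (by rw [Nat.card_zpowers, hk])
  have hPu := hP4 _ D.u_sq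
  have hPv := hP4 _ D.v_sq
  have hQ : IsPGroup 2 (Subgroup.zpowers (D.u : G) ⊔ Subgroup.zpowers (D.v : G) : Subgroup G) :=
    IsPGroup.to_sup_of_normal_left' hPu hPv (Subgroup.zpowers_le.2 hnorm)
  obtain ⟨P, hP⟩ := hQ.exists_le_sylow
  have huP : (D.u : G) ∈ P := hP (Subgroup.mem_sup_left (Subgroup.mem_zpowers _))
  have hvP : (D.v : G) ∈ P := hP (Subgroup.mem_sup_right (Subgroup.mem_zpowers _))
  have hhP : D.h ∈ P := D.u_sq ▸ mul_mem huP huP
  refine ⟨P, huP, hvP, hhP, ?_⟩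
  -- the centre contains `h`
  have : Nontrivial (P : Subgroup G) := ⟨⟨⟨D.h, hhP⟩, 1, fun e => D.h_ne (congrArg Subtype.val e)⟩⟩
  have := P.2.center_nontrivial
  obtain ⟨n, hn⟩ := (P.2.to_subgroup (Subgroup.center (P : Subgroup G))).exists_card_eq
  obtain ⟨⟨z, hzc⟩, hz⟩ := exists_prime_orderOf_dvd_card' (G := Subgroup.center (P : Subgroup G)) 2 (by
    rw [hn]
    refine dvd_pow_self 2 fun h0 => ?_
    rw [h0, pow_zero] at hn
    exact (Finite.one_lt_card_iff_nontrivial.2 this).ne' hn)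
  rw [← Subgroup.orderOf_coe, ← Subgroup.orderOf_coe] at hz
  have hzcomm : ∀ y ∈ (P : Subgroup G), (z : G) * y = y * z := fun y hy =>
    (congrArg Subtype.val (Subgroup.mem_center_iff.1 hzc ⟨y, hy⟩)).symm
  set zC : Subgroup.centralizer ({D.h} : Set G) :=
    ⟨z, Subgroup.mem_centralizer_singleton_iff.2 (hzcomm _ hhP)⟩ with hzC
  have hz2 : (z : G) * z = 1 := by
    have := pow_orderOf_eq_one (z : G)
    rwa [hz, pow_two] at this
  have hzh : (z : G) = D.h := by
    have hno : ∀ y : Subgroup.centralizer ({D.h} : Set G), (y : G) * y = D.h → D.φ zC ≠ D.φ y := fun y hy e =>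
      D.not_sq_h _ hz2 (D.sq_of_eq e hy)
    rcases D.over_four (x := zC) (Subtype.ext (hzcomm _ huP)) (Subtype.ext (hzcomm _ hvP)) with h | h | h | h
    · rcases D.ker _ h with h' | h'
      · exfalso
        have : (z : G) = 1 := congrArg Subtype.val h'
        rw [this, orderOf_one] at hz
        norm_num at hz
      · exact h'
    · exact absurd h (hno _ D.u_sq)
    · exact absurd h (hno _ D.v_sq)
    · exact absurd h (hno _ D.uv_sq)
  exact fun y hy => Subgroup.mem_centralizer_singleton_iff.2 (hzh ▸ hzcomm y hy).symm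

theorem not_isolated (P : Sylow 2 G) (hP : D.h ∈ P) :
    ∃ g : G, g * D.h * g⁻¹ ∈ P ∧ g * D.h * g⁻¹ ≠ D.h := by
  by_contra hcon
  push Not at hcon
  obtain ⟨N, hN, hodd, hmem⟩ := Cfsg.Agent.S0215.result P D.h
    (orderOf_eq_prime (by rw [pow_two, D.h_sq]) D.h_ne) hP hcon
  have hbot := D.nosol N hN (Cfsg.Agent.S0205.result hodd)
  have h1 := hmem D.r
  rw [hbot, Subgroup.mem_bot, D.h_r, ← _root_.mul_inv_rev, inv_eq_one] at h1
  refine D.r_notin ?_
  have : D.r = 1 := by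
    have := D.r_three
    rw [pow_succ, pow_two, h1, one_mul] at this
    exact this
  rw [this]; exact one_mem _

/-- A conjugate of `h` in its centraliser, and the two shapes. -/
theorem exists_other : ∃ (t : Subgroup.centralizer ({D.h} : Set G)) (g : G), (t : G) = g * D.h * g⁻¹ ∧
    (t : G) ≠ D.h ∧ ImageCase D.φ.range (D.φ D.u) (D.φ D.v) (D.φ t) := by
  obtain ⟨P, -, -, hhP, hPC⟩ := D.exists_sylow
  obtain ⟨g, hg, hne⟩ := D.not_isolated P hhP
  set t : Subgroup.centralizer ({D.h} : Set G) := ⟨g * D.h * g⁻¹, hPC hg⟩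
  refine ⟨t, g, rfl, hne, ?_⟩
  have ht2 : (t : G) * t = 1 := by
    show g * D.h * g⁻¹ * (g * D.h * g⁻¹) = 1
    rw [conj_mul, D.h_sq]; group
  have ht1 : (t : G) ≠ 1 := fun e => D.h_ne (conj_eq_one_iff.1 e)
  refine D.four.2 _ ⟨t, rfl⟩ (by rw [← map_mul, show t * t = 1 from Subtype.ext ht2, map_one])
    (fun e => (D.ker t e).elim (fun h => ht1 (congrArg Subtype.val h)) hne) ?_
  rintro _ ⟨k, rfl⟩
  have hno : ∀ y : Subgroup.centralizer ({D.h} : Set G), (y : G) * y = D.h →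
      D.φ k * D.φ y * (D.φ k)⁻¹ ≠ D.φ t := fun y hy e =>
    D.not_sq_h _ ht2 (D.sq_of_eq (y := k * y * k⁻¹) (by rw [map_mul, map_mul, map_inv, e]) (by
      simp only [Subgroup.coe_mul, Subgroup.coe_inv]
      rw [conj_mul, hy, D.comm k, mul_inv_cancel_right]))
  exact ⟨hno _ D.u_sq, hno _ D.v_sq, map_mul D.φ D.u D.v ▸ hno _ D.uv_sq⟩

end Shape

end CfsgLib.MaxSub.SlThree.Extra
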