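import Cfsg.Agent.Lib.MaxSub.SlThree.ExtraTv

/-!
A soluble normal subgroup which is not scalar forces the normaliser of the group of order `27`.
-/

set_option autoImplicit false
set_option linter.unusedSectionVars false
set_option linter.unusedSimpArgs false

namespace CfsgLib.MaxSub.SlThree.Extra

open Matrix
open scoped MatrixGroups

section group

variable {G : Type*} [Group G]

/-- In a commutative group of exponent three an element of order three fixes something. -/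
theorem exists_fixed {T : Subgroup G} (hT : ∀ x ∈ T, ∀ y ∈ T, x * y = y * x) (h3 : ∀ x ∈ T, x ^ 3 = 1)
    {e : G} (he : e ^ 3 = 1) (hn : ∀ x ∈ T, e * x * e⁻¹ ∈ T) {x : G} (hx : x ∈ T) (hx1 : x ≠ 1) :
    ∃ y ∈ T, y ≠ 1 ∧ Commute e y ∧ ∀ f : G, Commute f e → Commute f x → Commute f y := by
  let x1 := e * x * e⁻¹
  let x2 := e * x1 * e⁻¹
  have hx1' : x1 ∈ T := hn x hx
  have hx2 : x2 ∈ T := hn x1 hx1'
  have e3 : e * x2 * e⁻¹ = x := by
    show e * (e * (e * x * e⁻¹) * e⁻¹) * e⁻¹ = x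
    rw [show e * (e * (e * x * e⁻¹) * e⁻¹) * e⁻¹ = e ^ 3 * x * (e ^ 3)⁻¹ by
      simp only [pow_succ, pow_zero, one_mul, _root_.mul_inv_rev, mul_assoc], he]
    group
  have cf : ∀ f : G, Commute f e → Commute f x → Commute f x1 ∧ Commute f x2 := fun f h h' =>
    have h1 : Commute f x1 := (h.mul_right h').mul_right h.inv_right
    ⟨h1, (h.mul_right h1).mul_right h.inv_right⟩
  by_cases hN : x * x1 * x2 = 1
  · by_cases hy : x1 * x⁻¹ = 1
    · refine ⟨x, hx, hx1, ?_, fun f _ h => h⟩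
      have : e * x * e⁻¹ = x := mul_inv_eq_one.1 hy
      exact mul_inv_eq_iff_eq_mul.1 this
    · refine ⟨x1 * x⁻¹, mul_mem hx1' (inv_mem hx), hy, ?_,
        fun f h h' => ((cf f h h').1).mul_right h'.inv_right⟩
      refine mul_inv_eq_iff_eq_mul.1 ?_
      rw [← conj_mul, ← conj_inv, show e * x1 * e⁻¹ = x2 from rfl, show e * x * e⁻¹ = x1 from rfl]
      have h2 : x2 = (x * x1)⁻¹ := eq_inv_of_mul_eq_one_right hN
      have hc : Commute x x1 := hT _ hx _ hx1'
      have h3' : x1 ^ 3 = 1 := h3 _ hx1'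
      have hsq : x1⁻¹ * x1⁻¹ = x1 := by
        rw [← _root_.mul_inv_rev, inv_eq_iff_mul_eq_one, ← h3', pow_succ, pow_two]
      rw [h2, _root_.mul_inv_rev, mul_assoc, (hc.inv_left.inv_right).eq, ← mul_assoc, hsq]
  · refine ⟨x * x1 * x2, mul_mem (mul_mem hx hx1') hx2, hN, ?_,
      fun f h h' => (h'.mul_right (cf f h h').1).mul_right (cf f h h').2⟩
    refine mul_inv_eq_iff_eq_mul.1 ?_
    rw [← conj_mul, ← conj_mul, show e * x * e⁻¹ = x1 from rfl, show e * x1 * e⁻¹ = x2 from rfl, e3,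
      hT _ (mul_mem hx1' hx2) _ hx]
    simp only [x1, mul_assoc]

/-- An element killed by the four norms of a pair of commuting automorphisms is killed by three. -/
theorem pow_three_of_norms {T : Type*} [CommGroup T] (δ σ : T →* T) (a : T)
    (h1 : a * δ a * δ (δ a) = 1) (h2 : a * σ a * σ (σ a) = 1)
    (h3 : a * δ (δ (σ (σ a))) * δ (σ a) = 1) (h4 : a * δ (σ (σ a)) * δ (δ (σ a)) = 1) : a ^ 3 = 1 := by
  have e : σ a * σ (σ a) = a⁻¹ := by rw [eq_inv_iff_mul_eq_one, ← h2]; ac_rfl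
  have h34 : a * a * (δ (σ a * σ (σ a)) * δ (δ (σ a * σ (σ a)))) = 1 := by
    simp only [map_mul]
    calc _ = (a * δ (δ (σ (σ a))) * δ (σ a)) * (a * δ (σ (σ a)) * δ (δ (σ a))) := by ac_rfl
      _ = 1 := by rw [h3, h4, one_mul]
  rw [e, map_inv, map_inv, ← mul_inv] at h34
  have e1 : δ a * δ (δ a) = a⁻¹ := by rw [eq_inv_iff_mul_eq_one, ← h1]; ac_rfl
  rw [e1, inv_inv] at h34
  rw [pow_succ, pow_two, h34]

end group

variable {F : Type*} [Field F]

/-- The projection to the projective group. -/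
def proj : GL (Fin 3) F →* GL (Fin 3) F ⧸ Cfsg.Geo.scalars (Fin 3) F :=
  QuotientGroup.mk' _

theorem proj_eq_one {g : GL (Fin 3) F} : proj g = 1 ↔ g ∈ Cfsg.Geo.scalars (Fin 3) F :=
  QuotientGroup.eq_one_iff g

theorem scalars_iff {g : GL (Fin 3) F} : g ∈ Cfsg.Geo.scalars (Fin 3) F ↔ Prop' g 1 := by
  rw [Cfsg.Geo.mem_scalars_iff]
  exact ⟨fun ⟨c, hc⟩ => ⟨c, by rwa [Units.val_one]⟩, fun ⟨c, hc⟩ =>
    ⟨Units.mk0 c (Prop'.ne_zero hc), by rwa [Units.val_one] at hc⟩⟩

theorem scG_mem_scalars (c : Fˣ) : scG c ∈ Cfsg.Geo.scalars (Fin 3) F := ⟨c, rfl⟩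

theorem proj_eq_iff {g h : GL (Fin 3) F} : proj g = proj h ↔ Prop' g h := by
  rw [← mul_inv_eq_one, ← map_inv, ← map_mul, proj_eq_one, scalars_iff]
  constructor
  · intro hs
    have := hs.mul (Prop'.refl h)
    rwa [inv_mul_cancel_right, one_mul] at this
  · intro hs
    have := hs.mul (Prop'.refl h⁻¹)
    rwa [mul_inv_cancel] at this

variable {w : F} (hw : Root w)

theorem mem_heisC_iff {g : GL (Fin 3) F} : g ∈ heisC hw ↔
    Commute (proj g) (proj (dG hw)) ∧ Commute (proj g) (proj shG) := by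
  rw [mem_heisC, ← proj_eq_iff, ← proj_eq_iff, map_mul, map_mul, map_inv, map_mul, map_mul, map_inv,
    mul_inv_eq_iff_eq_mul, mul_inv_eq_iff_eq_mul]
  rfl

theorem proj_commute_d_sh : Commute (proj (dG hw)) (proj shG) :=
  ((mem_heisC_iff hw).1 (dG_mem hw).1).2

theorem dG_pow_three : (dG hw) ^ 3 = 1 := by
  have := hw.eq
  refine Units.ext ?_
  rw [pow_succ, pow_two, Units.val_mul, Units.val_mul, coe_dG, Units.val_one]
  ext i j; fin_cases i <;> fin_cases j <;> simp [Matrix.mul_apply, Fin.sum_univ_three] <;> grind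

theorem shG_pow_three : (shG : GL (Fin 3) F) ^ 3 = 1 := by
  refine Units.ext ?_
  rw [pow_succ, pow_two, Units.val_mul, Units.val_mul, coe_shG, Units.val_one]
  ext i j; fin_cases i <;> fin_cases j <;> simp [Matrix.mul_apply, Fin.sum_univ_three]

theorem proj_conj_of_eq {g x y : GL (Fin 3) F} (c : F)
    (h : (g : Matrix (Fin 3) (Fin 3) F) * (x : Matrix (Fin 3) (Fin 3) F) =
      c • ((y : Matrix (Fin 3) (Fin 3) F) * (g : Matrix (Fin 3) (Fin 3) F))) :
    proj g * proj x * (proj g)⁻¹ = proj y := by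
  rw [mul_inv_eq_iff_eq_mul, ← map_mul, ← map_mul, proj_eq_iff]
  exact ⟨c, by rw [Units.val_mul, Units.val_mul, h]⟩

theorem q1G_conj : proj (q1G hw) * proj (dG hw) * (proj (q1G hw))⁻¹ = proj shG ^ 2 ∧
    proj (q1G hw) * proj shG * (proj (q1G hw))⁻¹ = proj (dG hw) := by
  have := hw.eq; have := hw.three
  rw [← map_pow]
  refine ⟨proj_conj_of_eq 1 ?_, proj_conj_of_eq 1 ?_⟩
  all_goals
    simp only [pow_two, Units.val_mul, coe_dG, coe_shG, coe_q1G]
    ext i j
    fin_cases i <;> fin_cases j <;> simp [Matrix.mul_apply, Fin.sum_univ_three] <;> grind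

theorem q2G_conj : proj (q2G hw) * proj (dG hw) * (proj (q2G hw))⁻¹ = proj (dG hw) * proj shG ^ 2 ∧
    proj (q2G hw) * proj shG * (proj (q2G hw))⁻¹ = proj (dG hw) ^ 2 * proj shG ^ 2 := by
  have := hw.eq; have := hw.three
  rw [← map_pow, ← map_pow, ← map_mul, ← map_mul]
  refine ⟨proj_conj_of_eq (w * w) ?_, proj_conj_of_eq w ?_⟩
  all_goals
    simp only [pow_two, Units.val_mul, coe_dG, coe_shG, coe_q2G]
    ext i j
    fin_cases i <;> fin_cases j <;> simp [Matrix.mul_apply, Fin.sum_univ_three] <;> grind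

/-- An overgroup of the standard configuration in the special linear group. -/
structure Over (M : Subgroup (GL (Fin 3) F)) : Prop where
  sl : M ≤ Cfsg.Geo.specialLinear (Fin 3) F
  heis_le : heis hw ≤ M
  q1 : q1G hw ∈ M
  q2 : q2G hw ∈ M

/-- `L` is normalised by `M`. -/
def Nrm (M L : Subgroup (GL (Fin 3) F)) : Prop := ∀ g ∈ M, ∀ x ∈ L, g * x * g⁻¹ ∈ L

variable {hw} {M : Subgroup (GL (Fin 3) F)}

namespace Over

variable (hM : Over hw M)
include hM

theorem d_mem : dG hw ∈ M := hM.heis_le (dG_mem hw)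
theorem sh_mem : shG ∈ M := hM.heis_le (shG_mem hw)
theorem h_mem : hG ∈ M := q1G_sq hw ▸ mul_mem hM.q1 hM.q1

theorem proj_nrm {L : Subgroup (GL (Fin 3) F)} (hn : Nrm M L) {g : GL (Fin 3) F} (hg : g ∈ M) :
    ∀ x ∈ L.map proj, proj g * x * (proj g)⁻¹ ∈ L.map proj := by
  rintro _ ⟨x, hx, rfl⟩
  rw [← map_inv, ← map_mul, ← map_mul]
  exact Subgroup.mem_map_of_mem _ (hn g hg x hx)

/-- A non-trivial fixed point spreads to both generators. -/
theorem d_sh_of_fixed {L : Subgroup (GL (Fin 3) F)} (hn : Nrm M L) {c : GL (Fin 3) F} (hc : c ∈ L)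
    (hcs : c ∉ Cfsg.Geo.scalars (Fin 3) F) (hcC : c ∈ heisC hw) :
    proj (dG hw) ∈ L.map proj ∧ proj shG ∈ L.map proj := by
  obtain ⟨u, j, k, hu⟩ := exists_form hw hcC
  have hm : proj c ∈ L.map proj := Subgroup.mem_map_of_mem _ hc
  set D := proj (dG hw) with hD
  set S := proj (shG : GL (Fin 3) F) with hS
  have hD3 : D ^ 3 = 1 := by rw [hD, ← map_pow, dG_pow_three, map_one]
  have hS3 : S ^ 3 = 1 := by rw [hS, ← map_pow, shG_pow_three, map_one]
  have hcomm : Commute D S := proj_commute_d_sh hw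
  have hc' : proj c = D ^ j * S ^ k := by
    rw [hu, map_mul, map_mul, map_pow, map_pow, proj_eq_one.2 (scG_mem_scalars u), one_mul]
  have hjk : ¬ (j % 3 = 0 ∧ k % 3 = 0) := fun h => hcs (by
    rw [← proj_eq_one, hc', pow_eq_pow_mod j hD3, pow_eq_pow_mod k hS3, h.1, h.2, pow_zero, pow_zero,
      one_mul])
  have hy : D ^ k * S ^ (2 * j) ∈ L.map proj := by
    have h := hM.proj_nrm hn hM.q1 _ hm
    rw [hc', ← conj_mul, ← conj_pow, ← conj_pow, (q1G_conj hw).1, (q1G_conj hw).2, ← pow_mul] at h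
    rwa [(hcomm.pow_pow k (2 * j)).eq]
  rw [hc'] at hm
  have key : ∀ a b a' b' m n : ℕ, (D ^ a * S ^ b) ^ m * (D ^ a' * S ^ b') ^ n =
      D ^ (a * m + a' * n) * S ^ (b * m + b' * n) := by
    intro a b a' b' m n
    rw [(hcomm.pow_pow a b).mul_pow, (hcomm.pow_pow a' b').mul_pow, ← pow_mul, ← pow_mul, ← pow_mul,
      ← pow_mul, pow_add, pow_add, mul_assoc, ← mul_assoc (S ^ (b * m)),
      (hcomm.pow_pow (a' * n) (b * m)).symm.eq]
    simp only [mul_assoc]
  have hsq : (j * j + k * k) % 3 ≠ 0 := by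
    rw [Nat.add_mod, Nat.mul_mod j, Nat.mul_mod k]
    have := Nat.mod_lt j (show 3 > 0 by omega)
    have := Nat.mod_lt k (show 3 > 0 by omega)
    interval_cases h1 : j % 3 <;> interval_cases h2 : k % 3 <;> omega
  have out : ∀ (x : GL (Fin 3) F ⧸ Cfsg.Geo.scalars (Fin 3) F) (n : ℕ), x ^ 3 = 1 → n % 3 ≠ 0 →
      x ^ n ∈ L.map proj → x ∈ L.map proj := by
    intro x n h3 hn hx
    have : x = (x ^ n) ^ n := by
      rw [← pow_mul, pow_eq_pow_mod _ h3]
      have : (n * n) % 3 = 1 := by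
        rw [Nat.mul_mod]
        have := Nat.mod_lt n (show 3 > 0 by omega)
        interval_cases h : n % 3 <;> omega
      rw [this, pow_one]
    rw [this]; exact pow_mem hx n
  refine ⟨out D _ hD3 hsq ?_, out S (k * k + 4 * (j * j)) hS3 (by omega) ?_⟩
  · have := mul_mem (pow_mem hm j) (pow_mem hy k)
    rwa [key, show k * j + 2 * j * k = 3 * (j * k) by ring, pow_mul, hS3, one_pow, mul_one] at this
  · have := mul_mem (pow_mem hm k) (pow_mem hy (2 * j))
    rwa [key, show j * k + k * (2 * j) = 3 * (j * k) by ring, pow_mul, hD3, one_pow, one_mul,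
      show k * k + 2 * j * (2 * j) = k * k + 4 * (j * j) by ring] at this

/-- A normal subgroup with commutative image of exponent three meets the fixed points. -/
theorem exists_heisC {L : Subgroup (GL (Fin 3) F)} (hn : Nrm M L)
    (hT : ∀ x ∈ L.map proj, ∀ y ∈ L.map proj, x * y = y * x) (h3 : ∀ x ∈ L.map proj, x ^ 3 = 1)
    {a : GL (Fin 3) F} (ha : a ∈ L) (has : a ∉ Cfsg.Geo.scalars (Fin 3) F) :
    ∃ c ∈ L, c ∉ Cfsg.Geo.scalars (Fin 3) F ∧ c ∈ heisC hw := by
  have hD : proj (dG hw) ^ 3 = 1 := by rw [← map_pow, dG_pow_three, map_one]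
  have hS : proj (shG : GL (Fin 3) F) ^ 3 = 1 := by rw [← map_pow, shG_pow_three, map_one]
  obtain ⟨y, hy, hy1, hyD, -⟩ := exists_fixed hT h3 hD (hM.proj_nrm hn hM.d_mem)
    (Subgroup.mem_map_of_mem _ ha) (fun h => has (proj_eq_one.1 h))
  obtain ⟨z, hz, hz1, hzS, hzc⟩ := exists_fixed hT h3 hS (hM.proj_nrm hn hM.sh_mem) hy hy1
  obtain ⟨c, hc, rfl⟩ := hz
  exact ⟨c, hc, fun h => hz1 (proj_eq_one.2 h),
    (mem_heisC_iff hw).2 ⟨(hzc _ (proj_commute_d_sh hw) hyD).symm, hzS.symm⟩⟩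

/-- Elements of an abelian normal subgroup commuting with `dG` are scalar. -/
theorem scalar_of_commute_d {A : Subgroup (GL (Fin 3) F)} (hn : Nrm M A)
    (hA : ∀ x ∈ A, ∀ y ∈ A, x * y = y * x) {a : GL (Fin 3) F} (ha : a ∈ A)
    (hd : Commute a (dG hw)) : a ∈ Cfsg.Geo.scalars (Fin 3) F := by
  have hdiag := diag_of_commute hw (congrArg Units.val hd.eq)
  set x := (a : Matrix (Fin 3) (Fin 3) F) 0 0 with hx
  set y := (a : Matrix (Fin 3) (Fin 3) F) 1 1 with hy
  set z := (a : Matrix (Fin 3) (Fin 3) F) 2 2 with hz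
  have hform : (a : Matrix (Fin 3) (Fin 3) F) = !![x, 0, 0; 0, y, 0; 0, 0, z] := by
    ext i j
    fin_cases i <;> fin_cases j <;>
      simp [hdiag 0 1 (by decide), hdiag 0 2 (by decide), hdiag 1 0 (by decide), hdiag 1 2 (by decide),
        hdiag 2 0 (by decide), hdiag 2 1 (by decide), hx, hy, hz]
  suffices hxyz : x = y ∧ y = z by
    have hx0 : x ≠ 0 := by
      intro h0
      apply a.ne_zero
      rw [hform, ← hxyz.2, ← hxyz.1, h0]
      ext i j; fin_cases i <;> fin_cases j <;> rfl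
    refine (Cfsg.Geo.mem_scalars_iff a).2 ⟨Units.mk0 x hx0, ?_⟩
    rw [hform, ← hxyz.2, ← hxyz.1, Units.val_mk0, Matrix.one_fin_three]
    ext i j; fin_cases i <;> fin_cases j <;> simp
  -- the shifts
  have h1 := hn _ hM.sh_mem a ha
  have h2 := hn _ (inv_mem hM.sh_mem) a ha
  rw [inv_inv] at h2
  have hb := hn _ hM.q1 a ha
  have c0 := congrArg Units.val (hA _ hb _ ha)
  have c1 := congrArg Units.val (hA _ hb _ h1)
  have c2 := congrArg Units.val (hA _ hb _ h2)
  have s1 : ((shG * a * shG⁻¹ : GL (Fin 3) F) : Matrix (Fin 3) (Fin 3) F) =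
      !![z, 0, 0; 0, x, 0; 0, 0, y] := by
    show !![0, 0, 1; 1, 0, 0; 0, 1, 0] * (a : Matrix (Fin 3) (Fin 3) F) *
      !![0, 1, 0; 0, 0, 1; 1, 0, 0] = _
    rw [hform]; ext i j; fin_cases i <;> fin_cases j <;> simp [Matrix.mul_apply, Fin.sum_univ_three]
  have s2 : ((shG⁻¹ * a * shG : GL (Fin 3) F) : Matrix (Fin 3) (Fin 3) F) =
      !![y, 0, 0; 0, z, 0; 0, 0, x] := by
    show !![0, 1, 0; 0, 0, 1; 1, 0, 0] * (a : Matrix (Fin 3) (Fin 3) F) *
      !![0, 0, 1; 1, 0, 0; 0, 1, 0] = _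
    rw [hform]; ext i j; fin_cases i <;> fin_cases j <;> simp [Matrix.mul_apply, Fin.sum_univ_three]
  have sb : ((q1G hw * a * (q1G hw)⁻¹ : GL (Fin 3) F) : Matrix (Fin 3) (Fin 3) F) =
      ((-(w - w * w) / 3) * ((w - w * w) / 3)) •
        !![x + y + z, x + w * w * y + w * z, x + w * y + w * w * z;
           x + w * y + w * w * z, x + y + z, x + w * w * y + w * z;
           x + w * w * y + w * z, x + w * y + w * w * z, x + y + z] := by
    show ((-(w - w * w) / 3) • (!![1, 1, 1; 1, w, w * w; 1, w * w, w] : Matrix (Fin 3) (Fin 3) F)) *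
      (a : Matrix (Fin 3) (Fin 3) F) * (((w - w * w) / 3) • !![1, 1, 1; 1, w * w, w; 1, w, w * w]) = _
    have := hw.eq
    rw [hform, Matrix.smul_mul, Matrix.mul_smul, Matrix.smul_mul, smul_smul, mul_comm ((w - w * w) / 3)]
    congr 1
    ext i j; fin_cases i <;> fin_cases j <;> simp [Matrix.mul_apply, Fin.sum_univ_three] <;> grind
  rw [Units.val_mul (q1G hw * a * (q1G hw)⁻¹), Units.val_mul a, sb, hform] at c0
  rw [Units.val_mul (q1G hw * a * (q1G hw)⁻¹), Units.val_mul (shG * a * shG⁻¹), sb, s1] at c1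
  rw [Units.val_mul (q1G hw * a * (q1G hw)⁻¹), Units.val_mul (shG⁻¹ * a * shG), sb, s2] at c2
  have hk : -(w - w * w) / 3 * ((w - w * w) / 3) ≠ 0 := by
    have := hw.eq; have := hw.three
    intro h; field_simp at h; grind
  simp only [Matrix.smul_mul, Matrix.mul_smul] at c0 c1 c2
  have e0 := smul_right_injective _ hk c0
  have e1 := smul_right_injective _ hk c1
  have a0 := congrFun (congrFun e0 0) 1
  have a1 := congrFun (congrFun e1 0) 1
  have b0 := congrFun (congrFun e0 1) 0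
  have b1 := congrFun (congrFun e1 1) 0
  simp [Matrix.mul_apply, Fin.sum_univ_three] at a0 a1 b0 b1
  have := hw.eq; have := hw.three; have := hw.ne_one; have := hw.ne_zero
  by_contra hne
  have hE : x + w * w * y + w * z = 0 := by
    by_contra hE
    exact hne ⟨by grind, by grind⟩
  have hE' : x + w * y + w * w * z = 0 := by
    by_contra hE'
    exact hne ⟨by grind, by grind⟩
  have hyz : y = z := by
    refine sub_eq_zero.1 ((mul_eq_zero.1 (?_ : (w * w - w) * (y - z) = 0)).resolve_left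
      (sub_ne_zero.2 hw.sq_ne_self))
    linear_combination hE - hE'
  exact hne ⟨by rw [← hyz] at hE; linear_combination hE - y * hw.eq, hyz⟩

/-- Abelian normal subgroups are scalar. -/
theorem abelian_le_scalars {A : Subgroup (GL (Fin 3) F)} (hn : Nrm M A)
    (hA : ∀ x ∈ A, ∀ y ∈ A, x * y = y * x) : A ≤ Cfsg.Geo.scalars (Fin 3) F := by
  have hT : ∀ x ∈ A.map proj, ∀ y ∈ A.map proj, x * y = y * x := by
    rintro _ ⟨x, hx, rfl⟩ _ ⟨y, hy, rfl⟩
    rw [← map_mul, ← map_mul, hA x hx y hy]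
  -- the norms with respect to all conjugates of `dG`
  have hnorm : ∀ g ∈ M, ∀ x ∈ A.map proj,
      x * (proj g * proj (dG hw) * (proj g)⁻¹ * x * (proj g * proj (dG hw) * (proj g)⁻¹)⁻¹) *
        ((proj g * proj (dG hw) * (proj g)⁻¹) ^ 2 * x * ((proj g * proj (dG hw) * (proj g)⁻¹) ^ 2)⁻¹) = 1 := by
    rintro g hg _ ⟨x, hx, rfl⟩
    set b := g⁻¹ * x * g with hb
    have hbA : b ∈ A := by simpa [hb] using hn g⁻¹ (inv_mem hg) x hx
    set b1 := dG hw * b * (dG hw)⁻¹ with hb1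
    set b2 := dG hw * b1 * (dG hw)⁻¹ with hb2
    have hb1A : b1 ∈ A := hn _ hM.d_mem b hbA
    have hb2A : b2 ∈ A := hn _ hM.d_mem b1 hb1A
    have e3 : dG hw * b2 * (dG hw)⁻¹ = b := by
      rw [hb2, hb1, show dG hw * (dG hw * (dG hw * b * (dG hw)⁻¹) * (dG hw)⁻¹) * (dG hw)⁻¹ =
        dG hw ^ 3 * b * (dG hw ^ 3)⁻¹ by
          simp only [pow_succ, pow_zero, one_mul, _root_.mul_inv_rev, mul_assoc], dG_pow_three]
      group
    have hs := hM.scalar_of_commute_d hn hA (mul_mem (mul_mem hbA hb1A) hb2A) (Commute.symm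
      (mul_inv_eq_iff_eq_mul.1 (by
        rw [← conj_mul, ← conj_mul, ← hb1, ← hb2, e3, mul_assoc b, hA _ hbA _ (mul_mem hb1A hb2A)])))
    rw [← proj_eq_one] at hs
    simp only [hb2, hb1, hb, map_mul, map_inv] at hs
    rw [← conj_eq_one_iff (a := proj g)] at hs
    rw [← hs]
    simp only [pow_two, _root_.mul_inv_rev, inv_inv, mul_assoc, inv_mul_cancel_left, mul_inv_cancel_left]
  intro a ha
  by_contra has
  -- exponent three
  have h3 : ∀ x ∈ A.map proj, x ^ 3 = 1 := by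
    intro x hx
    letI : CommGroup (A.map proj) :=
      { (inferInstance : Group (A.map proj)) with mul_comm := fun u v => Subtype.ext (hT _ u.2 _ v.2) }
    let cj : ∀ (g : GL (Fin 3) F), g ∈ M → (A.map proj →* A.map proj) := fun g hg =>
      MonoidHom.mk' (fun u => ⟨proj g * u * (proj g)⁻¹, hM.proj_nrm hn hg u u.2⟩)
        (fun u v => Subtype.ext (conj_mul).symm)
    refine congrArg Subtype.val (pow_three_of_norms (cj _ hM.d_mem) (cj _ hM.sh_mem) ⟨x, hx⟩ ?_ ?_ ?_ ?_)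
    all_goals refine Subtype.ext ?_
    all_goals simp only [cj, MonoidHom.mk'_apply, Subgroup.coe_mul, Subgroup.coe_one]
    · refine Eq.trans ?_ (hnorm 1 (one_mem _) x hx)
      rw [map_one]; group
    · refine Eq.trans ?_ (hnorm _ (inv_mem hM.q1) x hx)
      have e : (proj (q1G hw))⁻¹ * proj (dG hw) * proj (q1G hw) = proj shG := by
        rw [← (q1G_conj hw).2]; group
      rw [map_inv, inv_inv, e]; group
    · refine Eq.trans ?_ (hnorm _ (mul_mem hM.q2 (inv_mem hM.q1)) x hx)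
      have e : proj (q2G hw * (q1G hw)⁻¹) * proj (dG hw) * (proj (q2G hw * (q1G hw)⁻¹))⁻¹ =
          proj (dG hw) ^ 2 * proj shG ^ 2 := by
        rw [← (q2G_conj hw).2, map_mul, map_inv]
        have : (proj (q1G hw))⁻¹ * proj (dG hw) * proj (q1G hw) = proj shG := by
          rw [← (q1G_conj hw).2]; group
        rw [← this]; group
      have hD : proj (dG hw) ^ 3 = 1 := by rw [← map_pow, dG_pow_three, map_one]
      have hS : proj (shG : GL (Fin 3) F) ^ 3 = 1 := by rw [← map_pow, shG_pow_three, map_one]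
      have e2 : (proj (dG hw) ^ 2 * proj shG ^ 2) ^ 2 = proj (dG hw) * proj shG := by
        rw [((proj_commute_d_sh hw).pow_pow 2 2).mul_pow, ← pow_mul, ← pow_mul, pow_succ _ 3, pow_succ _ 3,
          hD, hS, one_mul, one_mul]
      rw [e, e2]
      simp only [pow_two, _root_.mul_inv_rev, mul_assoc]
    · refine Eq.trans ?_ (hnorm _ hM.q2 x hx)
      have hD : proj (dG hw) ^ 3 = 1 := by rw [← map_pow, dG_pow_three, map_one]
      have hS : proj (shG : GL (Fin 3) F) ^ 3 = 1 := by rw [← map_pow, shG_pow_three, map_one]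
      have e2 : (proj (dG hw) * proj shG ^ 2) ^ 2 = proj (dG hw) ^ 2 * proj shG := by
        rw [((proj_commute_d_sh hw).pow_right 2).mul_pow, ← pow_mul, pow_succ _ 3, hS, one_mul]
      rw [(q2G_conj hw).1, e2]
      simp only [pow_two, _root_.mul_inv_rev, mul_assoc]
  obtain ⟨c, hc, hcs, hcC⟩ := hM.exists_heisC hn hT h3 ha has
  obtain ⟨⟨x, hx, ex⟩, y, hy, ey⟩ := hM.d_sh_of_fixed hn hc hcs hcC
  -- the generators would commute
  obtain ⟨cx, hcx⟩ := proj_eq_iff.1 ex
  obtain ⟨cy, hcy⟩ := proj_eq_iff.1 ey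
  have hxy := congrArg Units.val (hA x hx y hy)
  rw [Units.val_mul, Units.val_mul, hcx, hcy, Matrix.smul_mul, Matrix.mul_smul, Matrix.smul_mul,
    Matrix.mul_smul, smul_smul, smul_smul, mul_comm cy cx] at hxy
  have hne : cx * cy ≠ 0 := mul_ne_zero (Prop'.ne_zero hcx) (Prop'.ne_zero hcy)
  have := congrFun (congrFun (smul_right_injective _ hne hxy) 1) 0
  simp [coe_dG, coe_shG, Matrix.mul_apply, Fin.sum_univ_three] at this
  exact hw.ne_one this

/-- A soluble normal subgroup which is not scalar. -/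
theorem le_normalizer_of_soluble [Finite F] {L : Subgroup (GL (Fin 3) F)} (hLM : L ≤ M) (hn : Nrm M L)
    [Fintype F] (hsol : IsSolvable L) (hns : ¬ L ≤ Cfsg.Geo.scalars (Fin 3) F) :
    M ≤ Subgroup.normalizer (heis hw : Set (GL (Fin 3) F)) := by
  classical
  let K : ℕ → Subgroup (GL (Fin 3) F) := fun n => (derivedSeries L n).map L.subtype
  have hK : ∀ n, K (n + 1) = ⁅K n, K n⁆ := fun n => by
    show (derivedSeries L (n + 1)).map L.subtype = _
    rw [derivedSeries_succ, Subgroup.map_commutator]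
  have hKn : ∀ n, Nrm M (K n) := by
    intro n
    induction n with
    | zero =>
      intro g hg x hx
      have : K 0 = L := by
        show (derivedSeries L 0).map L.subtype = L
        rw [derivedSeries_zero, ← MonoidHom.range_eq_map, Subgroup.range_subtype]
      rw [this] at hx ⊢
      exact hn g hg x hx
    | succ n ih =>
      intro g hg x hx
      rw [hK] at hx ⊢
      have hle : (K n).map (MulAut.conj g).toMonoidHom ≤ K n := by
        rintro _ ⟨y, hy, rfl⟩
        exact ih g hg y hy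
      have h := Subgroup.mem_map_of_mem (MulAut.conj g).toMonoidHom hx
      rw [Subgroup.map_commutator] at h
      exact Subgroup.commutator_mono hle hle h
  obtain ⟨N, hN⟩ := (isSolvable_def L).1 hsol
  have hex : ∃ n, K n ≤ Cfsg.Geo.scalars (Fin 3) F := ⟨N, by
    show (derivedSeries L N).map L.subtype ≤ _
    rw [hN, Subgroup.map_bot]; exact bot_le⟩
  have hm0 : Nat.find hex ≠ 0 := fun h => hns (by
    have := Nat.find_spec hex
    rw [h] at this
    convert this using 1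
    show L = (derivedSeries L 0).map L.subtype
    rw [derivedSeries_zero, ← MonoidHom.range_eq_map, Subgroup.range_subtype])
  obtain ⟨m, hm⟩ := Nat.exists_eq_succ_of_ne_zero hm0
  have hBns : ¬ K m ≤ Cfsg.Geo.scalars (Fin 3) F := Nat.find_min hex (by omega)
  have hBcomm : ⁅K m, K m⁆ ≤ Cfsg.Geo.scalars (Fin 3) F := by
    rw [← hK]
    have := Nat.find_spec hex
    rwa [hm] at this
  set B := K m with hB
  have hBM : B ≤ M := (Subgroup.map_subtype_le _).trans hLM
  have hn' : Nrm M B := hKn m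
  have hcm : ∀ x ∈ B, ∀ y ∈ B, x * y * x⁻¹ * y⁻¹ ∈ Cfsg.Geo.scalars (Fin 3) F := fun x hx y hy =>
    hBcomm (commutatorElement_def x y ▸ Subgroup.commutator_mem_commutator hx hy)
  have hT : ∀ x ∈ B.map proj, ∀ y ∈ B.map proj, x * y = y * x := by
    rintro _ ⟨x, hx, rfl⟩ _ ⟨y, hy, rfl⟩
    have := proj_eq_one.2 (hcm x hx y hy)
    rwa [map_mul, map_mul, map_mul, map_inv, map_inv, mul_inv_eq_one, mul_inv_eq_iff_eq_mul] at this
  have h3 : ∀ x ∈ B.map proj, x ^ 3 = 1 := by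
    rintro _ ⟨x, hx, rfl⟩
    let A : Subgroup (GL (Fin 3) F) := B ⊓ Subgroup.centralizer (B : Set (GL (Fin 3) F))
    have hA : A ≤ Cfsg.Geo.scalars (Fin 3) F := by
      refine hM.abelian_le_scalars ?_ (fun u hu v hv => Subgroup.mem_centralizer_iff.1 hv.2 u hu.1)
      rintro g hg u ⟨hu, huC⟩
      refine ⟨hn' g hg u hu, Subgroup.mem_centralizer_iff.2 fun v hv => ?_⟩
      have hv' : g⁻¹ * v * g ∈ B := by simpa using hn' g⁻¹ (inv_mem hg) v hv
      have := Subgroup.mem_centralizer_iff.1 huC _ hv'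
      calc v * (g * u * g⁻¹) = g * ((g⁻¹ * v * g) * u) * g⁻¹ := by group
        _ = g * (u * (g⁻¹ * v * g)) * g⁻¹ := by rw [this]
        _ = _ := by group
    rw [← map_pow, proj_eq_one]
    refine hA ⟨pow_mem hx 3, Subgroup.mem_centralizer_iff.2 fun y hy => ?_⟩
    obtain ⟨c, hc⟩ := hcm y hy x hx
    have he : y * x * y⁻¹ = scG c * x := by
      show _ = Units.map _ c * x
      rw [show (Units.map (Matrix.scalar (Fin 3)).toMonoidHom c : GL (Fin 3) F) = y * x * y⁻¹ * x⁻¹ from hc]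
      group
    have hc3 : (c : F) ^ 3 = 1 := by
      refine scalar_cube ?_
      rw [show scG c = y * x * y⁻¹ * x⁻¹ by rw [he]; group]
      exact hM.sl (hBM (mul_mem (mul_mem (mul_mem hy hx) (inv_mem hy)) (inv_mem hx)))
    refine mul_inv_eq_iff_eq_mul.1 ?_
    rw [← conj_pow, he, (scG_commute c x).mul_pow, show scG c ^ 3 = scG (c ^ 3) from (map_pow _ _ _).symm,
      show c ^ 3 = 1 from Units.ext (by simpa using hc3), show scG (1 : Fˣ) = (1 : GL (Fin 3) F) from map_one _,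
      one_mul]
  obtain ⟨a, ha, has⟩ := SetLike.not_le_iff_exists.1 hBns
  obtain ⟨c, hc, hcs, hcC⟩ := hM.exists_heisC hn' hT h3 ha has
  obtain ⟨hd, hs⟩ := hM.d_sh_of_fixed hn' hc hcs hcC
  have hBC : ∀ x ∈ B, x ∈ heisC hw := fun x hx => (mem_heisC_iff hw).2
    ⟨hT _ (Subgroup.mem_map_of_mem _ hx) _ hd, hT _ (Subgroup.mem_map_of_mem _ hx) _ hs⟩
  intro g hg
  have key : ∀ e : GL (Fin 3) F, e ∈ heis hw → proj e ∈ B.map proj → g * e * g⁻¹ ∈ heis hw := by
    rintro e he ⟨b, hb, hbe⟩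
    refine ⟨?_, (MonoidHom.normal_ker _).conj_mem _ he.2 _⟩
    have hgb := (mem_heisC_iff hw).1 (hBC _ (hn' g hg b hb))
    refine (mem_heisC_iff hw).2 ?_
    rw [map_mul, map_mul, map_inv, ← hbe]
    rw [map_mul, map_mul, map_inv] at hgb
    exact hgb
  exact mem_normalizer_heis hw (key _ (dG_mem hw) hd) (key _ (shG_mem hw) hs)

end Over

end CfsgLib.MaxSub.SlThree.Extra
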