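import Cfsg.Agent.Lib.MaxSub.SlThree.ExtraFrame

/-!
A subgroup containing the group of order `27` and a non-trivial transvection, over a field in which every
element is a multiple of one, contains `SL₃`.
-/

set_option autoImplicit false
set_option linter.unusedSectionVars false
set_option linter.unusedSimpArgs false

namespace CfsgLib.MaxSub.SlThree.Extra

open Matrix
open scoped MatrixGroups
open CfsgLib.MaxSub

variable {F : Type*} [Field F]

/-- Every element is a natural multiple of one. -/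
def PrimeField (F : Type*) [Field F] : Prop := ∀ x : F, ∃ n : ℕ, (n : F) = x

theorem primeField_of_card [Fintype F] {p : ℕ} (hp : p.Prime) (hF : Fintype.card F = p) :
    PrimeField F := by
  have := Fact.mk hp
  intro x
  have hc : CharP F p := by
    obtain ⟨q, hq⟩ := CharP.exists F
    obtain ⟨n, hqp, hn⟩ := FiniteField.card F q
    have : q = p := by
      have h1 : q ∣ p := by rw [← hF, hn]; exact dvd_pow_self q n.pos.ne'
      exact (Nat.prime_dvd_prime_iff_eq hqp hp).1 h1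
    exact this ▸ hq
  have hbij : Function.Bijective (ZMod.castHom (dvd_refl p) F) := by
    rw [Fintype.bijective_iff_injective_and_card]
    exact ⟨(ZMod.castHom (dvd_refl p) F).injective, by rw [ZMod.card, hF]⟩
  obtain ⟨y, rfl⟩ := hbij.2 x
  exact ⟨y.val, by rw [← map_natCast (ZMod.castHom (dvd_refl p) F), ZMod.natCast_zmod_val]⟩

theorem smul_tv (hF : PrimeField F) {M : Subgroup (GL (Fin 3) F)} {a φ : Fin 3 → F}
    (h : HasTv M a φ) (k : F) : HasTv M a (k • φ) := by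
  obtain ⟨n, rfl⟩ := hF k
  induction n with
  | zero => rw [Nat.cast_zero, zero_smul]; exact hasTv_zero _
  | succ n ih => rw [Nat.cast_succ, add_smul, one_smul]; exact ih.add h

variable {w : F} (hw : Root w)

/-- The group of order `27` is irreducible, on vectors and on forms. -/
theorem exists_move {n a : Fin 3 → F} (hn : n ≠ 0) (ha : a ≠ 0) :
    ∃ g ∈ heis hw, n ⬝ᵥ ((g : Matrix (Fin 3) (Fin 3) F) *ᵥ a) ≠ 0 := by
  by_contra hcon
  push Not at hcon
  have := hw.eq; have := hw.three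
  obtain ⟨i, hi⟩ := Function.ne_iff.1 hn
  obtain ⟨j, hj⟩ := Function.ne_iff.1 ha
  simp only [Pi.zero_apply] at hi hj
  have H : ∀ (g : GL (Fin 3) F), g ∈ heis hw → ∀ (u v : F),
      n ⬝ᵥ (((g : GL (Fin 3) F) : Matrix (Fin 3) (Fin 3) F) *ᵥ a) = 0 ∧
      n ⬝ᵥ (((dG hw * g : GL (Fin 3) F) : Matrix (Fin 3) (Fin 3) F) *ᵥ a) = 0 ∧
      n ⬝ᵥ (((dG hw * (dG hw * g) : GL (Fin 3) F) : Matrix (Fin 3) (Fin 3) F) *ᵥ a) = 0 :=
    fun g hg _ _ => ⟨hcon g hg, hcon _ (mul_mem (dG_mem hw) hg),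
      hcon _ (mul_mem (dG_mem hw) (mul_mem (dG_mem hw) hg))⟩
  obtain ⟨a0, a1, a2⟩ := H 1 (one_mem _) 0 0
  obtain ⟨b0, b1, b2⟩ := H shG (shG_mem hw) 0 0
  obtain ⟨c0, c1, c2⟩ := H (shG * shG) (mul_mem (shG_mem hw) (shG_mem hw)) 0 0
  simp [Units.val_mul, coe_dG, coe_shG, Matrix.mulVec, dotProduct, Fin.sum_univ_three,
    Matrix.mul_apply] at a0 a1 a2 b0 b1 b2 c0 c1 c2
  have key : n i * a j = 0 := by
    fin_cases i <;> fin_cases j <;> simp at hi hj ⊢ <;> grind
  exact mul_ne_zero hi hj key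

theorem exists_move_dual {n φ : Fin 3 → F} (hn : n ≠ 0) (hφ : φ ≠ 0) :
    ∃ g ∈ heis hw, (φ ᵥ* ((g⁻¹ : GL (Fin 3) F) : Matrix (Fin 3) (Fin 3) F)) ⬝ᵥ n ≠ 0 := by
  obtain ⟨g, hg, h⟩ := exists_move hw hφ hn
  refine ⟨g⁻¹, inv_mem hg, ?_⟩
  rw [inv_inv, ← dotProduct_mulVec]
  exact h

theorem det_of_rows (a b c : Fin 3 → F) : (Matrix.of ![a, b, c]).det = crossProduct a b ⬝ᵥ c := by
  rw [Matrix.det_fin_three, cross_apply, dot_three]
  simp
  ring

theorem eq_zero_of_three {a b c x : Fin 3 → F} (h : crossProduct a b ⬝ᵥ c ≠ 0) (h1 : a ⬝ᵥ x = 0)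
    (h2 : b ⬝ᵥ x = 0) (h3 : c ⬝ᵥ x = 0) : x = 0 := by
  rw [← det_of_rows] at h
  refine Matrix.eq_zero_of_mulVec_eq_zero h ?_
  ext i
  fin_cases i
  exacts [h1, h2, h3]

theorem linearIndependent_of_cross {a b c : Fin 3 → F} (h : crossProduct a b ⬝ᵥ c ≠ 0) :
    LinearIndependent F ![a, b, c] := by
  rw [← det_of_rows] at h
  exact Matrix.linearIndependent_rows_iff_isUnit.2
    ((Matrix.isUnit_iff_isUnit_det _).2 (isUnit_iff_ne_zero.2 h))

variable {M : Subgroup (GL (Fin 3) F)}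

/-- Two independent axes at one centre give `SL₃`. -/
theorem sl_le_of_two_axes (hF : PrimeField F) (hM : heis hw ≤ M) {a φ ψ : Fin 3 → F} (ha : a ≠ 0)
    (hφ : HasTv M a φ) (hψ : HasTv M a ψ) (hn : crossProduct φ ψ ≠ 0) :
    Cfsg.Geo.specialLinear (Fin 3) F ≤ M := by
  -- the full group of axes at `a`
  have hfull : ∀ χ, χ ⬝ᵥ a = 0 → HasTv M a χ := by
    intro χ hχ
    set n := crossProduct φ ψ with hnd
    obtain ⟨i, hi⟩ := Function.ne_iff.1 hn
    simp only [Pi.zero_apply] at hi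
    obtain ⟨j, hj⟩ := Function.ne_iff.1 ha
    simp only [Pi.zero_apply] at hj
    have hz : χ ⬝ᵥ n = 0 := by
      refine (mul_eq_zero.1 (?_ : a j * (χ ⬝ᵥ n) = 0)).resolve_left hj
      have h1 := hφ.1
      have h2 := hψ.1
      rw [dot_three] at h1 h2 hχ ⊢
      simp [hnd, cross_apply]
      fin_cases j <;> simp <;> grind
    have he : χ = (crossProduct χ ψ i / n i) • φ + (crossProduct φ χ i / n i) • ψ := by
      rw [dot_three] at hz
      ext l
      simp only [Pi.add_apply, Pi.smul_apply, smul_eq_mul]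
      field_simp
      simp [hnd, cross_apply] at hz ⊢
      fin_cases i <;> fin_cases l <;> simp <;> grind
    rw [he]
    exact (smul_tv hF hφ _).add (smul_tv hF hψ _)
  -- three independent centres
  obtain ⟨g, hg, hg'⟩ : ∃ g ∈ heis hw, crossProduct a ((g : Matrix (Fin 3) (Fin 3) F) *ᵥ a) ≠ 0 := by
    by_contra hcon
    push Not at hcon
    have hn0 : ∃ n : Fin 3 → F, n ≠ 0 ∧ n ⬝ᵥ a = 0 := by
      by_cases h : φ = 0
      · exact absurd (by rw [h]; simp) hn
      · exact ⟨φ, h, hφ.1⟩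
    obtain ⟨n, hn0, hna⟩ := hn0
    obtain ⟨g, hg, h⟩ := exists_move hw hn0 ha
    refine h ?_
    have hc := hcon g hg
    set b := (g : Matrix (Fin 3) (Fin 3) F) *ᵥ a
    obtain ⟨j, hj⟩ := Function.ne_iff.1 ha
    simp only [Pi.zero_apply] at hj
    refine (mul_eq_zero.1 (?_ : a j * (n ⬝ᵥ b) = 0)).resolve_left hj
    have c0 := congrFun hc 0
    have c1 := congrFun hc 1
    have c2 := congrFun hc 2
    simp [cross_apply] at c0 c1 c2
    rw [dot_three] at hna ⊢
    fin_cases j <;> simp <;> grind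
  obtain ⟨k, hk, hk'⟩ := exists_move hw hg' ha
  refine sl_le_of_three_centres (linearIndependent_of_cross hk') fun i χ hχ => ?_
  have conj : ∀ g ∈ M, ∀ χ, χ ⬝ᵥ ((g : Matrix (Fin 3) (Fin 3) F) *ᵥ a) = 0 →
      HasTv M ((g : Matrix (Fin 3) (Fin 3) F) *ᵥ a) χ := by
    intro g hg χ hχ
    have h1 := (hfull (χ ᵥ* (g : Matrix (Fin 3) (Fin 3) F)) (by rwa [← dotProduct_mulVec])).conj hg
    rwa [vecMul_vecMul, ← Units.val_mul, mul_inv_cancel, Units.val_one, vecMul_one] at h1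
  fin_cases i
  · exact hfull χ hχ
  · exact conj g (hM hg) χ hχ
  · exact conj k (hM hk) χ hχ

/-- Otherwise the pairing of axes with centres is degenerate: impossible. -/
theorem sl_le_of_tv (hF : PrimeField F) (hM : heis hw ≤ M) {a φ : Fin 3 → F} (ha : a ≠ 0) (hφ0 : φ ≠ 0)
    (hφ : HasTv M a φ) : Cfsg.Geo.specialLinear (Fin 3) F ≤ M := by
  by_contra hcon
  have hpar : ∀ {b φ ψ : Fin 3 → F}, b ≠ 0 → HasTv M b φ → HasTv M b ψ → crossProduct φ ψ = 0 :=
    fun hb h h' => of_not_not fun hn => hcon (sl_le_of_two_axes hw hF hM hb h h' hn)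
  have rule : ∀ {a φ b ψ : Fin 3 → F}, HasTv M a φ → HasTv M b ψ → φ ≠ 0 → b ≠ 0 →
      φ ⬝ᵥ b = 0 → ψ ⬝ᵥ a = 0 := by
    intro a φ b ψ h h' hφ0 hb hz
    by_contra ht
    have hb' : HasTv M b φ := by
      have := smul_tv hF (h.comm h' hz) (ψ ⬝ᵥ a)⁻¹
      rwa [smul_smul, inv_mul_cancel₀ ht, one_smul] at this
    have hc := hpar hb hb' h'
    refine hφ0 (funext fun l => (mul_eq_zero.1 (?_ : (ψ ⬝ᵥ a) * φ l = 0)).resolve_left ht)
    have c0 := congrFun hc 0
    have c1 := congrFun hc 1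
    have c2 := congrFun hc 2
    simp [cross_apply] at c0 c1 c2
    have h0 := h.1
    rw [dot_three] at h0 ⊢
    fin_cases l <;> simp <;> grind
  -- conjugating one by a multiple of another
  have move : ∀ {a φ b ψ : Fin 3 → F}, HasTv M a φ → HasTv M b ψ → ∀ k : F,
      HasTv M (b + (k * (φ ⬝ᵥ b)) • a) (ψ - (k * (ψ ⬝ᵥ a)) • φ) := by
    intro a φ b ψ h h' k
    have h1 := h'.conj_tv (smul_tv hF h k)
    rw [smul_dotProduct, smul_smul, smul_eq_mul, mul_comm (ψ ⬝ᵥ a) k] at h1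
    exact h1
  -- a second transvection
  obtain ⟨g, hg, hs⟩ := exists_move hw hφ0 ha
  set b := (g : Matrix (Fin 3) (Fin 3) F) *ᵥ a with hb
  set ψ := φ ᵥ* ((g⁻¹ : GL (Fin 3) F) : Matrix (Fin 3) (Fin 3) F)
  have hψ : HasTv M b ψ := hφ.conj (hM hg)
  have hb0 : b ≠ 0 := fun h => hs (by rw [h, dotProduct_zero])
  have hψ0 : ψ ≠ 0 := fun h => hφ0 (by
    have := congrArg (· ᵥ* (g : Matrix (Fin 3) (Fin 3) F)) h
    simpa [ψ, vecMul_vecMul] using this)
  have ht : ψ ⬝ᵥ a ≠ 0 := fun h => hs (rule hψ hφ hψ0 ha h)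
  -- no transvection is transverse to both
  have noTransverse : ∀ {c χ : Fin 3 → F}, HasTv M c χ → crossProduct a b ⬝ᵥ c ≠ 0 →
      χ ⬝ᵥ crossProduct φ ψ ≠ 0 → False := by
    intro c χ hχ hc hx
    have hc0 : c ≠ 0 := fun h => hc (by rw [h, dotProduct_zero])
    have hχ0 : χ ≠ 0 := fun h => hx (by rw [h, zero_dotProduct])
    have hdet : (φ ⬝ᵥ b) * (ψ ⬝ᵥ c) * (χ ⬝ᵥ a) + (φ ⬝ᵥ c) * (ψ ⬝ᵥ a) * (χ ⬝ᵥ b) = 0 := by
      by_cases h31 : χ ⬝ᵥ a = 0
      · rw [h31, rule hχ hφ hχ0 ha h31]; ring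
      set k := -(χ ⬝ᵥ b) / ((φ ⬝ᵥ b) * (χ ⬝ᵥ a)) with hk
      have hm := move hφ hψ k
      have h0 : b + (k * (φ ⬝ᵥ b)) • a ≠ 0 := fun h => hs (by
        have := congrArg (φ ⬝ᵥ ·) h
        simpa [dotProduct_add, dotProduct_smul, hφ.1] using this)
      have := rule hχ hm hχ0 h0 (by
        rw [dotProduct_add, dotProduct_smul, smul_eq_mul, hk]
        field_simp
        ring)
      rw [sub_dotProduct, smul_dotProduct, smul_eq_mul, hk] at this
      field_simp at this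
      linear_combination this
    have h1 := hφ.1
    have h2 := hψ.1
    have h3 := hχ.1
    have hprod : (crossProduct a b ⬝ᵥ c) * (χ ⬝ᵥ crossProduct φ ψ) = 0 := by
      have hid : (crossProduct a b ⬝ᵥ c) * (χ ⬝ᵥ crossProduct φ ψ) =
          (φ ⬝ᵥ a) * ((ψ ⬝ᵥ b) * (χ ⬝ᵥ c) - (ψ ⬝ᵥ c) * (χ ⬝ᵥ b)) -
          (φ ⬝ᵥ b) * ((ψ ⬝ᵥ a) * (χ ⬝ᵥ c) - (ψ ⬝ᵥ c) * (χ ⬝ᵥ a)) +
          (φ ⬝ᵥ c) * ((ψ ⬝ᵥ a) * (χ ⬝ᵥ b) - (ψ ⬝ᵥ b) * (χ ⬝ᵥ a)) := by
        simp only [dot_three, cross_apply, Matrix.cons_val_zero, Matrix.cons_val_one, Matrix.cons_val]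
        ring
      rw [hid, h1, h2, h3]
      linear_combination hdet
    exact (mul_ne_zero hc hx) hprod
  have hab : crossProduct φ ψ ⬝ᵥ crossProduct a b ≠ 0 := by
    rw [cross_dot_cross, hφ.1, hψ.1, mul_zero, zero_sub, neg_ne_zero]
    exact mul_ne_zero hs ht
  have hn : crossProduct a b ≠ 0 := fun h => hab (by rw [h, dotProduct_zero])
  have hv : crossProduct φ ψ ≠ 0 := fun h => hab (by rw [h, zero_dotProduct])
  obtain ⟨u, hu, hc⟩ := exists_move hw hn ha
  obtain ⟨v, hv', hη⟩ := exists_move_dual hw hv hφ0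
  have hC := hφ.conj (hM hu)
  have hD := hφ.conj (hM hv')
  set c := (u : Matrix (Fin 3) (Fin 3) F) *ᵥ a
  set χ := φ ᵥ* ((u⁻¹ : GL (Fin 3) F) : Matrix (Fin 3) (Fin 3) F)
  set d := (v : Matrix (Fin 3) (Fin 3) F) *ᵥ a with hd
  set η := φ ᵥ* ((v⁻¹ : GL (Fin 3) F) : Matrix (Fin 3) (Fin 3) F)
  have hχ0 : χ ≠ 0 := fun h => hφ0 (by
    have := congrArg (· ᵥ* (u : Matrix (Fin 3) (Fin 3) F)) h
    simpa [χ, vecMul_vecMul] using this)
  have hd0 : d ≠ 0 := fun h => ha (by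
    rw [← inv_mulVec_mulVec v a, ← hd, h, mulVec_zero])
  -- the axis of a centre outside the plane kills the centre of an axis outside the pencil
  have kill : ∀ {c χ : Fin 3 → F}, HasTv M c χ → crossProduct a b ⬝ᵥ c ≠ 0 → χ ⬝ᵥ d = 0 := by
    intro c χ hχ hc
    have hx : χ ⬝ᵥ crossProduct φ ψ = 0 := of_not_not (noTransverse hχ hc)
    have hdn : crossProduct a b ⬝ᵥ d = 0 := of_not_not fun h => noTransverse hD h hη
    by_contra hz
    refine noTransverse (move hχ hD 1) ?_ ?_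
    · rw [dotProduct_add, dotProduct_smul, hdn, zero_add, one_mul, smul_eq_mul]
      exact mul_ne_zero hz hc
    · rw [sub_dotProduct, smul_dotProduct, hx, smul_zero, sub_zero]
      exact hη
  have hx : χ ⬝ᵥ crossProduct φ ψ = 0 := of_not_not (noTransverse hC hc)
  have hdn : crossProduct a b ⬝ᵥ d = 0 := of_not_not fun h => noTransverse hD h hη
  have hχd := kill hC hc
  -- move the first one by either of the two fixed ones
  have two : ∀ {a₁ φ₁ : Fin 3 → F}, HasTv M a₁ φ₁ → crossProduct a b ⬝ᵥ a₁ = 0 →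
      (χ ⬝ᵥ a₁) * (φ₁ ⬝ᵥ d) = 0 := by
    intro a₁ φ₁ h1 h1'
    have := kill (move h1 hC 1) (by
      rw [dotProduct_add, dotProduct_smul, h1', smul_zero, add_zero]; exact hc)
    rw [sub_dotProduct, smul_dotProduct, hχd, smul_eq_mul] at this
    linear_combination -this
  have na : crossProduct a b ⬝ᵥ a = 0 := by rw [dotProduct_comm, dot_self_cross]
  have nb : crossProduct a b ⬝ᵥ b = 0 := by rw [dotProduct_comm, dot_cross_self]
  have twoa := two hφ na
  have twob := two hψ nb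
  have hrows : crossProduct φ ψ ⬝ᵥ crossProduct a b ≠ 0 := hab
  -- so it kills both centres
  have hkill : χ ⬝ᵥ a = 0 ∧ χ ⬝ᵥ b = 0 := by
    constructor
    · by_contra hza
      have hφd : φ ⬝ᵥ d = 0 := (mul_eq_zero.1 twoa).resolve_left hza
      have he : (ψ ⬝ᵥ a) • d - (ψ ⬝ᵥ d) • a = 0 := by
        refine eq_zero_of_three hrows ?_ ?_ ?_
        · rw [dotProduct_sub, dotProduct_smul, dotProduct_smul, hφd, hφ.1, smul_zero, smul_zero, sub_zero]
        · rw [dotProduct_sub, dotProduct_smul, dotProduct_smul, smul_eq_mul, smul_eq_mul]; ring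
        · rw [dotProduct_sub, dotProduct_smul, dotProduct_smul, hdn, na, smul_zero, smul_zero, sub_zero]
      have hψd : ψ ⬝ᵥ d ≠ 0 := fun h => hd0 (by
        rw [h, zero_smul, sub_zero] at he; exact (smul_eq_zero.1 he).resolve_left ht)
      have := congrArg (χ ⬝ᵥ ·) he
      simp only [dotProduct_sub, dotProduct_smul, dotProduct_zero, hχd, smul_eq_mul, mul_zero,
        zero_sub, neg_eq_zero] at this
      exact mul_ne_zero hψd hza this
    · by_contra hzb
      have hψd : ψ ⬝ᵥ d = 0 := (mul_eq_zero.1 twob).resolve_left hzb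
      have he : (φ ⬝ᵥ b) • d - (φ ⬝ᵥ d) • b = 0 := by
        refine eq_zero_of_three hrows ?_ ?_ ?_
        · rw [dotProduct_sub, dotProduct_smul, dotProduct_smul, smul_eq_mul, smul_eq_mul]; ring
        · rw [dotProduct_sub, dotProduct_smul, dotProduct_smul, hψd, hψ.1, smul_zero, smul_zero, sub_zero]
        · rw [dotProduct_sub, dotProduct_smul, dotProduct_smul, hdn, nb, smul_zero, smul_zero, sub_zero]
      have hφd : φ ⬝ᵥ d ≠ 0 := fun h => hd0 (by
        rw [h, zero_smul, sub_zero] at he; exact (smul_eq_zero.1 he).resolve_left hs)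
      have := congrArg (χ ⬝ᵥ ·) he
      simp only [dotProduct_sub, dotProduct_smul, dotProduct_zero, hχd, smul_eq_mul, mul_zero,
        zero_sub, neg_eq_zero] at this
      exact mul_ne_zero hφd hzb this
  refine hχ0 (eq_zero_of_three (a := a) (b := b) (c := crossProduct φ ψ) ?_ ?_ ?_ ?_)
  · rwa [dotProduct_comm]
  · rw [dotProduct_comm]; exact hkill.1
  · rw [dotProduct_comm]; exact hkill.2
  · rw [dotProduct_comm]; exact hx

/-- No non-trivial transvection. -/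
def NoTv (M : Subgroup (GL (Fin 3) F)) : Prop := ∀ a φ, HasTv M a φ → a = 0 ∨ φ = 0

theorem noTv_of_not_le (hF : PrimeField F) (hM : heis hw ≤ M)
    (h : ¬ Cfsg.Geo.specialLinear (Fin 3) F ≤ M) : NoTv M := fun _ _ hx =>
  or_iff_not_imp_left.2 fun ha => of_not_not fun hφ => h (sl_le_of_tv hw hF hM ha hφ hx)

end CfsgLib.MaxSub.SlThree.Extra
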