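import Cfsg.Agent.Lib.MaxSub.SlThree.Basic

/-!
The monomial group is maximal in `SL₃(q)` for `q ≥ 5`.
-/

set_option autoImplicit false
set_option linter.unusedSectionVars false

namespace CfsgLib.MaxSub.SlThree

open Matrix
open scoped MatrixGroups
open CfsgLib.MaxSub CfsgLib.MaxSub.DecompMax

variable {F : Type*} [Field F] {M : Subgroup (GL (Fin 3) F)}

theorem exists_cube_ne_one [Fintype F] (h5 : 5 ≤ Fintype.card F) : ∃ u : F, u ≠ 0 ∧ u ^ 3 ≠ 1 := by
  classical
  by_contra hno
  push Not at hno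
  have hsub : (Finset.univ : Finset F) ⊆ insert 0 (Polynomial.nthRoots 3 (1 : F)).toFinset := by
    intro x _
    rcases eq_or_ne x 0 with rfl | hx
    · exact Finset.mem_insert_self _ _
    · refine Finset.mem_insert_of_mem ?_
      rw [Multiset.mem_toFinset, Polynomial.mem_nthRoots (by norm_num)]
      exact hno x hx
  have h1 := (Finset.card_le_card hsub).trans (Finset.card_insert_le _ _)
  have h2 := (Multiset.toFinset_card_le (Polynomial.nthRoots 3 (1 : F))).trans
    (Polynomial.card_nthRoots 3 1)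
  rw [Finset.card_univ] at h1
  omega

theorem hasMonomials_invTranspose (hM : HasMonomials M) : HasMonomials (M.map invTranspose) :=
  fun y hy hym => ⟨invTranspose y, hM _ (invTranspose_mem_sl hy)
    (mono_invTranspose (mono_of_isBlockMono hym)).isBlockMono, invTranspose_invTranspose y⟩

theorem reduce [Fintype F] (hM : HasMonomials M) (h5 : 5 ≤ Fintype.card F) {a φ : Fin 3 → F}
    (h : HasTv M a φ) {k : Fin 3} (hak : a k = 0) (hφk : φ k ≠ 0) :
    ∃ γ : F, γ ≠ 0 ∧ HasTv M a (Pi.single k γ) := by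
  classical
  obtain ⟨u, hu, hu3⟩ := exists_cube_ne_one h5
  set d : Fin 3 → F := fun l => if l = k then (u ^ 2)⁻¹ else u with hd
  have hd0 : ∀ l, d l ≠ 0 := fun l => by simp only [hd]; split_ifs <;> simp [hu]
  have hprod : ((Equiv.Perm.sign (1 : Equiv.Perm (Fin 3)) : ℤ) : F) * ∏ l, d l = 1 := by
    simp only [map_one, Units.val_one, Int.cast_one, one_mul, hd, Fin.prod_univ_three]
    fin_cases k <;> simp <;> field_simp
  have h1 := hasTv_monConj h (hM.mem 1 d hd0 hprod)
  have h2 : HasTv M (u • a) (fun l => φ l / d l) := by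
    convert h1 using 1
    · funext l
      show u * a l = d ((1 : Equiv.Perm (Fin 3))⁻¹ l) * a ((1 : Equiv.Perm (Fin 3))⁻¹ l)
      by_cases hl : l = k
      · simp [hl, hak]
      · simp [hd, hl]
    · funext l; simp
  have h3 := ((hasTv_smul_iff hu).1 h2).sub h
  refine ⟨(u ^ 3 - 1) * φ k, mul_ne_zero (sub_ne_zero.2 hu3) hφk, ?_⟩
  convert h3 using 1
  funext l
  by_cases hl : l = k
  · subst hl
    simp [hd]
    field_simp
  · simp [hd, hl]
    field_simp
    ring

/-- a transvection with a zero coordinate of the centre off the axis -/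
theorem sl_le_of_zero_coord [Fintype F] (hM : HasMonomials M) (h5 : 5 ≤ Fintype.card F)
    {a φ : Fin 3 → F} (h : HasTv M a φ) (ha : a ≠ 0) {k : Fin 3} (hak : a k = 0) (hφk : φ k ≠ 0) :
    Cfsg.Geo.specialLinear (Fin 3) F ≤ M := by
  obtain ⟨γ, hγ, h1⟩ := reduce hM h5 h hak hφk
  obtain ⟨j, hj⟩ := Function.ne_iff.1 ha
  have hjk : j ≠ k := fun e => hj (by rw [e, hak]; rfl)
  obtain ⟨δ, hδ, h2⟩ := reduce (hasMonomials_invTranspose hM) h5 (hasTv_invTranspose h1) (k := j)
    (by simp [hjk]) (by simpa using hj)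
  refine sl_le_of_invTranspose (sl_le_of_root (hasMonomials_invTranspose hM) (by simp) (i := k) (j := j)
    hjk.symm (c := γ * δ) (mul_ne_zero hγ hδ) ?_)
  have e1 : (Pi.single k (γ * δ) : Fin 3 → F) = δ • Pi.single k γ := by
    rw [← Pi.single_smul', smul_eq_mul, mul_comm]
  rw [e1, hasTv_smul_iff hδ, ← Pi.single_smul', smul_eq_mul, mul_one]
  exact h2

/-- the standard homology with centre `u e_i - e_j` -/
theorem hasHm_side (hM : HasMonomials M) {i j : Fin 3} (hij : i ≠ j) {u : F} (hu : u ≠ 0) :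
    HasHm M (Pi.single i u - Pi.single j 1) (Pi.single i u⁻¹ - Pi.single j 1) := by
  classical
  set d : Fin 3 → F := fun l => if l = i then -u⁻¹ else if l = j then -u else -1 with hd
  have hd0 : ∀ l, d l ≠ 0 := fun l => by simp only [hd]; split_ifs <;> simp [hu]
  have hprod : ((Equiv.Perm.sign (Equiv.swap i j) : ℤ) : F) * ∏ l, d l = 1 := by
    rw [Equiv.Perm.sign_swap hij]
    simp only [Units.val_neg, Units.val_one, Int.cast_neg, Int.cast_one, hd, Fin.prod_univ_three]
    fin_cases i <;> fin_cases j <;> first | exact absurd rfl hij | (simp <;> field_simp)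
  refine ⟨?_, _, hM.mem _ d hd0 hprod, ?_⟩
  · simp [sub_dotProduct, hij, hij.symm, hu]
    norm_num
  · rw [coe_monGL, homMat]
    ext l m
    simp only [monMat, hd, Matrix.add_apply, Matrix.neg_apply, Matrix.one_apply, vecMulVec_apply,
      Pi.sub_apply, Pi.single_apply, Equiv.swap_apply_def]
    fin_cases i <;> fin_cases j <;> (first | exact absurd rfl hij | skip) <;>
      fin_cases l <;> fin_cases m <;> simp [hu]

/-- the standard homology with centre `e_j` -/
theorem hasHm_vertex (hM : HasMonomials M) (j : Fin 3) :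
    HasHm M (Pi.single j (1 : F)) (Pi.single j 2) := by
  classical
  set d : Fin 3 → F := fun l => if l = j then 1 else -1 with hd
  have hd0 : ∀ l, d l ≠ 0 := fun l => by simp only [hd]; split_ifs <;> simp
  have hprod : ((Equiv.Perm.sign (1 : Equiv.Perm (Fin 3)) : ℤ) : F) * ∏ l, d l = 1 := by
    simp only [map_one, Units.val_one, Int.cast_one, one_mul, hd, Fin.prod_univ_three]
    fin_cases j <;> simp
  refine ⟨by simp, _, hM.mem _ d hd0 hprod, ?_⟩
  rw [coe_monGL, homMat]
  ext l m
  simp only [monMat, hd, Matrix.add_apply, Matrix.neg_apply, Matrix.one_apply, vecMulVec_apply,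
    Pi.single_apply, Equiv.Perm.one_apply]
  fin_cases j <;> fin_cases l <;> fin_cases m <;> simp <;> ring

theorem hasMonomials_pull (hM : HasMonomials M) {P : GL (Fin 3) F} (hP : Mono P) :
    HasMonomials (pull P M) := by
  intro y hy hym
  exact hM _ (conj_mem_sl.2 hy) (mono_mul (mono_mul hP (mono_of_isBlockMono hym)) (mono_inv hP)).isBlockMono

theorem core012 [Fintype F] (hM : HasMonomials M) (h5 : 5 ≤ Fintype.card F) {f : Fin 3 → F}
    (h : HasTv M ![1, 1, 1] f) (h0 : f 0 ≠ -1) (h1 : f 1 ≠ 0) (hgood : f 0 * f 1 ≠ f 0 * f 0 - 1) :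
    Cfsg.Geo.specialLinear (Fin 3) F ≤ M := by
  have hfa : f ⬝ᵥ ![1, 1, 1] = 0 := h.1
  have hsum : f 0 + f 1 + f 2 = 0 := by
    rw [dot_three] at hfa; linear_combination (norm := (simp)) hfa
  have hd : 1 + f 0 ≠ 0 := fun e => h0 (by linear_combination e)
  set u : F := f 1 / (1 + f 0) with hu
  have hu0 : u ≠ 0 := div_ne_zero h1 hd
  have hu1 : u + u * f 0 = f 1 := by rw [hu]; field_simp
  obtain ⟨-, t, ht, htv⟩ := h
  have ht' : t = tvGL ![1, 1, 1] f hfa := Units.ext htv
  have hE := (hasHm_side hM (show (0 : Fin 3) ≠ 1 by decide) hu0).conj ht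
  set w : Fin 3 → F := ![0, -1 - u, -u] with hw
  set A : Fin 3 → F := ![u⁻¹ - (u⁻¹ - 1) * f 0, -1 - (u⁻¹ - 1) * f 1, -((u⁻¹ - 1) * f 2)] with hA
  have hE' : HasHm M w A := by
    convert hE using 1
    · rw [htv, tvMat_mulVec]
      ext l; fin_cases l <;> simp [hw, dot_three] <;> linear_combination -hu1
    · rw [ht', show ((tvGL ![1, 1, 1] f hfa)⁻¹ : GL (Fin 3) F) =
        tvGL ![1, 1, 1] (-f) (by rw [neg_dotProduct, hfa, neg_zero]) from Units.ext rfl,
        coe_tvGL, vecMul_tvMat]
      ext l; fin_cases l <;> simp [hA, dot_three] <;> ring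
  have hA0 : A 0 ≠ 0 := by
    simp only [hA, Matrix.cons_val_zero]
    intro e
    field_simp at e
    refine hgood ?_
    linear_combination (1 + f 0) * e - f 0 * hu1
  have hw0 : w ≠ 0 := fun e => hu0 (by simpa [hw] using congrFun e 2)
  by_cases h2 : 1 + u = 0
  · have hB := hasHm_smul (k := -u) (neg_ne_zero.2 hu0) (hasHm_vertex hM (2 : Fin 3))
    have e1 : (-u) • (Pi.single (2 : Fin 3) (1 : F) : Fin 3 → F) = w := by
      ext l; fin_cases l <;> simp [hw]; linear_combination h2
    rw [e1] at hB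
    exact sl_le_of_zero_coord hM h5 (hE'.tv hB) hw0 (k := 0) (by simp [hw]) (by simpa using hA0)
  · have hu' : -((1 + u) / u) ≠ 0 := neg_ne_zero.2 (div_ne_zero h2 hu0)
    have hB := hasHm_smul (k := u) hu0 (hasHm_side hM (show (1 : Fin 3) ≠ 2 by decide) hu')
    have e1 : u • ((Pi.single (1 : Fin 3) (-((1 + u) / u)) - Pi.single (2 : Fin 3) 1) : Fin 3 → F) = w := by
      ext l; fin_cases l <;> simp [hw] <;> field_simp; ring
    rw [e1] at hB
    exact sl_le_of_zero_coord hM h5 (hE'.tv hB) hw0 (k := 0) (by simp [hw]) (by simpa using hA0)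

set_option maxHeartbeats 800000 in
theorem exists_good {f : Fin 3 → F} (hsum : f 0 + f 1 + f 2 = 0) (hf : ∀ i, f i ≠ 0) :
    ∃ (e : F) (σ : Equiv.Perm (Fin 3)), (e = 1 ∨ e = -1) ∧ e * f (σ 0) ≠ -1 ∧
      f (σ 0) * f (σ 1) ≠ f (σ 0) * f (σ 0) - 1 := by
  classical
  by_contra hno
  push Not at hno
  have key : ∀ e : F, (e = 1 ∨ e = -1) → ∀ i j k : Fin 3, i ≠ j → i ≠ k → j ≠ k → e * f i ≠ -1 →
      f i * f j = f i * f i - 1 := by
    intro e he i j k hij hik hjk hi
    have hinj : Function.Injective ![i, j, k] := by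
      intro x y
      fin_cases x <;> fin_cases y <;> simp [hij, hik, hjk, hij.symm, hik.symm, hjk.symm]
    have := hno e (Equiv.ofBijective _ (Finite.injective_iff_bijective.1 hinj)) he
    simpa using this (by simpa using hi)
  -- at most one index differs from `-e`
  have two : ∀ e : F, (e = 1 ∨ e = -1) → ∀ i j k : Fin 3, i ≠ j → i ≠ k → j ≠ k →
      e * f i ≠ -1 → e * f j = -1 := by
    intro e he i j k hij hik hjk hi
    by_contra hj
    have a1 := key e he i j k hij hik hjk hi
    have a2 := key e he i k j hik hij hjk.symm hi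
    have a3 := key e he j i k hij.symm hjk hik hj
    have a4 := key e he j k i hjk hij.symm hik.symm hj
    have e1 : f j = f k := mul_left_cancel₀ (hf i) (a1.trans a2.symm)
    have e2 : f i = f k := mul_left_cancel₀ (hf j) (a3.trans a4.symm)
    rw [e1, e2] at a1
    exact one_ne_zero (by linear_combination a1)
  obtain ⟨i, hi⟩ : ∃ i, (1 : F) * f i ≠ -1 := by
    by_contra hall
    push Not at hall
    have h3 : (3 : F) = 0 := by linear_combination hall 0 + hall 1 + hall 2 - hsum
    have hi : ∀ l, (-1 : F) * f l ≠ -1 := fun l hl =>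
      one_ne_zero (show (1 : F) = 0 by linear_combination h3 - hl - hall l)
    exact hi 1 (two (-1) (.inr rfl) 0 1 2 (by decide) (by decide) (by decide) (hi 0))
  obtain ⟨j, k, hij, hik, hjk, hs⟩ : ∃ j k : Fin 3, i ≠ j ∧ i ≠ k ∧ j ≠ k ∧ f i + f j + f k = 0 := by
    rcases (show i = 0 ∨ i = 1 ∨ i = 2 by fin_cases i <;> simp) with rfl | rfl | rfl
    exacts [⟨1, 2, by decide, by decide, by decide, hsum⟩,
      ⟨0, 2, by decide, by decide, by decide, by linear_combination hsum⟩,
      ⟨0, 1, by decide, by decide, by decide, by linear_combination hsum⟩]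
  have hj := two 1 (.inl rfl) i j k hij hik hjk hi
  have hk := two 1 (.inl rfl) i k j hik hij hjk.symm hi
  rw [one_mul] at hj hk
  have hb := key 1 (.inl rfl) i j k hij hik hjk hi
  have hi2 : f i = 2 := by
    linear_combination hs - hj - hk
  rw [hj, hi2] at hb
  have h5 : (5 : F) = 0 := by linear_combination -hb
  by_cases h2 : (2 : F) = 0
  · exact one_ne_zero (show (1 : F) = 0 by linear_combination h5 - 2 * h2)
  have a : (-1 : F) * f j ≠ -1 := by
    rw [hj]
    exact fun e => h2 (by linear_combination e)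
  have := two (-1) (.inr rfl) j k i hjk hij.symm hik.symm a
  rw [hk] at this
  exact h2 (by linear_combination this)

/-- no generic centre -/
theorem sl_le_of_generic [Fintype F] (hM : HasMonomials M) (h5 : 5 ≤ Fintype.card F)
    {a φ : Fin 3 → F} (h : HasTv M a φ) (ha : ∀ i, a i ≠ 0) (hφ0 : φ ≠ 0) :
    Cfsg.Geo.specialLinear (Fin 3) F ≤ M := by
  classical
  by_cases hz : ∃ k, φ k = 0
  · obtain ⟨k, hk⟩ := hz
    exact sl_le_of_invTranspose (sl_le_of_zero_coord (hasMonomials_invTranspose hM) h5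
      (hasTv_invTranspose h) hφ0 hk (by simp [ha k]))
  push Not at hz
  set f : Fin 3 → F := fun i => φ i * a i with hf
  have hsum : f 0 + f 1 + f 2 = 0 := by simpa [hf, dot_three] using h.1
  obtain ⟨e, σ, he, h1, h2⟩ := exists_good hsum fun i => mul_ne_zero (hz i) (ha i)
  have he0 : e ≠ 0 := by rcases he with rfl | rfl <;> simp
  set d : Fin 3 → F := fun i => a (σ i) with hd
  have hPm : Mono (monGL σ d fun i => ha _) := ⟨σ, d, fun i => ha _, rfl⟩
  refine sl_le_of_pull (core012 (hasMonomials_pull hM hPm) h5 (f := fun i => e * f (σ i)) ?_ h1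
    (mul_ne_zero he0 (mul_ne_zero (hz _) (ha _))) ?_)
  · rw [hasTv_pull]
    have he' : HasTv M a (e • φ) := by
      rcases he with rfl | rfl
      · rwa [one_smul]
      · rw [neg_one_smul]; exact h.neg
    convert he' using 1
    · funext l
      obtain ⟨l, rfl⟩ := σ.surjective l
      rw [coe_monGL, monMat_mulVec]
      fin_cases l <;> simp [hd]
    · funext l
      show ((fun i => e * f (σ i)) ᵥ* monMat σ⁻¹ (fun i => (d (σ⁻¹ i))⁻¹)) l = _
      rw [vecMul_monMat]
      simp [hd, hf]
      field_simp [ha l]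
  · rcases he with rfl | rfl
    · simpa using h2
    · simpa using h2

set_option maxHeartbeats 1600000 in
/-- every overgroup of the monomial group contains `SL₃` -/
theorem sl_le_of_not_mono [Fintype F] (hM : HasMonomials M) (h5 : 5 ≤ Fintype.card F)
    {g : GL (Fin 3) F} (hg : g ∈ M) (hgm : ¬ IsBlockMono id (g : Matrix (Fin 3) (Fin 3) F)) :
    Cfsg.Geo.specialLinear (Fin 3) F ≤ M := by
  classical
  by_contra hno
  have gen : ∀ c A, HasHm M c A → A ≠ 0 → ∃ l, c l = 0 := by
    intro c A hE hA0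
    by_contra hc
    push Not at hc
    by_cases h2 : (2 : F) = 0
    · refine hno (sl_le_of_generic hM h5 (a := c) (φ := A) ?_ hc hA0)
      obtain ⟨h0, g', hg', hgv⟩ := hE
      refine ⟨h0.trans h2, g', hg', ?_⟩
      rw [hgv, homMat, tvMat]
      congr 1
      ext l m
      rw [Matrix.neg_apply]
      linear_combination (-(1 : Matrix (Fin 3) (Fin 3) F) l m) * h2
    have rule : ∀ c A, HasHm M c A → (∀ l, c l ≠ 0) → ∀ i j, i ≠ j → A i * c i = A j * c j := by
      intro c A hE hc i j hij
      have hu : c i / c j ≠ 0 := div_ne_zero (hc i) (hc j)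
      obtain ⟨-, P, hP, hPv⟩ := hasHm_side hM hij hu
      have hc' : (Pi.single i (c i / c j)⁻¹ - Pi.single j 1 : Fin 3 → F) ⬝ᵥ c = 0 := by
        simp [sub_dotProduct]
        field_simp [hc i, hc j]
        ring
      have h1 := hE.conj (inv_mem hP)
      rw [inv_inv, hPv] at h1
      have hPc : ((P⁻¹ : GL (Fin 3) F) : Matrix (Fin 3) (Fin 3) F) *ᵥ c = -c := by
        have : (P : Matrix (Fin 3) (Fin 3) F) *ᵥ c = -c := by
          rw [hPv, homMat_mulVec, hc', zero_smul, add_zero]
        have h3 := congrArg (((P⁻¹ : GL (Fin 3) F) : Matrix (Fin 3) (Fin 3) F) *ᵥ ·) this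
        rw [inv_mulVec_mulVec, mulVec_neg] at h3
        exact neg_eq_iff_eq_neg.1 h3.symm
      rw [hPc, vecMul_homMat] at h1
      have h4 := hasHm_smul (k := -1) (by simp) h1
      rw [neg_one_smul, neg_neg] at h4
      have h5' := (hE.tv h4)
      by_contra hne
      refine hno (sl_le_of_generic hM h5 h5' hc fun e => hne ?_)
      have := congrFun e i
      simp [dotProduct_sub, hij, hij.symm] at this
      have hcj := hc j
      have hci := hc i
      field_simp at this
      rcases this with h | h | h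
      · linear_combination h
      exacts [absurd h hcj, absurd h hci]
    have h01 := rule c A hE hc 0 1 (by decide)
    have h02 := rule c A hE hc 0 2 (by decide)
    have hs := hE.1
    rw [dot_three] at hs
    have h3A : 3 * (A 0 * c 0) = 2 := by linear_combination hs + h01 + h02
    obtain ⟨-, E, hEm, hEv⟩ := hE
    obtain ⟨hs', -⟩ := hasHm_vertex hM (0 : Fin 3)
    have h1 := (hasHm_vertex hM (0 : Fin 3)).conj hEm
    have hEinv : ((E⁻¹ : GL (Fin 3) F) : Matrix (Fin 3) (Fin 3) F) = homMat c A := by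
      rw [Units.inv_eq_of_mul_eq_one_right]
      rw [hEv, homMat_mul_homMat _ _ _ (by rw [dot_three]; exact hs), sub_self, tvMat_zero]
    rw [hEv, hEinv, homMat_mulVec, vecMul_homMat] at h1
    simp only [dotProduct_single, single_dotProduct, mul_one] at h1
    have hc' : ∀ l, (-(Pi.single 0 1 : Fin 3 → F) + A 0 • c) l ≠ 0 := by
      intro l
      fin_cases l <;> simp
      · intro e
        exact one_ne_zero (show (1 : F) = 0 by linear_combination -3 * e + h3A)
      · exact ⟨fun e => h2 (by rw [← h3A, e]; ring), hc 1⟩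
      · exact ⟨fun e => h2 (by rw [← h3A, e]; ring), hc 2⟩
    have h4 := rule _ _ h1 hc' 0 1 (by decide)
    simp at h4
    exact h2 (by linear_combination -3 * h4 + 6 * (A 0 * c 0) * h01 - 4 * h3A)
  -- every pair of columns has a common zero
  have col : ∀ i j : Fin 3, i ≠ j → ∃ l, (g : Matrix (Fin 3) (Fin 3) F) l i = 0 ∧
      (g : Matrix (Fin 3) (Fin 3) F) l j = 0 := by
    intro i j hij
    by_contra hcom
    push Not at hcom
    have hl : ∀ l, ((Finset.univ : Finset F).erase 0 |>.filter fun u =>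
        u * (g : Matrix (Fin 3) (Fin 3) F) l i = (g : Matrix (Fin 3) (Fin 3) F) l j).card ≤ 1 := by
      intro l
      refine Finset.card_le_one.2 fun u hu u' hu' => ?_
      have e1 := (Finset.mem_filter.1 hu).2
      have e2 := (Finset.mem_filter.1 hu').2
      by_contra hne
      have h0 : (g : Matrix (Fin 3) (Fin 3) F) l i = 0 := by
        by_contra h
        exact hne (mul_right_cancel₀ h (e1.trans e2.symm))
      rw [h0, mul_zero] at e1
      exact hcom l h0 e1.symm
    have hcov : (Finset.univ : Finset F).erase 0 ⊆ Finset.univ.biUnion fun l : Fin 3 =>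
        ((Finset.univ : Finset F).erase 0).filter fun u =>
          u * (g : Matrix (Fin 3) (Fin 3) F) l i = (g : Matrix (Fin 3) (Fin 3) F) l j := by
      intro u hu
      have h := (hasHm_side hM hij (Finset.mem_erase.1 hu).1).conj hg
      obtain ⟨l, hl⟩ := gen _ _ h fun e => by
        have := congrFun (congrArg (fun z => z ᵥ* (g : Matrix (Fin 3) (Fin 3) F)) e) j
        rw [vecMul_vecMul, ← Units.val_mul, inv_mul_cancel, Units.val_one, vecMul_one, zero_vecMul] at this
        simp [hij.symm] at this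
      refine Finset.mem_biUnion.2 ⟨l, Finset.mem_univ _, Finset.mem_filter.2 ⟨hu, ?_⟩⟩
      have he : ((g : Matrix (Fin 3) (Fin 3) F) *ᵥ (Pi.single i u - Pi.single j 1)) l =
          u * (g : Matrix (Fin 3) (Fin 3) F) l i - (g : Matrix (Fin 3) (Fin 3) F) l j := by
        simp [mulVec, dotProduct_sub]; ring
      rw [he] at hl
      linear_combination hl
    have := (Finset.card_le_card hcov).trans (Finset.card_biUnion_le.trans (Finset.sum_le_sum fun l _ => hl l))
    rw [Finset.card_erase_of_mem (Finset.mem_univ _), Finset.card_univ] at this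
    simp at this
    omega
  refine hgm fun a => ?_
  obtain ⟨b, c, hab, hac, hbc⟩ : ∃ b c : Fin 3, a ≠ b ∧ a ≠ c ∧ b ≠ c := by
    fin_cases a
    exacts [⟨1, 2, by decide, by decide, by decide⟩, ⟨0, 2, by decide, by decide, by decide⟩,
      ⟨0, 1, by decide, by decide, by decide⟩]
  obtain ⟨r, hra, hrb⟩ := col a b hab
  obtain ⟨s, hsa, hsc⟩ := col a c hac
  have hrs : r ≠ s := fun e => by
    subst e
    have h0 : ∀ m, (g : Matrix (Fin 3) (Fin 3) F) r m = 0 := by
      intro m
      rcases (show m = a ∨ m = b ∨ m = c by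
        fin_cases a <;> fin_cases b <;> fin_cases c <;> fin_cases m <;> simp_all) with rfl | rfl | rfl
      exacts [hra, hrb, hsc]
    exact (Matrix.GeneralLinearGroup.det g).ne_zero (by
      rw [Matrix.GeneralLinearGroup.val_det_apply]
      exact Matrix.det_eq_zero_of_row_eq_zero r h0)
  obtain ⟨t, htr, hts⟩ : ∃ t : Fin 3, t ≠ r ∧ t ≠ s := by
    fin_cases r <;> fin_cases s <;> first | exact absurd rfl hrs | decide
  refine ⟨t, fun i l hi hl => ?_⟩
  simp only [id] at hi hl
  subst hi
  rcases (show l = r ∨ l = s by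
    fin_cases r <;> fin_cases s <;> fin_cases t <;> fin_cases l <;> simp_all) with rfl | rfl
  exacts [hra, hsa]

/-- decomposition stabilisers are maximal -/
theorem decomposition_maximal_three [Fintype F] (h5 : 5 ≤ Fintype.card F)
    (D : Fin 3 → Submodule F (Fin 3 → F)) (hD : Cfsg.Geo.IsMDecomposition 1 D) :
    Cfsg.Geo.IsMaximalIn (Cfsg.Geo.specialLinear (Fin 3) F)
      (Cfsg.Geo.decompositionStabilizer D ⊓ Cfsg.Geo.specialLinear (Fin 3) F) := by
  classical
  have hex : ∀ i, ∃ v ∈ D i, v ≠ 0 := fun i => (D i).exists_mem_ne_zero_of_ne_bot fun e => by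
    have := hD.finrank_eq i; rw [e, finrank_bot] at this; omega
  choose v hv hv0 using hex
  have hspan : ∀ i, D i = Submodule.span F {v i} := fun i => (Submodule.eq_of_le_of_finrank_eq
    ((Submodule.span_singleton_le_iff_mem _ _).2 (hv i))
    (by rw [finrank_span_singleton (hv0 i), hD.finrank_eq i])).symm
  have hli : LinearIndependent F v := hD.indep.linearIndependent _ hv hv0
  let P : GL (Fin 3) F := Matrix.GeneralLinearGroup.mk'' (Matrix.of fun i j => v j i) (by
    rw [← Matrix.isUnit_iff_isUnit_det]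
    exact Matrix.linearIndependent_cols_iff_isUnit.1 hli)
  have hPv : ∀ i, (P : Matrix (Fin 3) (Fin 3) F) *ᵥ Pi.single i 1 = v i := fun i => by
    ext k
    change ((Matrix.of fun i j => v j i) *ᵥ Pi.single i (1 : F)) k = _
    simp [mulVec, dotProduct, Pi.single_apply]
  have hiff : ∀ g : GL (Fin 3) F, g ∈ Cfsg.Geo.decompositionStabilizer D ↔
      IsBlockMono id ((P⁻¹ * g * P : GL (Fin 3) F) : Matrix (Fin 3) (Fin 3) F) := by
    intro g
    set A := ((P⁻¹ * g * P : GL (Fin 3) F) : Matrix (Fin 3) (Fin 3) F) with hA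
    have hgv : ∀ i, (g : Matrix (Fin 3) (Fin 3) F) *ᵥ v i = ∑ j, A j i • v j := by
      intro i
      have h1 : (P : Matrix (Fin 3) (Fin 3) F) *ᵥ (A *ᵥ Pi.single i 1) =
          (g : Matrix (Fin 3) (Fin 3) F) *ᵥ v i := by
        rw [← hPv i, hA, Units.val_mul, Units.val_mul, ← mulVec_mulVec, ← mulVec_mulVec, mulVec_mulVec_inv]
      rw [← h1, mulVec_single_one, show A.col i = ∑ j, A j i • (Pi.single j 1 : Fin 3 → F) by
        ext k; simp [Finset.sum_apply, Pi.single_apply], mulVec_sum]
      exact Finset.sum_congr rfl fun j _ => by rw [mulVec_smul, hPv]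
    constructor
    · rintro ⟨σ, hσ⟩ a
      refine ⟨σ a, fun i j hi hj => ?_⟩
      simp only [id] at hi hj
      subst hi
      have hm : (g : Matrix (Fin 3) (Fin 3) F) *ᵥ v i ∈ D (σ i) := hσ i ▸ ⟨v i, hv i, rfl⟩
      rw [hspan] at hm
      obtain ⟨c, hc⟩ := Submodule.mem_span_singleton.1 hm
      have h0 : ∑ l, (A l i - (Pi.single (σ i) c : Fin 3 → F) l) • v l = 0 := by
        simp only [sub_smul, Finset.sum_sub_distrib, ← hgv, ← hc, Pi.single_apply, ite_smul, zero_smul,
          Finset.sum_ite_eq', Finset.mem_univ, if_true, sub_self]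
      have := Fintype.linearIndependent_iff.1 hli _ h0 j
      rwa [Pi.single_eq_of_ne hj, sub_zero] at this
    · intro hm
      obtain ⟨σ, d, hd, hg⟩ := mono_of_isBlockMono hm
      refine ⟨σ, fun i => ?_⟩
      rw [hspan, hspan, Submodule.map_span, Set.image_singleton, Matrix.toLin'_apply, hgv,
        Finset.sum_eq_single (σ i)]
      · refine Submodule.span_singleton_smul_eq (isUnit_iff_ne_zero.2 ?_) _
        rw [hA, hg]; simp [monMat, hd i]
      · intro j _ hj
        rw [hA, hg]; simp [monMat, hj]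
      · simp
  have hmem : ∀ M : Subgroup (GL (Fin 3) F),
      Cfsg.Geo.decompositionStabilizer D ⊓ Cfsg.Geo.specialLinear (Fin 3) F ≤ M → HasMonomials (pull P M) := by
    intro M hM y hy hym
    refine hM ⟨(hiff _).2 ?_, conj_mem_sl.2 hy⟩
    simpa [mul_assoc] using hym
  refine isMaximalIn_of_lt (lt_of_le_of_ne inf_le_right fun he => ?_) fun M hM hMS g hg hgH => ?_
  · have h1 : P * tvGL ![1, 0, 0] ![0, 1, 0] (by simp [dot_three]) * P⁻¹ ∈
        Cfsg.Geo.decompositionStabilizer D ⊓ Cfsg.Geo.specialLinear (Fin 3) F := by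
      rw [he]; exact conj_mem_sl.2 (tvGL_mem_specialLinear _ _ _)
    have h2 : IsBlockMono id (tvMat ![(1 : F), 0, 0] ![0, 1, 0]) := by
      simpa [mul_assoc] using (hiff _).1 h1.1
    obtain ⟨b, hb⟩ := h2 1
    by_cases hb0 : b = 0
    · subst hb0
      simpa [tvMat, vecMulVec_apply] using hb 1 1 rfl (by decide)
    · simpa [tvMat, vecMulVec_apply, Matrix.one_apply] using hb 1 0 rfl (Ne.symm hb0)
  · refine sl_le_of_pull (sl_le_of_not_mono (hmem M hM) h5 (g := P⁻¹ * g * P) ?_ fun hm => ?_)
    · rw [mem_pull]; simpa [mul_assoc] using hg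
    · rename_i hMS
      exact hgH ⟨(hiff g).2 hm, hMS hg⟩

end CfsgLib.MaxSub.SlThree
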