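import Cfsg.Agent.Lib.MaxSub.SlThree.Basic
import Cfsg.Agent.Lib.MaxSub.Quad
import Cfsg.Agent.Lib.Aschbacher.SLNotLe

/-!
The orthogonal similarity groups are maximal in `SL₃(q)`, `q` odd.
-/

set_option autoImplicit false
set_option linter.unusedSectionVars false

namespace CfsgLib.MaxSub.SlThree

open Matrix QuadraticMap
open scoped MatrixGroups
open CfsgLib.MaxSub

variable {F : Type*} [Field F] {M : Subgroup (GL (Fin 3) F)}

/-- the standard quadratic form -/
def stdQ (d : F) (v : Fin 3 → F) : F := v 0 * v 2 + d * v 1 ^ 2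

/-- `M` contains the special isometries of the standard quadratic form -/
def HasOrth (d : F) (M : Subgroup (GL (Fin 3) F)) : Prop :=
  ∀ A : Matrix (Fin 3) (Fin 3) F, A.det = 1 → (∀ v, stdQ d (A *ᵥ v) = stdQ d v) →
    ∃ g ∈ M, (g : Matrix (Fin 3) (Fin 3) F) = A

variable {d : F}

theorem exists_ounip (hI : HasOrth d M) (y : F) :
    ∃ g ∈ M, (g : Matrix (Fin 3) (Fin 3) F) = !![1, -2 * d * y, -d * y ^ 2; 0, 1, y; 0, 0, 1] ∧
      ((g⁻¹ : GL (Fin 3) F) : Matrix (Fin 3) (Fin 3) F) = !![1, 2 * d * y, -d * y ^ 2; 0, 1, -y; 0, 0, 1] := by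
  obtain ⟨g, hg, hgv⟩ := hI !![1, -2 * d * y, -d * y ^ 2; 0, 1, y; 0, 0, 1]
    (by simp [Matrix.det_fin_three]) fun v => by
      simp [stdQ, mulVec, dotProduct, Fin.sum_univ_three]
      ring
  refine ⟨g, hg, hgv, ?_⟩
  rw [Units.inv_eq_of_mul_eq_one_right]
  rw [hgv]
  ext i j
  fin_cases i <;> fin_cases j <;> simp [Matrix.mul_apply, Fin.sum_univ_three] <;> ring

theorem sl_le_of_otangent (h2 : (2 : F) ≠ 0) (hd : d ≠ 0) (hI : HasOrth d M)
    (h13 : ∀ t, HasTv M ![1, 0, 0] ![0, 0, t]) : Cfsg.Geo.specialLinear (Fin 3) F ≤ M := by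
  obtain ⟨J, hJ, hJv⟩ := hI !![0, 0, 1; 0, -1, 0; 1, 0, 0] (by simp [Matrix.det_fin_three]) fun v => by
    simp [stdQ, mulVec, dotProduct, Fin.sum_univ_three]; ring
  have hJi : ((J⁻¹ : GL (Fin 3) F) : Matrix (Fin 3) (Fin 3) F) = !![0, 0, 1; 0, -1, 0; 1, 0, 0] := by
    rw [Units.inv_eq_of_mul_eq_one_right]
    rw [hJv]
    ext i j
    fin_cases i <;> fin_cases j <;> simp [Matrix.mul_apply, Fin.sum_univ_three]
  have h31 : ∀ t : F, HasTv M ![0, 0, 1] ![t, 0, 0] := fun t => by
    have h := (h13 t).conj hJ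
    rw [hJv, hJi] at h
    convert h using 1
    · ext i; fin_cases i <;> simp [mulVec, dotProduct, Fin.sum_univ_three]
    · ext i; fin_cases i <;> simp [vecMul, dotProduct, Fin.sum_univ_three]
  obtain ⟨g, hg, hgv, -⟩ := exists_ounip hI 1
  exact sl_le_of_root_pair h13 h31 hg hgv (by simp [h2, hd]) one_ne_zero

/-- a non-zero transvection at a singular point -/
theorem sl_le_singular_centre [Finite F] (h2 : (2 : F) ≠ 0) (hd : d ≠ 0) (hI : HasOrth d M)
    {φ : Fin 3 → F} (h : HasTv M ![1, 0, 0] φ) (hφ : φ ≠ 0) : Cfsg.Geo.specialLinear (Fin 3) F ≤ M := by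
  have h0 : φ 0 = 0 := by
    have := h.1
    rw [dot_three] at this
    simpa using this
  refine sl_le_of_otangent h2 hd hI fun t => ?_
  by_cases h1 : φ 1 = 0
  · let G : AddSubgroup F :=
      { carrier := {u | HasTv M ![1, 0, 0] ![0, 0, u]}
        add_mem' := fun {u v} hu hv => by
          show HasTv M _ ![0, 0, u + v]
          convert HasTv.add hu hv using 1
          ext i; fin_cases i <;> simp
        zero_mem' := by
          show HasTv M _ ![0, 0, 0]
          convert hasTv_zero (M := M) ![(1 : F), 0, 0] using 1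
          ext i; fin_cases i <;> simp
        neg_mem' := fun {u} hu => by
          show HasTv M _ ![0, 0, -u]
          convert HasTv.neg hu using 1
          ext i; fin_cases i <;> simp }
    have hφ2 : φ 2 ≠ 0 := fun e => hφ (by ext i; fin_cases i <;> simp [h0, h1, e])
    have hφG : φ 2 ∈ G := by
      show HasTv M _ _
      convert h using 1
      ext i; fin_cases i <;> simp [h0, h1]
    have hsq : ∀ α : F, α ^ 2 * φ 2 ∈ G := by
      intro α
      rcases eq_or_ne α 0 with rfl | hα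
      · simp
      obtain ⟨g, hg, hgv⟩ := hI (Matrix.diagonal ![α, 1, α⁻¹]) (by simp [Fin.prod_univ_three, hα]) fun v => by
        simp [stdQ, Matrix.mulVec_diagonal]
        field_simp
      have hgi : ((g⁻¹ : GL (Fin 3) F) : Matrix (Fin 3) (Fin 3) F) = Matrix.diagonal ![α⁻¹, 1, α] := by
        rw [Units.inv_eq_of_mul_eq_one_right]
        rw [hgv, Matrix.diagonal_mul_diagonal, ← Matrix.diagonal_one]
        congr 1
        funext i; fin_cases i <;> simp [hα]
      have h3 := h.conj hg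
      rw [hgv, hgi] at h3
      have h4 : HasTv M (α • ![1, 0, 0]) ![0, 0, α * φ 2] := by
        convert h3 using 1
        · ext i; fin_cases i <;> simp [Matrix.mulVec_diagonal]
        · ext i; fin_cases i <;> simp [Matrix.vecMul_diagonal, h0, h1]; ring
      show HasTv M _ _
      convert (hasTv_smul_iff hα).1 h4 using 1
      ext i; fin_cases i <;> simp; ring
    show t ∈ G
    have e : t = ((t / φ 2 + 1) / 2) ^ 2 * φ 2 - ((t / φ 2 - 1) / 2) ^ 2 * φ 2 := by
      field_simp
      ring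
    rw [e]
    exact sub_mem (hsq _) (hsq _)
  · obtain ⟨g, hg, hgv, hgi⟩ := exists_ounip hI (-(t / φ 1))
    have h3 := h.conj hg
    rw [hgv, hgi] at h3
    have h4 : HasTv M ![1, 0, 0] ![0, φ 1, φ 2 + t] := by
      convert h3 using 1
      · ext i; fin_cases i <;> simp [mulVec, dotProduct, Fin.sum_univ_three]
      · ext i; fin_cases i <;> simp [vecMul, dotProduct, Fin.sum_univ_three, h0] <;> field_simp <;> ring
    convert h4.sub h using 1
    ext i; fin_cases i <;> simp [h0]

/-- a non-zero transvection at a non-singular point with hyperbolic orthogonal line -/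
theorem sl_le_hyperbolic_centre [Finite F] (h2 : (2 : F) ≠ 0) (hd : d ≠ 0) (hI : HasOrth d M)
    {φ : Fin 3 → F} (h : HasTv M ![0, 1, 0] φ) (hφ : φ ≠ 0) : Cfsg.Geo.specialLinear (Fin 3) F ≤ M := by
  have h1 : φ 1 = 0 := by
    have := h.1
    rw [dot_three] at this
    simpa using this
  by_cases h0 : φ 0 = 0
  · obtain ⟨g, hg, hgv, hgi⟩ := exists_ounip hI 1
    have hk : φ 2 ≠ 0 := fun e => hφ (by ext i; fin_cases i <;> simp [h0, h1, e])
    have h3 := h.conj hg
    rw [hgv, hgi] at h3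
    have h4 : HasTv M ![-2 * d, 1, 0] φ := by
      convert h3 using 1
      · ext i; fin_cases i <;> simp [mulVec, dotProduct, Fin.sum_univ_three]
      · ext i; fin_cases i <;> simp [vecMul, dotProduct, Fin.sum_univ_three, h0, h1]
    have h5 : HasTv M (-![0, 1, 0]) φ := by
      have := (hasTv_smul_iff (M := M) (a := ![0, 1, 0]) (φ := φ) (c := (-1 : F)) (by simp)).2
        (by rw [neg_one_smul]; exact h.neg)
      simpa [neg_smul] using this
    have h6 : HasTv M ((-2 * d) • ![1, 0, 0]) φ := by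
      convert h4.add_left h5 using 1
      ext i; fin_cases i <;> simp
    exact sl_le_singular_centre h2 hd hI ((hasTv_smul_iff (by simp [h2, hd])).1 h6)
      (smul_ne_zero (by simp [h2, hd]) hφ)
  · -- move the centre onto `e₀`
    have h4n : (4 : F) ≠ 0 := by rw [show (4 : F) = 2 * 2 by norm_num]; exact mul_ne_zero h2 h2
    obtain ⟨g, hg, hgv, hgi⟩ := exists_ounip hI (1 / (2 * d * φ 0))
    have h3 := h.conj hg
    rw [hgv, hgi] at h3
    have h4 : HasTv M ![-(1 / φ 0), 1, 0]
        ![φ 0, 1, -(1 / (4 * d * φ 0)) + φ 2] := by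
      convert h3 using 1
      · ext i; fin_cases i <;> simp [mulVec, dotProduct, Fin.sum_univ_three]
        field_simp
      · ext i; fin_cases i <;> simp [vecMul, dotProduct, Fin.sum_univ_three, h1, Matrix.vecHead, Matrix.vecTail] <;> field_simp <;> ring
    have h5 := h4.conj_tv h
    have h6 : HasTv M ((-(1 / φ 0)) • ![1, 0, 0])
        (![φ 0, 1, -(1 / (4 * d * φ 0)) + φ 2] - φ) := by
      convert h5 using 1
      · ext i; fin_cases i <;> simp [dot_three, h1, h0, Matrix.vecHead, Matrix.vecTail]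
      · simp [dot_three]
    refine sl_le_singular_centre h2 hd hI ((hasTv_smul_iff (by simp [h0])).1 h6)
      (smul_ne_zero (by simp [h0]) fun e => ?_)
    have := congrFun e 1
    simp [h1] at this

variable {Q : (Fin 3 → F) → F}

theorem orth_basis [Finite F] (hQ : Cfsg.Geo.IsNondegenerateQuadraticForm Q) (h2 : (2 : F) ≠ 0)
    (hM : Cfsg.Geo.quadSimilarityGroup Q ⊓ Cfsg.Geo.specialLinear (Fin 3) F ≤ M)
    {b z w : Fin 3 → F} (hbb : Q b = 0) (hww : Q w = 0) (hwb : polar Q w b = 1)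
    (hzb : polar Q z b = 0) (hzw : polar Q z w = 0) (hzz : Q z ≠ 0) :
    ∃ P : GL (Fin 3) F, (P : Matrix (Fin 3) (Fin 3) F) *ᵥ ![1, 0, 0] = b ∧
      (P : Matrix (Fin 3) (Fin 3) F) *ᵥ ![0, 1, 0] = z ∧
      (∀ u, Q ((P : Matrix (Fin 3) (Fin 3) F) *ᵥ u) = stdQ (Q z) u) ∧ HasOrth (Q z) (pull P M) := by
  set A : Matrix (Fin 3) (Fin 3) F := Matrix.of fun i j => ![b, z, w] j i with hA
  have hap : ∀ u : Fin 3 → F, A *ᵥ u = u 0 • b + u 1 • z + u 2 • w := fun u => by
    ext i; simp [hA, mulVec, dotProduct, Fin.sum_univ_three, mul_comm]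
  have hval : ∀ u, Q (A *ᵥ u) = stdQ (Q z) u := fun u => by
    have hbz : polar Q b z = 0 := by rw [QuadraticMap.polar_comm]; exact hzb
    have hbw : polar Q b w = 1 := by rw [QuadraticMap.polar_comm]; exact hwb
    rw [hap, quad_add hQ, quad_add hQ, hQ.polar_bilinear.add_left, hQ.smul, hQ.smul, hQ.smul,
      hQ.polar_bilinear.smul_left, hQ.polar_bilinear.smul_left, hQ.polar_bilinear.smul_left,
      hQ.polar_bilinear.smul_right, hQ.polar_bilinear.smul_right, hQ.polar_bilinear.smul_right,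
      hbb, hww, hzw, hbz, hbw, stdQ]
    ring
  have hinj : Function.Injective A.mulVec := fun u v e => by
    have key : ∀ x, stdQ (Q z) (u + x) - stdQ (Q z) u - stdQ (Q z) x =
        stdQ (Q z) (v + x) - stdQ (Q z) v - stdQ (Q z) x := fun x => by
      rw [← hval, ← hval, ← hval (v + x), ← hval v, mulVec_add, mulVec_add, e]
    ext i
    fin_cases i
    · show u 0 = v 0
      have := key ![0, 0, 1]; simp [stdQ] at this
      linear_combination this
    · have := key ![0, 1, 0]; simp [stdQ] at this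
      have h4 : (2 * Q z) * (u 1 - v 1) = 0 := by linear_combination this
      simpa [h2, hzz, sub_eq_zero] using h4
    · show u 2 = v 2
      have := key ![1, 0, 0]; simp [stdQ] at this
      linear_combination this
  have hu : IsUnit A := Matrix.mulVec_injective_iff_isUnit.1 hinj
  refine ⟨hu.unit, ?_, ?_, hval, fun B hB hiso => ?_⟩
  · show A *ᵥ _ = b; rw [hap]; simp
  · show A *ᵥ _ = z; rw [hap]; simp
  have hBu : IsUnit B := (Matrix.isUnit_iff_isUnit_det B).2 (by rw [hB]; exact isUnit_one)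
  refine ⟨hBu.unit, mem_pull.2 (hM ⟨⟨1, fun v => ?_⟩, conj_mem_sl.2 ?_⟩), rfl⟩
  · simp only [Units.val_mul, ← mulVec_mulVec, IsUnit.unit_spec]
    rw [hval, hiso, ← hval, Units.val_one, one_mul]
    exact congrArg Q (mulVec_mulVec_inv hu.unit v)
  · show Matrix.GeneralLinearGroup.det hBu.unit = 1
    exact Units.ext hB

/-- a basis through a singular point -/
theorem exists_orth_basis [Finite F] (hQ : Cfsg.Geo.IsNondegenerateQuadraticForm Q) (h2 : (2 : F) ≠ 0)
    (hM : Cfsg.Geo.quadSimilarityGroup Q ⊓ Cfsg.Geo.specialLinear (Fin 3) F ≤ M)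
    {b : Fin 3 → F} (hb0 : b ≠ 0) (hbb : Q b = 0) :
    ∃ (P : GL (Fin 3) F) (d : F), d ≠ 0 ∧ (P : Matrix (Fin 3) (Fin 3) F) *ᵥ ![1, 0, 0] = b ∧
      (∀ u, Q ((P : Matrix (Fin 3) (Fin 3) F) *ᵥ u) = stdQ d u) ∧ HasOrth d (pull P M) := by
  obtain ⟨x, hx⟩ := (hQ.nondegenerate b hb0).1
  set z' := (polar Q x b)⁻¹ • x with hz'
  have hz'b : polar Q z' b = 1 := by rw [hz', hQ.polar_bilinear.smul_left, inv_mul_cancel₀ hx]
  set w := z' + (-Q z') • b with hw
  have hww : Q w = 0 := by rw [hw, quad_add_smul hQ, hbb, hz'b]; ring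
  have hwb : polar Q w b = 1 := by
    rw [hw, hQ.polar_bilinear.add_left, hQ.polar_bilinear.smul_left (-Q z') b b, hz'b, polar_self' hQ, hbb]; ring
  have h1 := finrank_le_inf_pKer hQ (⊤ : Submodule F (Fin 3 → F)) b
  have h3 := finrank_le_inf_pKer hQ (⊤ ⊓ pKer hQ b : Submodule F (Fin 3 → F)) w
  obtain ⟨z, ⟨⟨-, hzb⟩, hzw⟩, hz0⟩ :=
    (⊤ ⊓ pKer hQ b ⊓ pKer hQ w : Submodule F (Fin 3 → F)).exists_mem_ne_zero_of_ne_bot
      (by
        intro e
        rw [e, finrank_bot] at h3
        rw [finrank_top, Module.finrank_fin_fun] at h1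
        omega)
  have hzb' : polar Q z b = 0 := hzb
  have hzw' : polar Q z w = 0 := hzw
  have hbz : polar Q b z = 0 := by rw [QuadraticMap.polar_comm]; exact hzb'
  have hwz : polar Q w z = 0 := by rw [QuadraticMap.polar_comm]; exact hzw'
  have hbw : polar Q b w = 1 := by rw [QuadraticMap.polar_comm]; exact hwb
  have hb2 : polar Q b b = 0 := by rw [polar_self' hQ, hbb, mul_zero]
  have hw2 : polar Q w w = 0 := by rw [polar_self' hQ, hww, mul_zero]
  have hzz : Q z ≠ 0 := by
    intro e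
    obtain ⟨x, hx⟩ := (hQ.nondegenerate z hz0).1
    set x' := x + (-polar Q x b) • w + (-polar Q x w) • b with hx'
    have e3 : polar Q x' z = polar Q x z := by
      rw [hx', hQ.polar_bilinear.add_left, hQ.polar_bilinear.add_left, hQ.polar_bilinear.smul_left,
        hQ.polar_bilinear.smul_left, hwz, hbz]
      ring
    have hxb : polar Q x' b = 0 := by
      rw [hx', hQ.polar_bilinear.add_left, hQ.polar_bilinear.add_left, hQ.polar_bilinear.smul_left,
        hQ.polar_bilinear.smul_left, hwb, hb2]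
      ring
    have hxw : polar Q x' w = 0 := by
      rw [hx', hQ.polar_bilinear.add_left, hQ.polar_bilinear.add_left, hQ.polar_bilinear.smul_left,
        hQ.polar_bilinear.smul_left, hw2, hbw]
      ring
    have hli : LinearIndependent F ![b, w, z, x'] := by
      rw [Fintype.linearIndependent_iff]
      intro k hk
      simp only [Fin.sum_univ_four, Matrix.cons_val_zero, Matrix.cons_val_one, Matrix.cons_val] at hk
      have hz2 : polar Q z z = 0 := by rw [polar_self' hQ, e, mul_zero]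
      have h00 : ∀ v, polar Q 0 v = 0 := fun v => by simpa using hQ.polar_bilinear.smul_left 0 0 v
      have e1 := congrArg (fun v => polar Q v w) hk
      have e2 := congrArg (fun v => polar Q v b) hk
      have e4 := congrArg (fun v => polar Q v z) hk
      simp only [hQ.polar_bilinear.add_left, hQ.polar_bilinear.smul_left, hbw, hw2, hzw', hxw, hb2, hwb,
        hzb', hxb, hbz, hwz, hz2, e3, h00] at e1 e2 e4
      simp at e1 e2 e4
      have k3 : k 3 = 0 := by rcases e4 with h | h; exacts [h, absurd h hx]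
      rw [e1, e2, k3] at hk
      simp at hk
      intro i; fin_cases i
      exacts [e1, e2, hk.resolve_right hz0, k3]
    have := hli.fintype_card_le_finrank
    simp [Module.finrank_fin_fun] at this
  obtain ⟨P, hP0, -, hv, hI⟩ := orth_basis hQ h2 hM hbb hww hwb hzb' hzw' hzz
  exact ⟨P, Q z, hzz, hP0, hv, hI⟩

theorem hasHm_quad (hQ : Cfsg.Geo.IsNondegenerateQuadraticForm Q)
    (hM : Cfsg.Geo.quadSimilarityGroup Q ⊓ Cfsg.Geo.specialLinear (Fin 3) F ≤ M)
    {c : Fin 3 → F} (hc : Q c ≠ 0) : HasHm M c ((Q c)⁻¹ • pDual Q c) := by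
  set A := (Q c)⁻¹ • pDual Q c with hA
  have hAc : A ⬝ᵥ c = 2 := by
    rw [hA, smul_dotProduct, pDual_dot hQ, polar_self' hQ, smul_eq_mul]; field_simp
  have hsq : homMat c A * homMat c A = 1 := by
    rw [homMat_mul_homMat _ _ _ hAc, sub_self, tvMat_zero]
  refine ⟨hAc, ⟨homMat c A, homMat c A, hsq, hsq⟩, hM ⟨⟨1, fun v => ?_⟩, ?_⟩, rfl⟩
  · show Q (homMat c A *ᵥ v) = _
    rw [homMat_mulVec, hA, smul_dotProduct, pDual_dot hQ, smul_eq_mul, quad_add_smul hQ]
    rw [show Q (-v) = Q v by simpa using hQ.smul (-1) v,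
      show polar Q (-v) c = -polar Q v c by simpa using hQ.polar_bilinear.smul_left (-1) v c]
    simp only [Units.val_one, one_mul]
    field_simp
    ring
  · show Matrix.GeneralLinearGroup.det _ = 1
    refine Units.ext ?_
    show (homMat c A).det = 1
    have : homMat c A = -(tvMat c (-A)) := by
      rw [homMat, tvMat, vecMulVec_neg]; abel
    rw [this, Matrix.det_neg, tvMat,
      show (1 : Matrix (Fin 3) (Fin 3) F) + vecMulVec c (-A) =
        1 + Matrix.replicateCol Unit c * Matrix.replicateRow Unit (-A) by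
          ext i j; simp [vecMulVec_apply, Matrix.mul_apply],
      Matrix.det_one_add_replicateCol_mul_replicateRow, neg_dotProduct, hAc]
    norm_num

/-- any non-zero transvection -/
theorem sl_le_of_otv [Finite F] (hQ : Cfsg.Geo.IsNondegenerateQuadraticForm Q) (h2 : (2 : F) ≠ 0)
    (hM : Cfsg.Geo.quadSimilarityGroup Q ⊓ Cfsg.Geo.specialLinear (Fin 3) F ≤ M)
    {a φ : Fin 3 → F} (h : HasTv M a φ) (ha : a ≠ 0) (hφ : φ ≠ 0) :
    Cfsg.Geo.specialLinear (Fin 3) F ≤ M := by
  have hne : ∀ P : GL (Fin 3) F, φ ᵥ* (P : Matrix (Fin 3) (Fin 3) F) ≠ 0 := fun P e => hφ (by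
    have := congrArg (fun v => v ᵥ* ((P⁻¹ : GL (Fin 3) F) : Matrix (Fin 3) (Fin 3) F)) e
    rwa [vecMul_vecMul, ← Units.val_mul, mul_inv_cancel, Units.val_one, vecMul_one, zero_vecMul] at this)
  by_cases haa : Q a = 0
  · obtain ⟨P, d, hd, hP0, -, hI⟩ := exists_orth_basis hQ h2 hM ha haa
    refine sl_le_of_pull (sl_le_singular_centre h2 hd hI (φ := φ ᵥ* (P : Matrix (Fin 3) (Fin 3) F)) ?_ (hne P))
    rw [hasTv_pull, hP0, vecMul_vecMul, ← Units.val_mul, mul_inv_cancel, Units.val_one, vecMul_one]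
    exact h
  by_cases hhyp : ∃ b, b ≠ 0 ∧ Q b = 0 ∧ polar Q b a = 0
  · obtain ⟨b, hb0, hbb, hba⟩ := hhyp
    obtain ⟨x, hx⟩ := (hQ.nondegenerate b hb0).1
    have haa2 : polar Q a a ≠ 0 := by rw [polar_self' hQ]; exact mul_ne_zero h2 haa
    have hab : polar Q a b = 0 := by rw [QuadraticMap.polar_comm]; exact hba
    set x' := x + (-(polar Q x a / polar Q a a)) • a with hx'
    have hx'b : polar Q x' b = polar Q x b := by
      rw [hx', hQ.polar_bilinear.add_left, hQ.polar_bilinear.smul_left, hab]; ring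
    have hx'a : polar Q x' a = 0 := by
      rw [hx', hQ.polar_bilinear.add_left, hQ.polar_bilinear.smul_left]; field_simp; ring
    set z' := (polar Q x' b)⁻¹ • x' with hz'
    have hz'b : polar Q z' b = 1 := by
      rw [hz', hQ.polar_bilinear.smul_left, inv_mul_cancel₀ (hx'b ▸ hx)]
    set w := z' + (-Q z') • b with hw
    have hww : Q w = 0 := by rw [hw, quad_add_smul hQ, hbb, hz'b]; ring
    have hwb : polar Q w b = 1 := by
      rw [hw, hQ.polar_bilinear.add_left, hQ.polar_bilinear.smul_left (-Q z') b b, hz'b, polar_self' hQ, hbb]; ring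
    have hwa : polar Q w a = 0 := by
      rw [hw, hQ.polar_bilinear.add_left, hQ.polar_bilinear.smul_left (-Q z') b a, hba, hz',
        hQ.polar_bilinear.smul_left, hx'a]
      ring
    obtain ⟨P, -, hP1, -, hI⟩ := orth_basis hQ h2 hM hbb hww hwb hab
      (by rw [QuadraticMap.polar_comm]; exact hwa) haa
    refine sl_le_of_pull (sl_le_hyperbolic_centre h2 haa hI (φ := φ ᵥ* (P : Matrix (Fin 3) (Fin 3) F)) ?_ (hne P))
    rw [hasTv_pull, hP1, vecMul_vecMul, ← Units.val_mul, mul_inv_cancel, Units.val_one, vecMul_one]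
    exact h
  -- anisotropic orthogonal line
  push Not at hhyp
  set V : Submodule F (Fin 3 → F) := pKer hQ a with hV
  let S : AddSubgroup (Fin 3 → F) :=
    { carrier := {v | polar Q v a = 0 ∧ HasTv M a (pDual Q v)}
      add_mem' := fun {u v} hu hv => ⟨by rw [hQ.polar_bilinear.add_left, hu.1, hv.1, add_zero],
        by rw [pDual_add hQ]; exact hu.2.add hv.2⟩
      zero_mem' := ⟨by simpa using hQ.polar_bilinear.smul_left 0 0 a,
        by rw [(pDual_eq_zero hQ).2 rfl]; exact hasTv_zero a⟩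
      neg_mem' := fun {v} hv => ⟨by
          rw [← neg_one_smul F v, hQ.polar_bilinear.smul_left, hv.1, mul_zero],
        by rw [← neg_one_smul F v, pDual_smul hQ, neg_one_smul]; exact hv.2.neg⟩ }
  have hrefl : ∀ v ∈ S, ∀ c, polar Q c a = 0 → c ≠ 0 → v - (polar Q v c / Q c) • c ∈ S := by
    intro v hv c hca hc
    have hQc : Q c ≠ 0 := fun e => hhyp c hc e hca
    have hac : polar Q a c = 0 := by rw [QuadraticMap.polar_comm]; exact hca
    obtain ⟨hAc, g, hg, hgv⟩ := hasHm_quad hQ hM hQc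
    have hgi : ((g⁻¹ : GL (Fin 3) F) : Matrix (Fin 3) (Fin 3) F) = homMat c ((Q c)⁻¹ • pDual Q c) := by
      rw [Units.inv_eq_of_mul_eq_one_right]
      rw [hgv, homMat_mul_homMat _ _ _ hAc, sub_self, tvMat_zero]
    have h3 := hv.2.conj hg
    rw [hgv, hgi, homMat_mulVec, smul_dotProduct, pDual_dot hQ, hac, smul_zero, zero_smul, add_zero,
      vecMul_homMat, pDual_dot hQ, QuadraticMap.polar_comm Q c v, smul_smul] at h3
    refine ⟨?_, ?_⟩
    · rw [sub_eq_add_neg, hQ.polar_bilinear.add_left, hv.1, ← neg_smul, hQ.polar_bilinear.smul_left, hca]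
      ring
    · have h4 : HasTv M ((-1 : F) • a) (-pDual Q v + (polar Q v c * (Q c)⁻¹) • pDual Q c) := by
        rw [neg_one_smul]; exact h3
      have h5 := (hasTv_smul_iff (neg_ne_zero.2 (one_ne_zero (α := F)))).1 h4
      rw [sub_eq_add_neg, pDual_add hQ, ← neg_smul, pDual_smul hQ]
      convert h5 using 1
      rw [neg_one_smul, neg_add, neg_neg, neg_smul, div_eq_mul_inv]
  -- an orthogonal basis `c, e` of the line
  obtain ⟨c, hc, hc0⟩ := V.exists_mem_ne_zero_of_ne_bot (fun e => by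
    have := finrank_pKer_ge hQ a
    rw [← hV, e, finrank_bot] at this
    simp at this)
  have h1 := finrank_le_inf_pKer hQ V c
  have h1' := finrank_pKer_ge hQ a
  obtain ⟨e, ⟨he, hec⟩, he0⟩ := (V ⊓ pKer hQ c).exists_mem_ne_zero_of_ne_bot (fun e => by
    rw [e, finrank_bot] at h1
    rw [← hV] at h1'
    simp at h1'
    omega)
  have hec' : polar Q e c = 0 := hec
  have hce : polar Q c e = 0 := by rw [QuadraticMap.polar_comm]; exact hec'
  have hQc : Q c ≠ 0 := fun e' => hhyp c hc0 e' hc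
  have hQe : Q e ≠ 0 := fun e' => hhyp e he0 e' he
  have hpv : ∀ x y : F, ∀ v : Fin 3 → F, polar Q (x • c + y • e) v = x * polar Q c v + y * polar Q e v :=
    fun x y v => by rw [hQ.polar_bilinear.add_left, hQ.polar_bilinear.smul_left, hQ.polar_bilinear.smul_left]
  obtain ⟨p, hp⟩ : ∃ p : ℕ, (p : F) * 2 = 1 := by
    haveI : Fact (ringChar F).Prime := ⟨CharP.char_is_prime F _⟩
    rcases (Fact.out : (ringChar F).Prime).eq_two_or_odd' with h | ⟨k, hk⟩
    · exact absurd (by simpa [h] using ringChar.Nat.cast_ringChar (R := F)) h2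
    · refine ⟨k + 1, ?_⟩
      have := ringChar.Nat.cast_ringChar (R := F)
      rw [hk] at this
      push_cast at this ⊢
      linear_combination this
  have split : ∀ x y : F, x • c + y • e ∈ S → x • c ∈ S ∧ y • e ∈ S := by
    intro x y hxy
    have h3 := hrefl _ hxy c hc hc0
    rw [hpv, polar_self' hQ, hec', show (x * (2 * Q c) + y * 0) / Q c = 2 * x by field_simp; ring] at h3
    have h4 : (2 : F) • (x • c) ∈ S := by
      have := sub_mem hxy h3
      convert this using 1
      module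
    have h5 : (2 : F) • (y • e) ∈ S := by
      have := add_mem hxy h3
      convert this using 1
      module
    have half : ∀ v, (2 : F) • v ∈ S → v ∈ S := fun v hv => by
      have := nsmul_mem hv p
      rwa [← Nat.cast_smul_eq_nsmul F, smul_smul, hp, one_smul] at this
    exact ⟨half _ h4, half _ h5⟩
  have hQd : ∀ s : F, Q (c + s • e) = Q c + s ^ 2 * Q e := fun s => by
    rw [quad_add_smul hQ, hce, mul_zero, add_zero]
  have hd0 : ∀ s : F, c + s • e ≠ 0 := fun s e' => by
    have := congrArg (fun v => polar Q v c) e'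
    simp only [hQ.polar_bilinear.add_left, hQ.polar_bilinear.smul_left, hec', mul_zero, add_zero,
      polar_self' hQ] at this
    rw [show polar Q 0 c = 0 by simpa using hQ.polar_bilinear.smul_left 0 0 c] at this
    exact mul_ne_zero h2 hQc this
  have hdne : ∀ s : F, Q c + s ^ 2 * Q e ≠ 0 := fun s e' =>
    hhyp _ (hd0 s) ((hQd s).trans e') (by
      rw [hQ.polar_bilinear.add_left, hQ.polar_bilinear.smul_left, show polar Q c a = 0 from hc,
        show polar Q e a = 0 from he]; ring)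
  have hmove : ∀ x y s : F, x • c + y • e ∈ S →
      (x - 2 * (x * Q c + y * s * Q e) / (Q c + s ^ 2 * Q e)) • c ∈ S ∧
      (y - 2 * (x * Q c + y * s * Q e) / (Q c + s ^ 2 * Q e) * s) • e ∈ S := by
    intro x y s hxy
    have hca : polar Q (c + s • e) a = 0 := by
      rw [hQ.polar_bilinear.add_left, hQ.polar_bilinear.smul_left, show polar Q c a = 0 from hc,
        show polar Q e a = 0 from he]; ring
    have h3 := hrefl _ hxy _ hca (hd0 s)
    rw [hpv, hQ.polar_bilinear.add_right, hQ.polar_bilinear.add_right, hQ.polar_bilinear.smul_right,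
      hQ.polar_bilinear.smul_right, polar_self' hQ, polar_self' hQ, hce, hec', hQd] at h3
    refine split _ _ ?_
    convert h3 using 1
    rw [show (x * (2 * Q c + s * 0) + y * (0 + s * (2 * Q e))) = 2 * (x * Q c + y * s * Q e) by ring]
    module
  let K : Subring F :=
    { carrier := {t | ∀ x, x • c ∈ S → (t * x) • c ∈ S}
      mul_mem' := fun {u v} hu hv x hx => by rw [mul_assoc]; exact hu _ (hv _ hx)
      one_mem' := fun x hx => by rwa [one_mul]
      add_mem' := fun {u v} hu hv x hx => by rw [add_mul, add_smul]; exact add_mem (hu _ hx) (hv _ hx)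
      zero_mem' := fun x _ => by rw [zero_mul, zero_smul]; exact zero_mem S
      neg_mem' := fun {u} hu x hx => by rw [neg_mul, neg_smul]; exact neg_mem (hu _ hx) }
  have := Fintype.ofFinite F
  have hinv : ∀ t ∈ K, t⁻¹ ∈ K := fun t ht => by
    rcases eq_or_ne t 0 with rfl | h0
    · rw [_root_.inv_zero]; exact zero_mem K
    · have e1 : t⁻¹ = t ^ (Fintype.card F - 2) := by
        refine inv_eq_of_mul_eq_one_right ?_
        have h3 : 2 ≤ Fintype.card F := Fintype.one_lt_card
        rw [← pow_succ', show Fintype.card F - 2 + 1 = Fintype.card F - 1 by omega,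
          FiniteField.pow_card_sub_one_eq_one t h0]
      rw [e1]; exact pow_mem ht _
  have half : (2 : F)⁻¹ ∈ K := hinv _ (by
    show ((2 : ℕ) : F) ∈ K
    exact natCast_mem K 2)
  have hKs : ∀ s : F, s ^ 2 * Q e / Q c ∈ K := by
    intro s
    have h3 : Q c / (Q c + s ^ 2 * Q e) ∈ K := by
      intro x hx
      have hm := (hmove x 0 s (by rwa [zero_smul, add_zero])).1
      have h4 := sub_mem hx hm
      rw [← sub_smul] at h4
      have h5 := half _ h4
      convert h5 using 2
      field_simp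
      ring
    have h4 := sub_mem (hinv _ h3) (one_mem K)
    convert h4 using 1
    field_simp
    ring
  have hK : ∀ t : F, t ∈ K := by
    intro t
    have hk : Q e / Q c ∈ K := by simpa using hKs 1
    have hsq : ∀ s : F, s ^ 2 ∈ K := fun s => by
      have := mul_mem (hKs s) (hinv _ hk)
      convert this using 1
      field_simp
    have e1 : t = ((t + 1) / 2) ^ 2 - ((t - 1) / 2) ^ 2 := by field_simp; ring
    rw [e1]; exact sub_mem (hsq _) (hsq _)
  -- the centre `a` carries every axis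
  obtain ⟨v, hv⟩ := pDual_surjective hQ φ
  have hva : polar Q v a = 0 := by
    have := h.1
    rw [← hv, pDual_dot hQ] at this
    rwa [QuadraticMap.polar_comm]
  have hvS : v ∈ S := ⟨hva, by rw [hv]; exact h⟩
  have hv0 : v ≠ 0 := fun e' => hφ (by rw [← hv, e', (pDual_eq_zero hQ).2 rfl])
  have hspanV : ∀ u, polar Q u a = 0 → u = (polar Q u c / (2 * Q c)) • c + (polar Q u e / (2 * Q e)) • e := by
    intro u hu
    set r := u - ((polar Q u c / (2 * Q c)) • c + (polar Q u e / (2 * Q e)) • e) with hr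
    suffices r = 0 by rwa [hr, sub_eq_zero] at this
    have hpr : ∀ w, polar Q r w = polar Q u w -
        (polar Q u c / (2 * Q c) * polar Q c w + polar Q u e / (2 * Q e) * polar Q e w) := fun w => by
      rw [hr, sub_eq_add_neg, hQ.polar_bilinear.add_left, ← neg_one_smul F, hQ.polar_bilinear.smul_left, hpv]
      ring
    have ha' : polar Q r a = 0 := by
      rw [hpr, hu, show polar Q c a = 0 from hc, show polar Q e a = 0 from he]; ring
    have hc' : polar Q r c = 0 := by rw [hpr, polar_self' hQ, hec']; field_simp; ring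
    have he' : polar Q r e = 0 := by rw [hpr, polar_self' hQ, hce]; field_simp; ring
    by_contra hr0
    have hli : LinearIndependent F ![a, c, e, r] := by
      rw [Fintype.linearIndependent_iff]
      intro k hk
      simp only [Fin.sum_univ_four, Matrix.cons_val_zero, Matrix.cons_val_one, Matrix.cons_val] at hk
      have h00 : ∀ w, polar Q 0 w = 0 := fun w => by simpa using hQ.polar_bilinear.smul_left 0 0 w
      have ea := congrArg (fun w => polar Q w a) hk
      have ec := congrArg (fun w => polar Q w c) hk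
      have ee := congrArg (fun w => polar Q w e) hk
      simp only [hQ.polar_bilinear.add_left, hQ.polar_bilinear.smul_left, h00, polar_self' hQ,
        show polar Q c a = 0 from hc, show polar Q e a = 0 from he, ha', hec', hce, hc', he',
        show polar Q a c = 0 by rw [QuadraticMap.polar_comm]; exact hc,
        show polar Q a e = 0 by rw [QuadraticMap.polar_comm]; exact he] at ea ec ee
      simp [h2, haa, hQc, hQe] at ea ec ee
      rw [ea, ec, ee] at hk
      simp at hk
      intro i; fin_cases i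
      exacts [ea, ec, ee, hk.resolve_right hr0]
    have := hli.fintype_card_le_finrank
    simp [Module.finrank_fin_fun] at this
  have hx : ∃ x : F, x ≠ 0 ∧ x • c ∈ S := by
    have e1 := hspanV v hva
    obtain ⟨h3, h4⟩ := split _ _ (e1 ▸ hvS)
    by_cases h5 : polar Q v c / (2 * Q c) = 0
    · set y := polar Q v e / (2 * Q e)
      have hy : y ≠ 0 := fun e' => hv0 (by rw [e1, h5, e', zero_smul, zero_smul, add_zero])
      have hm := (hmove 0 y 1 (by rwa [zero_smul, zero_add])).1
      refine ⟨_, ?_, hm⟩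
      have := hdne 1
      simp only [one_pow, one_mul] at this
      simp [div_eq_zero_iff, h2, hy, hQe, this]
    · exact ⟨_, h5, h3⟩
  obtain ⟨x, hx0, hxS⟩ := hx
  have hXall : ∀ t : F, t • c ∈ S := fun t => by
    have := hK (t / x) x hxS
    rwa [div_mul_cancel₀ _ hx0] at this
  have hYall : ∀ t : F, t • e ∈ S := fun t => by
    have := hdne 1
    simp only [one_pow, one_mul] at this
    have hm := (hmove (-(t * (Q c + Q e)) / (2 * Q c)) 0 1
      (by rw [zero_smul, add_zero]; exact hXall _)).2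
    convert hm using 2
    simp only [one_pow, one_mul, mul_one]
    field_simp
    ring
  have hfull : ∀ ψ, ψ ⬝ᵥ a = 0 → HasTv M a ψ := by
    intro ψ hψ
    obtain ⟨u, rfl⟩ := pDual_surjective hQ ψ
    rw [pDual_dot hQ, QuadraticMap.polar_comm] at hψ
    rw [hspanV u hψ]
    exact (add_mem (hXall _) (hYall _) : _ ∈ S).2
  -- three independent images of `a`
  obtain ⟨b, -, hb0, hbb⟩ := exists_singular hQ h2 (W := (⊤ : Submodule F (Fin 3 → F)))
    (by rw [finrank_top, Module.finrank_fin_fun])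
  have hba : polar Q b a ≠ 0 := hhyp b hb0 hbb
  obtain ⟨P, d, hd, hP0, hv', hI⟩ := exists_orth_basis hQ h2 hM hb0 hbb
  set u : Fin 3 → F := ((P⁻¹ : GL (Fin 3) F) : Matrix (Fin 3) (Fin 3) F) *ᵥ a with hu
  have hPu : (P : Matrix (Fin 3) (Fin 3) F) *ᵥ u = a := mulVec_mulVec_inv P a
  have hu2 : u 2 ≠ 0 := by
    intro e'
    refine hba ?_
    rw [← hP0, ← hPu, QuadraticMap.polar, ← mulVec_add, hv', hv', hv']
    simp [stdQ, e']
  obtain ⟨g1, hg1, hg1v, -⟩ := exists_ounip hI 1
  obtain ⟨g2, hg2, hg2v, -⟩ := exists_ounip hI (-1)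
  have hfu : ∀ ψ, ψ ⬝ᵥ u = 0 → HasTv (pull P M) u ψ := fun ψ hψ => by
    rw [hasTv_pull, hPu]
    refine hfull _ ?_
    rw [← hPu, vecMul_inv_dotProduct, inv_mulVec_mulVec]; exact hψ
  have himg : ∀ g ∈ pull P M, ∀ ψ, ψ ⬝ᵥ ((g : Matrix (Fin 3) (Fin 3) F) *ᵥ u) = 0 →
      HasTv (pull P M) ((g : Matrix (Fin 3) (Fin 3) F) *ᵥ u) ψ := fun g hg ψ hψ => by
    have := (hfu (ψ ᵥ* (g : Matrix (Fin 3) (Fin 3) F)) (by rw [← dotProduct_mulVec]; exact hψ)).conj hg
    rwa [vecMul_vecMul, ← Units.val_mul, mul_inv_cancel, Units.val_one, vecMul_one] at this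
  refine sl_le_of_pull (sl_le_of_three_centres (M := pull P M)
    (b := ![u, (g1 : Matrix (Fin 3) (Fin 3) F) *ᵥ u, (g2 : Matrix (Fin 3) (Fin 3) F) *ᵥ u]) ?_ ?_)
  · refine Fintype.linearIndependent_iff.2 fun k hk => ?_
    simp only [Fin.sum_univ_three, hg1v, hg2v] at hk
    have k0 := congrFun hk 0
    have k1 := congrFun hk 1
    have k2 := congrFun hk 2
    simp [mulVec, dotProduct, Fin.sum_univ_three, Matrix.vecHead, Matrix.vecTail] at k0 k1 k2
    have s0 : k 0 + k 1 + k 2 = 0 :=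
      mul_right_cancel₀ hu2 (by linear_combination k2)
    have s1 : k 1 - k 2 = 0 :=
      mul_right_cancel₀ hu2 (by linear_combination k1 - u 1 * s0)
    have s2 : k 1 + k 2 = 0 := mul_right_cancel₀ (mul_ne_zero hd hu2)
      (by linear_combination -k0 + u 0 * s0 - 2 * d * u 1 * s1)
    have e1 : k 1 = 0 := mul_left_cancel₀ h2 (by linear_combination s1 + s2)
    have e2 : k 2 = 0 := by linear_combination e1 - s1
    intro i; fin_cases i
    exacts [show k 0 = 0 by linear_combination s0 - s2, e1, e2]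
  · intro i ψ hψ
    fin_cases i
    exacts [hfu ψ hψ, himg g1 hg1 ψ hψ, himg g2 hg2 ψ hψ]

/-- overgroups of the orthogonal group -/
theorem sl_le_of_not_orth [Finite F] (hQ : Cfsg.Geo.IsNondegenerateQuadraticForm Q) (h2 : (2 : F) ≠ 0)
    (hM : Cfsg.Geo.quadSimilarityGroup Q ⊓ Cfsg.Geo.specialLinear (Fin 3) F ≤ M)
    {g : GL (Fin 3) F} (hg : g ∈ M) (hgS : g ∉ Cfsg.Geo.quadSimilarityGroup Q) :
    Cfsg.Geo.specialLinear (Fin 3) F ≤ M := by
  by_contra hno
  have hloc : ∀ c, Q c ≠ 0 → Q ((g : Matrix (Fin 3) (Fin 3) F) *ᵥ c) ≠ 0 ∧ ∀ x,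
      polar Q ((g : Matrix (Fin 3) (Fin 3) F) *ᵥ x) ((g : Matrix (Fin 3) (Fin 3) F) *ᵥ c) =
        Q ((g : Matrix (Fin 3) (Fin 3) F) *ᵥ c) / Q c * polar Q x c := by
    intro c hc
    have hh := (hasHm_quad hQ hM hc).conj hg
    set b := (g : Matrix (Fin 3) (Fin 3) F) *ᵥ c with hb
    have hc0 : c ≠ 0 := fun e => hc (by rw [e, quad_zero hQ])
    have hb0 : b ≠ 0 := fun e => hc0 (by
      have := congrArg (((g⁻¹ : GL (Fin 3) F) : Matrix (Fin 3) (Fin 3) F) *ᵥ ·) e
      simpa [hb, inv_mulVec_mulVec] using this)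
    set A := ((Q c)⁻¹ • pDual Q c) ᵥ* ((g⁻¹ : GL (Fin 3) F) : Matrix (Fin 3) (Fin 3) F) with hA
    have hbb : Q b ≠ 0 := by
      intro e
      obtain ⟨P, d, hd, hP0, -, hI⟩ := exists_orth_basis hQ h2 hM hb0 e
      obtain ⟨g1, hg1, hg1v, hg1i⟩ := exists_ounip hI 1
      set A' := A ᵥ* (P : Matrix (Fin 3) (Fin 3) F) with hA'
      have hh' : HasHm (pull P M) ![1, 0, 0] A' := by
        obtain ⟨h0, t, ht, htv⟩ := hh
        refine ⟨by rw [hA', ← dotProduct_mulVec, hP0]; exact h0, P⁻¹ * t * P, ?_, ?_⟩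
        · rw [mem_pull]; simpa [mul_assoc] using ht
        · rw [Units.val_mul, Units.val_mul, htv, mul_homMat_mul _ _ _ _ (by
            rw [← Units.val_mul, inv_mul_cancel, Units.val_one]), ← hP0, inv_mulVec_mulVec]
      have h0 : A' 0 = 2 := by
        have := hh'.1; rw [dot_three] at this; simpa using this
      have h3 := hh'.conj hg1
      rw [hg1v, hg1i, show (!![1, -2 * d * 1, -d * 1 ^ 2; 0, 1, 1; 0, 0, 1] : Matrix (Fin 3) (Fin 3) F) *ᵥ ![1, 0, 0] =
        ![1, 0, 0] by ext i; fin_cases i <;> simp [mulVec, dotProduct, Fin.sum_univ_three]] at h3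
      refine hno (sl_le_of_pull (sl_le_singular_centre h2 hd hI (hh'.tv h3) fun e' => ?_))
      have := congrFun e' 1
      simp [vecMul, dotProduct, Fin.sum_univ_three, h0, Matrix.vecHead, Matrix.vecTail] at this
      exact this.elim h2 hd
    refine ⟨hbb, fun x => ?_⟩
    have h3 := hh.tv (hasHm_quad hQ hM hbb)
    have heq : (Q b)⁻¹ • pDual Q b = A := by
      by_contra hne
      exact hno (sl_le_of_otv hQ h2 hM h3 hb0 (sub_ne_zero.2 hne))
    have := congrArg (· ⬝ᵥ ((g : Matrix (Fin 3) (Fin 3) F) *ᵥ x)) heq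
    simp only [smul_dotProduct, pDual_dot hQ, hA, vecMul_inv_dotProduct, inv_mulVec_mulVec,
      smul_eq_mul] at this
    field_simp at this ⊢
    linear_combination this
  obtain ⟨b, -, hb0, hbb⟩ := exists_singular hQ h2 (W := (⊤ : Submodule F (Fin 3 → F)))
    (by rw [finrank_top, Module.finrank_fin_fun])
  obtain ⟨P, d, hd, -, hv, -⟩ := exists_orth_basis hQ h2 hM hb0 hbb
  set G : Matrix (Fin 3) (Fin 3) F := (g : Matrix (Fin 3) (Fin 3) F) * (P : Matrix (Fin 3) (Fin 3) F) with hG
  let N : (Fin 3 → F) → (Fin 3 → F) → F := fun u v => polar Q (G *ᵥ u) (G *ᵥ v)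
  have hpol : ∀ u v, polar Q ((P : Matrix (Fin 3) (Fin 3) F) *ᵥ u) ((P : Matrix (Fin 3) (Fin 3) F) *ᵥ v) =
      u 0 * v 2 + u 2 * v 0 + 2 * d * u 1 * v 1 := fun u v => by
    rw [QuadraticMap.polar, ← mulVec_add, hv, hv, hv]; simp [stdQ]; ring
  have key : ∀ v, stdQ d v ≠ 0 → ∀ u, N u v =
      Q (G *ᵥ v) / stdQ d v * (u 0 * v 2 + u 2 * v 0 + 2 * d * u 1 * v 1) := by
    intro v hv0 u
    have := (hloc ((P : Matrix (Fin 3) (Fin 3) F) *ᵥ v) (by rwa [hv])).2 ((P : Matrix (Fin 3) (Fin 3) F) *ᵥ u)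
    rw [hv, hpol] at this
    simp only [N, hG, ← mulVec_mulVec]
    exact this
  have hq1 : stdQ d ![0, 1, 0] ≠ 0 := by simp [stdQ, hd]
  set μ := Q (G *ᵥ ![0, 1, 0]) / stdQ d ![0, 1, 0] with hμ
  have hadd : ∀ u v w, N u (v + w) = N u v + N u w := fun u v w => by
    simp only [N, mulVec_add, hQ.polar_bilinear.add_right]
  have hcomm : ∀ u v, N u v = N v u := fun u v => QuadraticMap.polar_comm Q _ _
  have n01 : N ![1, 0, 0] ![0, 1, 0] = 0 := by rw [key _ hq1]; simp
  have n11 : N ![0, 1, 0] ![0, 1, 0] = 2 * d * μ := by rw [key _ hq1, ← hμ]; simp; ring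
  have n21 : N ![0, 0, 1] ![0, 1, 0] = 0 := by rw [key _ hq1]; simp
  have hq2 : stdQ d ![1, 1, 0] ≠ 0 := by simp [stdQ, hd]
  have hq3 : stdQ d ![0, 1, 1] ≠ 0 := by simp [stdQ, hd]
  have s2 : (![1, 1, 0] : Fin 3 → F) = ![1, 0, 0] + ![0, 1, 0] := by ext i; fin_cases i <;> simp
  have s3 : (![0, 1, 1] : Fin 3 → F) = ![0, 0, 1] + ![0, 1, 0] := by ext i; fin_cases i <;> simp
  set μ2 := Q (G *ᵥ ![1, 1, 0]) / stdQ d ![1, 1, 0] with hμ2
  have a0 := key _ hq2 ![1, 0, 0]
  have a1 := key _ hq2 ![0, 1, 0]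
  have a2 := key _ hq2 ![0, 0, 1]
  rw [← hμ2, s2, hadd, ← s2] at a0 a1 a2
  rw [hcomm ![0, 1, 0] ![1, 0, 0], n01, n11] at a1
  rw [n01] at a0
  rw [n21] at a2
  simp at a0 a1 a2
  have b2 := key _ hq3 ![0, 0, 1]
  rw [s3, hadd, ← s3, n21] at b2
  simp at b2
  have hμ2μ : μ2 = μ := mul_left_cancel₀ (mul_ne_zero h2 hd) (by linear_combination -a1)
  have n20 : N ![0, 0, 1] ![1, 0, 0] = μ := by rw [a2, hμ2μ]
  have hN : ∀ u v, N u v = μ * (u 0 * v 2 + u 2 * v 0 + 2 * d * u 1 * v 1) := by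
    intro u v
    have hu : ∀ w : Fin 3 → F, G *ᵥ w = w 0 • (G *ᵥ ![1, 0, 0]) + w 1 • (G *ᵥ ![0, 1, 0]) + w 2 • (G *ᵥ ![0, 0, 1]) :=
      fun w => by
        rw [← mulVec_smul, ← mulVec_smul, ← mulVec_smul, ← mulVec_add, ← mulVec_add]
        congr 1; ext i; fin_cases i <;> simp
    have e10 : N ![0, 1, 0] ![1, 0, 0] = 0 := (hcomm _ _).trans n01
    have e02 : N ![1, 0, 0] ![0, 0, 1] = μ := (hcomm _ _).trans n20
    have e12 : N ![0, 1, 0] ![0, 0, 1] = 0 := (hcomm _ _).trans n21
    simp only [N] at *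
    rw [hu u, hu v]
    simp only [hQ.polar_bilinear.add_left, hQ.polar_bilinear.add_right, hQ.polar_bilinear.smul_left,
      hQ.polar_bilinear.smul_right, n01, n11, n21, n20, e10, e02, e12, a0, b2]
    ring
  have hsim : ∀ x, Q ((g : Matrix (Fin 3) (Fin 3) F) *ᵥ x) = μ * Q x := by
    intro x
    obtain ⟨u, rfl⟩ : ∃ u, (P : Matrix (Fin 3) (Fin 3) F) *ᵥ u = x := ⟨_, mulVec_mulVec_inv P x⟩
    rw [quad_of_polar hQ h2, hv, mulVec_mulVec, ← hG]
    have := hN u u
    simp only [N] at this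
    rw [this, stdQ]
    field_simp
    ring
  have hμ0 : μ ≠ 0 := fun e => by
    have := (hloc ((P : Matrix (Fin 3) (Fin 3) F) *ᵥ ![0, 1, 0]) (by rwa [hv])).1
    rw [hsim, e, zero_mul] at this
    exact this rfl
  exact hgS ⟨Units.mk0 μ hμ0, hsim⟩

/-- orthogonal similarity groups are maximal -/
theorem quad_maximal_three [Fintype F] (hodd : Odd (Fintype.card F))
    (hQ : Cfsg.Geo.IsNondegenerateQuadraticForm Q) :
    Cfsg.Geo.IsMaximalIn (Cfsg.Geo.specialLinear (Fin 3) F)
      (Cfsg.Geo.quadSimilarityGroup Q ⊓ Cfsg.Geo.specialLinear (Fin 3) F) := by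
  have h2 : (2 : F) ≠ 0 := by
    intro e
    have hc : ringChar F = 2 := CharP.ringChar_of_prime_eq_zero Nat.prime_two (by exact_mod_cast e)
    have := FiniteField.even_card_of_char_two hc
    rw [Nat.odd_iff] at hodd
    omega
  refine isMaximalIn_of_lt (lt_of_le_of_ne inf_le_right fun he => ?_) fun M hM hMS g hg hgH =>
    sl_le_of_not_orth hQ h2 hM hg fun h => hgH ⟨h, hMS hg⟩
  exact CfsgLib.AschPrime.not_le_quadSimilarityGroup (ι := Fin 3) (by simp) hQ (fun x hx => (he.ge hx).1)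

end CfsgLib.MaxSub.SlThree
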