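import Cfsg.Agent.Lib.MaxSub.SlThree.SingerCases
import Cfsg.Agent.Lib.Aschbacher.Proper
import Mathlib.FieldTheory.Galois.NormalBasis

/-!
The normalisers of cubic fields are maximal in `SL₃(q)`, `q ≠ 4`.
-/

set_option autoImplicit false
set_option linter.unusedSectionVars false

namespace CfsgLib.MaxSub.SlThree.Singer

open Matrix Module CfsgLib.MaxSub
open scoped MatrixGroups

variable {F : Type*} [Field F]

/-- if `N N' = 0` one of the two has rank one -/
theorem rank_one {N N' : Matrix (Fin 3) (Fin 3) F} (h : N * N' = 0) (hN : N ≠ 0) (hN' : N' ≠ 0) :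
    (∃ a φ, N = vecMulVec a φ) ∨ (∃ a φ, N' = vecMulVec a φ) := by
  have key : ∀ A : Matrix (Fin 3) (Fin 3) F, A ≠ 0 →
      finrank F (LinearMap.range (Matrix.toLin' A)) ≤ 1 → ∃ a φ, A = vecMulVec a φ := by
    intro A hA hr
    obtain ⟨k0, j0, hk⟩ : ∃ k j, A k j ≠ 0 := by
      by_contra hno
      push Not at hno
      exact hA (Matrix.ext hno)
    refine ⟨fun k => A k j0 / A k0 j0, A k0, Matrix.ext fun k j => ?_⟩
    have hm : ∀ j, Matrix.toLin' A (Pi.single j 1) ∈ LinearMap.range (Matrix.toLin' A) := fun j => ⟨_, rfl⟩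
    have h0 : (⟨_, hm j0⟩ : LinearMap.range (Matrix.toLin' A)) ≠ 0 := fun e => hk (by
      have := congrFun (congrArg Subtype.val e) k0
      simpa [mulVec_single_one] using this)
    have hr1 : finrank F (LinearMap.range (Matrix.toLin' A)) = 1 := by
      refine le_antisymm hr ?_
      have : Nontrivial (LinearMap.range (Matrix.toLin' A)) := ⟨⟨_, 0, h0⟩⟩
      exact Module.finrank_pos
    obtain ⟨c, hc⟩ := exists_smul_eq_of_finrank_eq_one hr1 h0 ⟨_, hm j⟩
    have e1 := congrFun (congrArg Subtype.val hc) k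
    have e2 := congrFun (congrArg Subtype.val hc) k0
    simp [mulVec_single_one] at e1 e2
    rw [vecMulVec_apply, ← e1, ← e2]
    field_simp
  have hle : LinearMap.range (Matrix.toLin' N') ≤ LinearMap.ker (Matrix.toLin' N) := by
    rintro _ ⟨v, rfl⟩
    rw [LinearMap.mem_ker, Matrix.toLin'_apply, Matrix.toLin'_apply, mulVec_mulVec, h, zero_mulVec]
  have h1 := Submodule.finrank_mono hle
  have h2 := LinearMap.finrank_range_add_finrank_ker (Matrix.toLin' N)
  rw [Module.finrank_fin_fun] at h2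
  rcases Nat.lt_or_ge 1 (finrank F (LinearMap.range (Matrix.toLin' N))) with h3 | h3
  · exact .inr (key _ hN' (by omega))
  · exact .inl (key _ hN h3)

theorem vecMulVec_sq (a φ : Fin 3 → F) :
    vecMulVec a φ * vecMulVec a φ = (φ ⬝ᵥ a) • vecMulVec a φ := by
  rw [vecMulVec_mul_vecMulVec, vecMulVec_smul]

/-- an involution in `SL₃` is a transvection or a homology -/
theorem invol_cases {M : Subgroup (GL (Fin 3) F)} (hM : M ≤ Cfsg.Geo.specialLinear (Fin 3) F)
    {t : GL (Fin 3) F} (ht : t ∈ M) (ht1 : t ≠ 1) (ht2 : t * t = 1) :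
    ((2 : F) = 0 ∧ ∃ a φ, a ≠ 0 ∧ φ ≠ 0 ∧ HasTv M a φ) ∨ ((2 : F) ≠ 0 ∧ ∃ c A, HasHm M c A) := by
  have hsq : (t : Matrix (Fin 3) (Fin 3) F) * t = 1 := by rw [← Units.val_mul, ht2, Units.val_one]
  have hd : (t : Matrix (Fin 3) (Fin 3) F).det = 1 := congrArg Units.val (hM ht)
  by_cases h2 : (2 : F) = 0
  · refine .inl ⟨h2, ?_⟩
    set N := (t : Matrix (Fin 3) (Fin 3) F) - 1 with hN
    have hN0 : N ≠ 0 := fun e => ht1 (Units.ext (sub_eq_zero.1 e))
    have hNN : N * N = 0 := by
      rw [hN, sub_mul, mul_sub, mul_one, one_mul, hsq]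
      ext i j
      simp only [Matrix.sub_apply, Matrix.zero_apply]
      linear_combination ((1 : Matrix (Fin 3) (Fin 3) F) i j - (t : Matrix (Fin 3) (Fin 3) F) i j) * h2
    obtain ⟨a, φ, he⟩ : ∃ a φ, N = vecMulVec a φ := (rank_one hNN hN0 hN0).elim id id
    have ha : a ≠ 0 := fun e => hN0 (by rw [he, e, zero_vecMulVec])
    have hφ : φ ≠ 0 := fun e => hN0 (by rw [he, e, vecMulVec_zero])
    refine ⟨a, φ, ha, hφ, ?_, t, ht, by rw [tvMat, ← he, hN, add_sub_cancel]⟩
    rw [he, vecMulVec_sq] at hNN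
    rw [← he] at hNN
    exact (smul_eq_zero.1 hNN).resolve_right hN0
  · refine .inr ⟨h2, ?_⟩
    set N := (t : Matrix (Fin 3) (Fin 3) F) + 1 with hN
    set N' := 1 - (t : Matrix (Fin 3) (Fin 3) F) with hN'
    have hNN : N * N' = 0 := by
      rw [hN, hN', mul_sub, mul_one, add_mul, one_mul, hsq]; abel
    have hN0 : N ≠ 0 := fun e => h2 (by
      rw [eq_neg_of_add_eq_zero_left e, Matrix.det_neg, Matrix.det_one] at hd
      simp at hd
      linear_combination -hd)
    have hN'0 : N' ≠ 0 := fun e => ht1 (Units.ext (sub_eq_zero.1 e).symm)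
    rcases rank_one hNN hN0 hN'0 with ⟨c, A, he⟩ | ⟨c, A, he⟩
    · refine ⟨c, A, ?_, t, ht, by rw [homMat, ← he, hN]; abel⟩
      have h4 : N * N = (2 : F) • N := by
        rw [hN, mul_add, add_mul, mul_one, one_mul, hsq, two_smul]; abel
      rw [he, vecMulVec_sq, ← he, ← sub_eq_zero, ← sub_smul] at h4
      exact sub_eq_zero.1 ((smul_eq_zero.1 h4).resolve_right hN0)
    · exfalso
      have h4 : N' * N' = (2 : F) • N' := by
        rw [hN', mul_sub, mul_one, sub_mul, one_mul, hsq, two_smul]; abel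
      rw [he, vecMulVec_sq, ← he, ← sub_eq_zero, ← sub_smul] at h4
      have hdot := sub_eq_zero.1 ((smul_eq_zero.1 h4).resolve_right hN'0)
      have ht' : (t : Matrix (Fin 3) (Fin 3) F) =
          1 + Matrix.replicateCol Unit c * Matrix.replicateRow Unit (-A) := by
        rw [← Matrix.vecMulVec_eq, vecMulVec_neg, ← he, hN']; abel
      rw [ht', Matrix.det_one_add_replicateCol_mul_replicateRow, neg_dotProduct, hdot] at hd
      exact h2 (by linear_combination -hd)

/-- the Frobenius has determinant one -/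
theorem det_frob {L : Type*} [Field L] [Algebra F L] [Finite L] [Fintype F] (h3 : finrank F L = 3)
    (σ : L ≃ₐ[F] L) : LinearMap.det σ.toLinearMap = 1 := by
  classical
  haveI : Module.Finite F L := Module.Finite.of_finite
  let b := IsGalois.normalBasis F L
  let π : Equiv.Perm (L ≃ₐ[F] L) := Equiv.mulLeft σ
  have hperm : LinearMap.toMatrix b b σ.toLinearMap =
      (1 : Matrix (L ≃ₐ[F] L) (L ≃ₐ[F] L) F).submatrix π.symm id := by
    ext i j
    have : σ.toLinearMap (b j) = b (π j) := by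
      show σ (b j) = b (σ * j)
      rw [IsGalois.normalBasis_apply j, IsGalois.normalBasis_apply (σ * j)]
      rfl
    rw [LinearMap.toMatrix_apply, this, Module.Basis.repr_self, Finsupp.single_apply,
      Matrix.submatrix_apply, Matrix.one_apply, id_eq]
    exact if_congr (by rw [Equiv.symm_apply_eq]; exact eq_comm) rfl rfl
  rw [← LinearMap.det_toMatrix b, hperm, Matrix.det_permute, Matrix.det_one, mul_one]
  have hπ3 : π ^ 3 = 1 := by
    have hc : σ ^ 3 = 1 := by
      rw [← h3, ← IsGalois.card_aut_eq_finrank F L, pow_card_eq_one']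
    refine Equiv.ext fun x => ?_
    show σ * (σ * (σ * x)) = x
    rw [← mul_assoc, ← mul_assoc, ← pow_three', hc, one_mul]
  have hs : Equiv.Perm.sign π.symm = 1 := by
    rw [Equiv.Perm.sign_symm]
    have := congrArg Equiv.Perm.sign hπ3
    rw [map_pow, map_one] at this
    rcases Int.units_eq_one_or (Equiv.Perm.sign π) with h | h
    · exact h
    · rw [h] at this; exact absurd this (by decide)
  rw [hs]; simp

/-- normalisers of cubic fields are maximal -/
theorem singer_maximal [Fintype F] (h4 : Fintype.card F ≠ 4)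
    (K : Subalgebra F (Matrix (Fin 3) (Fin 3) F)) (hK : Cfsg.Geo.IsFieldSubalgebra 3 K) :
    Cfsg.Geo.IsMaximalIn (Cfsg.Geo.specialLinear (Fin 3) F)
      (Cfsg.Geo.subalgebraNormalizer K ⊓ Cfsg.Geo.specialLinear (Fin 3) F) := by
  classical
  refine isMaximalIn_of_lt (lt_of_le_of_ne inf_le_right fun he => ?_) fun M hHM hMS g hg hgH => ?_
  · exact CfsgLib.AschPrime.not_le_subalgebraNormalizer (ι := Fin 3) (by simp) (by norm_num) hK
      fun x hx => (he.ge hx).1
  by_contra hno
  letI : Field K := (isField_matField (by norm_num) K hK).toField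
  haveI : Finite K := inferInstanceAs (Finite (K : Set (Matrix (Fin 3) (Fin 3) F)))
  haveI : Module.Finite F K := Module.Finite.of_finite
  have hfr : finrank F K = 3 := hK.finrank_eq
  let f : K →ₗ[F] (Fin 3 → F) :=
    { toFun := fun k => (k : Matrix (Fin 3) (Fin 3) F) *ᵥ Pi.single 0 1
      map_add' := fun a b => by rw [Subalgebra.coe_add, add_mulVec]
      map_smul' := fun c a => by rw [Subalgebra.coe_smul, smul_mulVec]; rfl }
  have hfinj : Function.Injective f := by
    refine (injective_iff_map_eq_zero f).2 fun k hk => ?_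
    by_contra hk0
    obtain ⟨y, -, hy⟩ := hK.inv k k.2 fun e => hk0 (Subtype.ext e)
    have h1 := congrArg (y *ᵥ ·) hk
    simp only [f, LinearMap.coe_mk, AddHom.coe_mk, mulVec_mulVec, mulVec_zero, mul_eq_one_comm.1 hy,
      one_mulVec] at h1
    simpa using congrFun h1 0
  let e : K ≃ₗ[F] (Fin 3 → F) := LinearEquiv.ofBijective f ⟨hfinj,
    (LinearMap.injective_iff_surjective_of_finrank_eq_finrank (by rw [hfr, Module.finrank_fin_fun])).1 hfinj⟩
  have hmat : ∀ k : K, toMat e k = (k : Matrix (Fin 3) (Fin 3) F) := fun k => by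
    refine Matrix.ext_of_mulVec_single fun i => ?_
    obtain ⟨y, hy⟩ := e.surjective (Pi.single i 1)
    rw [← hy, toMat_mulVec]
    show ((k * y : K) : Matrix (Fin 3) (Fin 3) F) *ᵥ _ = _
    rw [Subalgebra.coe_mul, ← mulVec_mulVec]; rfl
  have hN : HasNorm e M := fun u hu => by
    have hu0 : u ≠ 0 := fun e0 => by rw [e0, Algebra.norm_zero] at hu; exact zero_ne_one hu
    let U : GL (Fin 3) F := ⟨(u : Matrix (Fin 3) (Fin 3) F), ((u⁻¹ : K) : Matrix (Fin 3) (Fin 3) F),
      by rw [← Subalgebra.coe_mul, mul_inv_cancel₀ hu0]; rfl,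
      by rw [← Subalgebra.coe_mul, inv_mul_cancel₀ hu0]; rfl⟩
    have hUv : ∀ y, (U : Matrix (Fin 3) (Fin 3) F) *ᵥ e y = e (u * y) := fun y => by
      show (u : Matrix (Fin 3) (Fin 3) F) *ᵥ e y = _
      rw [← hmat u, toMat_mulVec]
    refine ⟨U, hHM ⟨fun k => ⟨fun hk => ?_, fun hk => ?_⟩, mem_specialLinear_iff_det.2 ?_⟩, hUv⟩
    · exact mul_mem (mul_mem u.2 hk) (u⁻¹ : K).2
    · have := mul_mem (mul_mem (u⁻¹ : K).2 hk) u.2
      change ((U⁻¹ : GL (Fin 3) F) : Matrix (Fin 3) (Fin 3) F) * _ * (U : Matrix (Fin 3) (Fin 3) F) ∈ K at this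
      simp only [mul_assoc] at this
      simp only [← mul_assoc, ← Units.val_mul, inv_mul_cancel, Units.val_one, one_mul] at this
      simpa [mul_assoc, ← Units.val_mul] using this
    · show (u : Matrix (Fin 3) (Fin 3) F).det = 1
      rw [← hmat u, ← hu, Algebra.norm_apply, ← LinearMap.det_toLin' (toMat e u)]
      rw [show Matrix.toLin' (toMat e u) = e.toLinearMap ∘ₗ (Algebra.lmul F K u) ∘ₗ e.symm.toLinearMap from
        LinearMap.ext fun v => by
          obtain ⟨y, rfl⟩ := e.surjective v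
          rw [Matrix.toLin'_apply, toMat_mulVec]
          simp,
        LinearMap.det_conj]
  have hS : HasFrob e M := by
    let σ : K ≃ₐ[F] K := FiniteField.frobeniusAlgEquivOfAlgebraic F K
    let T : (Fin 3 → F) ≃ₗ[F] (Fin 3 → F) := e.symm.trans (σ.toLinearEquiv.trans e)
    let S : GL (Fin 3) F :=
      Matrix.GeneralLinearGroup.toLin.symm (LinearMap.GeneralLinearGroup.ofLinearEquiv T)
    have hSv : ∀ v, (S : Matrix (Fin 3) (Fin 3) F) *ᵥ v = T v := fun v => by
      show LinearMap.toMatrix' T.toLinearMap *ᵥ v = T v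
      rw [← Matrix.toLin'_apply, Matrix.toLin'_toMatrix']
      rfl
    have hSe : ∀ y, (S : Matrix (Fin 3) (Fin 3) F) *ᵥ e y = e (σ y) := fun y => by
      rw [hSv]; simp [T]
    have hSk : ∀ k : K, (S : Matrix (Fin 3) (Fin 3) F) * k =
        ((σ k : K) : Matrix (Fin 3) (Fin 3) F) * S := fun k => by
      refine Matrix.ext_of_mulVec_single fun i => ?_
      obtain ⟨y, hy⟩ := e.surjective (Pi.single i 1)
      rw [← hy, ← mulVec_mulVec, ← mulVec_mulVec, hSe, ← hmat k, ← hmat (σ k), toMat_mulVec, toMat_mulVec,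
        hSe, map_mul σ k y]
    refine ⟨σ, fun x hx => ?_, S, hHM ⟨fun k => ⟨fun hk => ?_, fun hk => ?_⟩, mem_specialLinear_iff_det.2 ?_⟩, hSe⟩
    · have htop : Subgroup.zpowers σ = ⊤ := by
        refine Subgroup.eq_top_of_card_eq _ ?_
        rw [Nat.card_zpowers, IsGalois.card_aut_eq_finrank]
        exact (FiniteField.orderOf_frobeniusAlgEquivOfAlgebraic F K)
      have hall : ∀ φ : K ≃ₐ[F] K, φ x = x := fun φ => by
        have hle : Subgroup.zpowers σ ≤ MulAction.stabilizer (K ≃ₐ[F] K) x :=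
          Subgroup.zpowers_le.2 hx
        exact hle (htop ▸ Subgroup.mem_top φ)
      obtain ⟨c, hc⟩ := IntermediateField.mem_bot.1 ((IsGalois.mem_bot_iff_fixed x).2 hall)
      exact ⟨c, hc⟩
    · have h1 := hSk ⟨k, hk⟩
      simp only at h1
      rw [h1, mul_assoc, ← Units.val_mul, mul_inv_cancel, Units.val_one, mul_one]
      exact (σ ⟨k, hk⟩).2
    · have h1 := hSk (σ.symm ⟨_, hk⟩)
      rw [σ.apply_symm_apply] at h1
      simp only [mul_assoc, ← Units.val_mul, inv_mul_cancel, Units.val_one, mul_one] at h1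
      have h2 := congrArg (((S⁻¹ : GL (Fin 3) F) : Matrix (Fin 3) (Fin 3) F) * ·) h1
      simp only [← mul_assoc, ← Units.val_mul, inv_mul_cancel, Units.val_one, one_mul] at h2
      rw [← h2]; exact (σ.symm _).2
    · have : Matrix.toLin' (S : Matrix (Fin 3) (Fin 3) F) = e.toLinearMap ∘ₗ σ.toLinearMap ∘ₗ e.symm.toLinearMap := by
        refine LinearMap.ext fun v => ?_
        rw [Matrix.toLin'_apply, hSv]
        rfl
      rw [← LinearMap.det_toLin', this, LinearMap.det_conj, det_frob hfr σ]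
  have h4' : Nat.card F ≠ 4 := by rwa [Nat.card_eq_fintype_card]
  have hnotv : ∀ a φ, HasTv M a φ → a = 0 ∨ φ = 0 := fun a φ h => by
    by_contra hne
    push Not at hne
    exact no_transvection hfr h4' hN hno h hne.1 hne.2
  have hirr := irreducible hfr hN
  rcases CfsgLib.AschPrime.prime_dim_cases (by rw [Fintype.card_fin]; exact Nat.prime_three) (by simp) hirr with
    ⟨D, hD, hle⟩ | ⟨K', hK', hle⟩ | ⟨R, -, hR, hn⟩ | ⟨P, hP⟩
  · simp only [Fintype.card_fin] at D hD hle
    exact not_le_decomposition hfr hN hD hle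
  · simp only [Fintype.card_fin] at hK'
    have hKK : K' = K := by
      rw [field_eq hfr hN hK' hle]
      refine SetLike.ext fun m => ⟨?_, fun hm => (AlgHom.mem_range _).2 ⟨⟨m, hm⟩, hmat ⟨m, hm⟩⟩⟩
      intro hm
      obtain ⟨k, rfl⟩ := (AlgHom.mem_range _).1 hm
      show toMat e k ∈ K
      rw [hmat]; exact k.2
    exact hgH ⟨hKK ▸ hle hg, hMS hg⟩
  · exact not_heisenberg hfr hN hR hn
  · haveI : Finite (GL (Fin 3) F) := CfsgLib.AschPrime.finite_gl
    haveI := hP.simple
    have heven : Even (Nat.card (P ⧸ (Cfsg.Geo.scalars (Fin 3) F).subgroupOf P)) := by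
      by_contra hodd
      have hsol := Cfsg.Agent.S0205.result (G := P ⧸ (Cfsg.Geo.scalars (Fin 3) F).subgroupOf P)
        (Nat.not_even_iff_odd.1 hodd)
      refine hP.nonabelian ⟨⟨fun a b => ?_⟩⟩
      exact IsSimpleGroup.comm_iff_isSolvable.2 hsol a b
    have h2P : 2 ∣ Nat.card P := heven.two_dvd.trans (Subgroup.card_quotient_dvd_card _)
    haveI : Fact (Nat.Prime 2) := ⟨Nat.prime_two⟩
    obtain ⟨t, ht⟩ := exists_prime_orderOf_dvd_card' (G := P) 2 h2P
    have htt : (t : GL (Fin 3) F) * t = 1 := by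
      have := pow_orderOf_eq_one t
      rw [ht, sq] at this
      exact congrArg Subtype.val this
    have ht1 : (t : GL (Fin 3) F) ≠ 1 := fun e0 => by
      rw [Subtype.ext (a2 := (1 : P)) e0, orderOf_one] at ht; omega
    rcases invol_cases hMS (hP.le t.2) ht1 htt with ⟨-, a, φ, ha, hφ, h⟩ | ⟨h2, c, A, h⟩
    · exact (hnotv a φ h).elim ha hφ
    · exact no_homology hfr hN hS hnotv h2 h

end CfsgLib.MaxSub.SlThree.Singer
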