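import Cfsg.Agent.Lib.MaxSub.SlThree.SingerRel

/-!
No Singer-invariant incidence relation of transvections exists outside `SL₃(q)`, `q ≠ 4`.
-/

set_option autoImplicit false
set_option linter.unusedSectionVars false

namespace CfsgLib.MaxSub.SlThree.Singer

open Module

variable {F L : Type*} [Field F] [Field L] [Algebra F L]

/-- units modulo cubes -/
abbrev Cls (F : Type*) [Field F] := Fˣ ⧸ (powMonoidHom 3 : Fˣ →* Fˣ).range

/-- the norm class of a point -/
noncomputable def kap (h3 : finrank F L = 3) : Pt F L →* Cls F :=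
  QuotientGroup.lift (scal F L)
    ((QuotientGroup.mk' _).comp (Units.map (Algebra.norm F (S := L)))) (by
      rintro u ⟨c, rfl⟩
      rw [MonoidHom.mem_ker, MonoidHom.comp_apply, QuotientGroup.mk'_apply, QuotientGroup.eq_one_iff]
      refine ⟨c, Units.ext ?_⟩
      show (c : F) ^ 3 = Algebra.norm F (algebraMap F L (c : F))
      rw [Algebra.norm_algebraMap, h3])

variable (h3 : finrank F L = 3) [Finite F] [Finite L]

theorem kap_surj : Function.Surjective (kap (F := F) (L := L) h3) := by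
  haveI : Module.Finite F L := Module.Finite.of_finite
  intro k
  obtain ⟨c, rfl⟩ := QuotientGroup.mk_surjective k
  obtain ⟨u, rfl⟩ := FiniteField.unitsMap_norm_surjective F L c
  exact ⟨(u : Pt F L), rfl⟩

/-- points of the same class differ by a norm-one element and a scalar -/
theorem kap_eq {x x' : L} (hx : x ≠ 0) (hx' : x' ≠ 0)
    (h : kap h3 (pt F x) = kap h3 (pt F x')) :
    ∃ (c : F) (u : L), c ≠ 0 ∧ Algebra.norm F u = 1 ∧ x' = c • (u * x) := by
  haveI : Module.Finite F L := Module.Finite.of_finite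
  rw [pt_of_ne hx, pt_of_ne hx'] at h
  obtain ⟨c, hc⟩ := QuotientGroup.eq.1 h
  have hc' : ((c : F)) ^ 3 = (Algebra.norm F x)⁻¹ * Algebra.norm F x' := by
    have := congrArg Units.val hc
    simpa using this
  refine ⟨c, (c : F)⁻¹ • (x⁻¹ * x'), c.ne_zero, ?_, ?_⟩
  · have hni : Algebra.norm F x⁻¹ = (Algebra.norm F x)⁻¹ :=
      eq_inv_of_mul_eq_one_left (by rw [← map_mul, inv_mul_cancel₀ hx, map_one])
    rw [Algebra.smul_def, map_mul, map_mul, Algebra.norm_algebraMap, h3, inv_pow, hc', hni]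
    field_simp [Algebra.norm_ne_zero_iff.2 hx, Algebra.norm_ne_zero_iff.2 hx']
  · rw [smul_mul_assoc, smul_smul, mul_inv_cancel₀ c.ne_zero, one_smul]
    field_simp

theorem cls_card : Nat.card (Cls F) = (Nat.card F - 1).gcd 3 := by
  have := IsCyclic.index_powMonoidHom_range (G := Fˣ) 3
  rw [Nat.card_units] at this
  exact this

variable {ψ : L →ₗ[F] F} {R : L → L → Prop}

/-- points in classes `J` of a line, through the difference set -/
theorem card_trans (w : L) (P : Cls F → Prop) :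
    Nat.card {p : Pt F L // p * pt F w ∈ S0 ψ ∧ P (kap h3 p)} =
      Nat.card {s : Pt F L // s ∈ S0 ψ ∧ P (kap h3 s * (kap h3 (pt F w))⁻¹)} :=
  Nat.card_congr (Equiv.subtypeEquiv (Equiv.mulRight (pt F w)) fun p => by
    rw [Equiv.coe_mulRight, map_mul, mul_inv_cancel_right])

variable (H : IsTvRel ψ R) (hψ : ψ ≠ 0)
include H hψ

/-- the classes of centres -/
def cenCls (_H : IsTvRel ψ R) (k : Cls F) : Prop :=
  ∃ x : L, x ≠ 0 ∧ kap h3 (pt F x) = k ∧ IsCen R x

/-- the classes of axes -/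
def axCls (_H : IsTvRel ψ R) (k : Cls F) : Prop :=
  ∃ x : L, x ≠ 0 ∧ kap h3 (pt F x) = k ∧ IsAx R x

theorem cen_iff {x : L} (hx : x ≠ 0) : cenCls h3 H (kap h3 (pt F x)) ↔ IsCen R x := by
  refine ⟨fun ⟨y, hy, hk, b, hb, hR⟩ => ?_, fun h => ⟨x, hx, rfl, h⟩⟩
  obtain ⟨c, u, hc, hu, rfl⟩ := kap_eq h3 hy hx hk
  have hu0 : u ≠ 0 := fun e => hx (by simp [e])
  rw [isCen_smul H hc]
  exact ⟨u⁻¹ * b, mul_ne_zero (inv_ne_zero hu0) hb, H.trans u y b hu hR⟩

theorem ax_iff {x : L} (hx : x ≠ 0) : axCls h3 H (kap h3 (pt F x)) ↔ IsAx R x := by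
  refine ⟨fun ⟨y, hy, hk, z, hz, hR⟩ => ?_, fun h => ⟨x, hx, rfl, h⟩⟩
  obtain ⟨c, u, hc, hu, rfl⟩ := kap_eq h3 hy hx hk
  have hu0 : u ≠ 0 := fun e => hx (by simp [e])
  have hun : Algebra.norm F u⁻¹ = 1 := by
    have := map_mul (Algebra.norm F) u⁻¹ u
    rw [inv_mul_cancel₀ hu0, map_one, hu, mul_one] at this
    exact this.symm
  rw [isAx_smul H hc]
  have := H.trans u⁻¹ z y hun hR
  rw [inv_inv] at this
  exact ⟨u⁻¹ * z, mul_ne_zero (inv_ne_zero hu0) hz, this⟩

omit H in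
theorem mem_line {x b : L} (hx : x ≠ 0) (hb : b ≠ 0) :
    pt F x * pt F b ∈ S0 ψ ↔ ψ (b * x) = 0 := by
  rw [← pt_mul hx hb, mem_S0 ψ (mul_ne_zero hx hb), mul_comm]

/-- the axes through a point -/
def axDirs (x : L) : Set (Pt F L) := {p | p * pt F x ∈ S0 ψ ∧ axCls h3 H (kap h3 p)}

/-- the centres on a line -/
def cenDirs (b : L) : Set (Pt F L) := {p | p * pt F b ∈ S0 ψ ∧ cenCls h3 H (kap h3 p)}

theorem mem_axDirs {x b : L} (hx : x ≠ 0) (hb : b ≠ 0) :
    pt F b ∈ axDirs h3 H x ↔ ψ (b * x) = 0 ∧ IsAx R b := by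
  show (_ ∧ _) ↔ _
  rw [mem_line hψ hb hx, ax_iff h3 H hψ hb, mul_comm]

theorem mem_cenDirs {x b : L} (hx : x ≠ 0) (hb : b ≠ 0) :
    pt F x ∈ cenDirs h3 H b ↔ ψ (b * x) = 0 ∧ IsCen R x := by
  show (_ ∧ _) ↔ _
  rw [mem_line hψ hx hb, cen_iff h3 H hψ hx]

/-- the axes at a centre form a group made of equal root groups -/
theorem card_axGroup {x : L} (hx : x ≠ 0) (hcx : IsCen R x) (ell : ℕ)
    (hell : ∀ b, b ≠ 0 → R x b → rk F R x b = ell) :
    Nat.card (axGroup H x) = Nat.card (axDirs h3 H x) * (ell - 1) + 1 := by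
  refine count_union (axGroup H x) _
    (fun v hv hv0 => (mem_axDirs h3 H hψ hx hv0).2 ⟨H.inc x v hv, x, hx, hv⟩) ell ?_
  intro p hp v hv hvp
  obtain ⟨hi, hax⟩ := (mem_axDirs h3 H hψ hx hv).1 (by rwa [hvp])
  obtain ⟨c, hc, hR⟩ := axis_all H hψ h3 hx hv hcx hax hi
  rw [← hell _ (smul_ne_zero hc hv) hR, rk_smul_right H hψ h3 hc]
  rfl

/-- the centres on an axis form a group made of equal root groups -/
theorem card_cenGroup {b : L} (hb : b ≠ 0) (hab : IsAx R b) (ell : ℕ)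
    (hell : ∀ x, x ≠ 0 → R x b → rk F R x b = ell) :
    Nat.card (cenGroup H b) = Nat.card (cenDirs h3 H b) * (ell - 1) + 1 := by
  refine count_union (cenGroup H b) _
    (fun v hv hv0 => (mem_cenDirs h3 H hψ hv0 hb).2 ⟨H.inc v b hv, b, hb, hv⟩) ell ?_
  intro p hp v hv hvp
  obtain ⟨hi, hcen⟩ := (mem_cenDirs h3 H hψ hv hb).1 (by rwa [hvp])
  obtain ⟨c, hc, hR⟩ := axis_all H hψ h3 hv hb hcen hab hi
  rw [← hell _ (smul_ne_zero hc hv) ((H.smul c v b hc).2 hR), rk_smul_left H hψ h3 hc]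
  exact Nat.card_congr (Equiv.subtypeEquivRight fun t => by
    show t • v ∈ cenGroup H b ↔ R v (t • b)
    rcases eq_or_ne t 0 with rfl | ht
    · simp only [zero_smul]; exact ⟨fun _ => H.zero_right v, fun _ => H.zero_left b⟩
    · exact H.smul t v b ht)

omit H in
include h3 in
theorem card_kill {x : L} (hx : x ≠ 0) :
    Nat.card (LinearMap.ker (ψ.comp (LinearMap.mulRight F x))) = Nat.card F ^ 2 := by
  haveI : Module.Finite F L := Module.Finite.of_finite
  have hs : LinearMap.range (ψ.comp (LinearMap.mulRight F x)) = ⊤ := by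
    refine LinearMap.range_eq_top.2 (LinearMap.surjective fun e => hψ (LinearMap.ext fun w => ?_))
    have := LinearMap.congr_fun e (w * x⁻¹)
    simpa [mul_assoc, inv_mul_cancel₀ hx] using this
  have h1 := LinearMap.finrank_range_add_finrank_ker (ψ.comp (LinearMap.mulRight F x))
  rw [hs, finrank_top, finrank_self, h3] at h1
  rw [Module.natCard_eq_pow_finrank (K := F),
    show finrank F (LinearMap.ker (ψ.comp (LinearMap.mulRight F x))) = 2 by omega]

/-- the transvections at a centre move a line which is not an axis semiregularly -/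
theorem dvd_of_nonaxis {x b : L} (hx : x ≠ 0) (hb : b ≠ 0) (hcx : IsCen R x)
    (hinc : ψ (b * x) = 0) (hab : ¬ IsAx R b) :
    Nat.card (axGroup H x) ∣ Nat.card F ∧
      Nat.card (axGroup H x) ∣ Nat.card (cenDirs h3 H b) - 1 := by
  classical
  haveI : Module.Finite F L := Module.Finite.of_finite
  let K := LinearMap.ker (ψ.comp (LinearMap.mulRight F b))
  have hK : ∀ z, z ∈ K ↔ ψ (b * z) = 0 := fun z => by
    rw [LinearMap.mem_ker, LinearMap.comp_apply, LinearMap.mulRight_apply, mul_comm]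
  -- a second point on the line
  obtain ⟨y0, hy0K, hy0⟩ : ∃ y0, y0 ∈ K ∧ ∀ c : F, c • x ≠ y0 := by
    by_contra hno
    push Not at hno
    have hle : K ≤ Submodule.span F {x} := fun z hz => by
      obtain ⟨c, hc⟩ := hno z hz
      exact Submodule.mem_span_singleton.2 ⟨c, hc⟩
    have h1 := Submodule.finrank_mono hle
    have h2 := exists_ker_mul (F := F) hψ h3 b
    rw [finrank_span_singleton hx] at h1
    change 2 ≤ finrank F K at h2
    omega
  rw [hK] at hy0K
  let g : axGroup H x →+ F :=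
    { toFun := fun v => ψ ((v : L) * y0)
      map_zero' := by simp
      map_add' := fun v w => by simp [add_mul] }
  have hgi : Function.Injective g := by
    refine (injective_iff_map_eq_zero g).2 fun v hv => ?_
    by_contra hv0
    have hvL : (v : L) ≠ 0 := fun e => hv0 (Subtype.ext e)
    obtain ⟨c, hc⟩ := common hψ h3 hb hy0 hx hinc hy0K (H.inc _ _ v.2) hv
    have hc0 : c ≠ 0 := fun e => hvL (by rw [← hc, e, zero_smul])
    exact hab ((isAx_smul H hc0).1 (hc ▸ ⟨x, hx, v.2⟩))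
  have hG : Nat.card g.range = Nat.card (axGroup H x) :=
    (Nat.card_congr (AddMonoidHom.ofInjective hgi).toEquiv).symm
  refine ⟨hG ▸ AddSubgroup.card_addSubgroup_dvd_card g.range, ?_⟩
  have hne : ∀ t : F, y0 + t • x ≠ 0 := fun t e =>
    hy0 (-t) (by rw [neg_smul]; exact (eq_neg_of_add_eq_zero_left e).symm)
  let C : Set F := {t | IsCen R (y0 + t • x)}
  have hstab : ∀ t ∈ C, ∀ a ∈ g.range, t + a ∈ C := by
    rintro t ⟨b2, hb2, h2⟩ _ ⟨v, rfl⟩
    have h4 := H.conj x v _ b2 v.2 h2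
    have e : ψ ((v : L) * (y0 + t • x)) = g v := by
      rw [mul_add, mul_smul_comm, map_add, map_smul, H.inc x v v.2, smul_zero, add_zero]
      rfl
    rw [e, add_assoc, ← add_smul] at h4
    refine ⟨_, fun h5 => ?_, h4⟩
    rw [sub_eq_zero] at h5
    have : ψ (b2 * x) = 0 := by
      rw [h5, smul_mul_assoc, map_smul, H.inc x v v.2, smul_zero]
    rw [this, zero_smul] at h5
    exact hb2 h5
  have hdvd : Nat.card g.range ∣ Nat.card C := by
    let π : F → F ⧸ g.range := QuotientAddGroup.mk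
    have hCπ : C = π ⁻¹' (π '' C) := by
      refine Set.Subset.antisymm (Set.subset_preimage_image _ _) ?_
      rintro t ⟨s, hs, hst⟩
      have := hstab s hs _ (QuotientAddGroup.eq.1 hst)
      rwa [add_neg_cancel_left] at this
    rw [hCπ, Nat.card_congr (QuotientAddGroup.preimageMkEquivAddSubgroupProdSet _ _), Nat.card_prod]
    exact dvd_mul_right _ _
  have hcard : Nat.card (cenDirs h3 H b) = Nat.card C + 1 := by
    rw [← Finite.card_option]
    let f : Option C → cenDirs h3 H b := fun o => o.elim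
      ⟨pt F x, (mem_cenDirs h3 H hψ hx hb).2 ⟨hinc, hcx⟩⟩
      (fun t => ⟨pt F (y0 + t.1 • x), (mem_cenDirs h3 H hψ (hne _) hb).2
        ⟨by rw [mul_add, mul_smul_comm, map_add, map_smul, hinc, hy0K, smul_zero, add_zero], t.2⟩⟩)
    refine (Nat.card_congr (Equiv.ofBijective f ⟨?_, ?_⟩)).symm
    · have key : ∀ t : F, pt F (y0 + t • x) ≠ pt F x := fun t e => by
        obtain ⟨c, hc⟩ := (pt_eq_iff hx (hne t)).1 e.symm
        exact hy0 (c - t) (by rw [sub_smul, hc, add_sub_cancel_right])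
      rintro (_ | s) (_ | t) e <;> simp only [f, Option.elim_none, Option.elim_some, Subtype.mk.injEq] at e
      · rfl
      · exact absurd e.symm (key _)
      · exact absurd e (key _)
      · obtain ⟨c, hc⟩ := (pt_eq_iff (hne _) (hne _)).1 e
        by_cases hc1 : c = 1
        · subst hc1
          rw [one_smul, add_right_inj] at hc
          exact congrArg some (Subtype.ext (smul_left_injective F hx hc))
        · refine absurd ?_ (hy0 ((t.1 - c * s.1) / (c - 1)))
          have h5 : (c - 1) • y0 = (t.1 - c * s.1) • x := by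
            rw [smul_add, smul_smul] at hc
            rw [sub_smul, sub_smul, one_smul]
            rw [← sub_eq_zero] at hc ⊢
            rw [← hc]; abel
          rw [div_eq_inv_mul, mul_smul, ← h5, smul_smul, inv_mul_cancel₀ (sub_ne_zero.2 hc1), one_smul]
    · rintro ⟨p, hp⟩
      obtain ⟨v, hv0, rfl⟩ := pt_surj p
      obtain ⟨hvi, hvc⟩ := (mem_cenDirs h3 H hψ hv0 hb).1 hp
      -- coordinates of `v` in the line
      obtain ⟨r, w, hrw⟩ : ∃ r w : F, r • y0 + w • x = v := by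
        have hy00 : y0 ≠ 0 := fun e => hy0 0 (by rw [e, zero_smul])
        refine span_two H hψ h3 hb hy00 (fun c e => ?_) (by rwa [mul_comm]) (by rwa [mul_comm])
          (by rwa [mul_comm])
        rcases eq_or_ne c 0 with rfl | hc
        · exact hx (by rw [← e, zero_smul])
        · exact hy0 c⁻¹ (by rw [← e, smul_smul, inv_mul_cancel₀ hc, one_smul])
      by_cases hr : r = 0
      · refine ⟨none, Subtype.ext ?_⟩
        rw [hr, zero_smul, zero_add] at hrw
        exact (pt_eq_iff hx hv0).2 ⟨w, hrw⟩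
      · have e : y0 + (w / r) • x = r⁻¹ • v := by
          rw [← hrw, smul_add, smul_smul, smul_smul, inv_mul_cancel₀ hr, one_smul, inv_mul_eq_div]
        refine ⟨some ⟨w / r, ?_⟩, Subtype.ext ?_⟩
        · show IsCen R _
          rw [e, isCen_smul H (inv_ne_zero hr)]; exact hvc
        · show pt F (y0 + (w / r) • x) = pt F v
          rw [e, pt_smul hv0 (inv_ne_zero hr)]
  rw [hcard, Nat.add_sub_cancel, ← hG]
  exact hdvd

omit H hψ in
theorem arith_full {q l A : ℕ} {p e : ℕ} (hp : p.Prime) (hq : q = p ^ e) (hl : l ∣ q) (hl2 : 2 ≤ l)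
    (hA : A = (q + 1) * (l - 1) + 1) (hdvd : A ∣ q ^ 2) : l = q := by
  obtain ⟨m, hm⟩ := hl
  have hm0 : 0 < m := Nat.pos_of_ne_zero fun h => by
    subst h
    rw [mul_zero] at hm
    exact (pow_pos hp.pos e).ne' (hq ▸ hm)
  have hmq : m ≤ q := Nat.le_of_dvd (hq ▸ pow_pos hp.pos e) ⟨l, by rw [hm, mul_comm]⟩
  have eA : A = l * (q + 1 - m) := by
    have h1 : q + 1 ≤ (q + 1) * l := Nat.le_mul_of_pos_right _ (by omega)
    rw [hA, Nat.mul_sub_one, Nat.mul_sub, mul_comm l (q + 1), ← hm]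
    omega
  by_contra hne
  obtain ⟨j, hje, hj⟩ := (Nat.dvd_prime_pow hp).1 (hq ▸ Dvd.intro_left l hm.symm : m ∣ p ^ e)
  obtain ⟨i, hie, hi⟩ := (Nat.dvd_prime_pow hp).1 (show q + 1 - m ∣ p ^ (e * 2) by
    rw [pow_mul, ← hq]; exact (Dvd.intro_left l eA.symm).trans hdvd)
  have hj0 : j ≠ 0 := fun h => hne (by rw [hm, hj, h, pow_zero, mul_one])
  rcases Nat.eq_zero_or_pos i with h | h
  · subst h
    rw [pow_zero] at hi
    have hmq' : m = q := by omega
    have hq0 : 0 < q := hq ▸ pow_pos hp.pos e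
    rw [hmq'] at hm
    nlinarith
  · have hpm : p ∣ m := hj ▸ dvd_pow_self p hj0
    have hpq : p ∣ q := dvd_trans hpm ⟨l, by rw [hm, mul_comm]⟩
    have hps : p ∣ (q + 1 - m) := hi ▸ dvd_pow_self p h.ne'
    have hs := dvd_add hps hpm
    rw [Nat.sub_add_cancel (by omega : m ≤ q + 1)] at hs
    exact hp.not_dvd_one ((Nat.dvd_add_right hpq).1 hs)

omit H hψ in
theorem eight_le {q : ℕ} (h1 : 1 < q) (h4 : q ≠ 4) (h7 : q ≠ 7) (h : q % 3 = 1) : 8 ≤ q := by
  omega

set_option maxHeartbeats 2000000 in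
include h3 in
/-- there is no such relation apart from the zero one -/
theorem no_tv (h4 : Nat.card F ≠ 4) {x0 b0 : L} (hx0 : x0 ≠ 0) (hb0 : b0 ≠ 0) (h0 : R x0 b0) :
    False := by
  classical
  haveI : Fintype (Cls F) := Fintype.ofFinite _
  haveI : Fintype F := Fintype.ofFinite F
  obtain ⟨nn, hnn⟩ : ∃ nn : Cls F → ℕ, nn = fun k =>
      Nat.card {s : Pt F L // s ∈ S0 ψ ∧ kap h3 s = k} := ⟨_, rfl⟩
  set q := Nat.card F with hqdef
  have hq1 : 1 < q := Finite.one_lt_card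
  have hsum : ∑ k, nn k = q + 1 := by rw [hnn]; exact sum_card (Q := Cls F) hψ h3 (kap (F := F) (L := L) h3)
  have hsq : (∑ k, nn k ^ 2) + 1 = q + 1 + Nat.card (kap (F := F) (L := L) h3).ker := by
    have h := sum_sq (Q := Cls F) hψ h3 (kap (F := F) (L := L) h3)
    simp only [hnn]
    exact h
  have hker : Nat.card (kap (F := F) (L := L) h3).ker * Nat.card (Cls F) = q ^ 2 + q + 1 := by
    rw [hqdef, ← card_pt hψ h3, Subgroup.card_eq_card_quotient_mul_card_subgroup (kap (F := F) (L := L) h3).ker,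
      mul_comm (Nat.card (Pt F L ⧸ _)),
      Nat.card_congr (QuotientGroup.quotientKerEquivOfSurjective _ (kap_surj h3)).toEquiv]
  obtain ⟨p, e, hp, hqe⟩ : ∃ p e : ℕ, p.Prime ∧ q = p ^ e := by
    obtain ⟨e, hp, he⟩ := FiniteField.card F (ringChar F)
    exact ⟨ringChar F, e, hp, by rw [hqdef, Nat.card_eq_fintype_card, he]⟩
  have hd : Nat.card (Cls F) = 1 ∨ Nat.card (Cls F) = 3 :=
    (Nat.dvd_prime Nat.prime_three).1 (by rw [cls_card]; exact Nat.gcd_dvd_right _ _)
  -- counting a set of classes on a line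
  obtain ⟨cnt, hcnt⟩ : ∃ cnt : (Cls F → Prop) → Cls F → ℕ, cnt = fun P k =>
      ∑ j ∈ Finset.univ.filter P, nn (j * k) := ⟨_, rfl⟩
  have hcard : ∀ (P : Cls F → Prop) (w : L),
      Nat.card {p : Pt F L // p * pt F w ∈ S0 ψ ∧ P (kap h3 p)} = cnt P (kap h3 (pt F w)) := by
    intro P w
    rw [card_trans h3 w P, hcnt, hnn]
    dsimp only
    rw [Finset.sum_subtype (Finset.univ.filter P) (p := P) (by simp), ← Nat.card_sigma]
    exact Nat.card_congr
      ⟨fun s => ⟨⟨_, s.2.2⟩, s.1, s.2.1, (inv_mul_cancel_right _ _).symm⟩,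
      fun z => ⟨z.2.1, z.2.2.1, by rw [z.2.2.2, mul_inv_cancel_right]; exact z.1.2⟩,
      fun s => rfl, fun z => by
        obtain ⟨⟨j, hj⟩, s, hs, hk⟩ := z
        have : j = kap h3 s * (kap h3 (pt F w))⁻¹ := by rw [hk, mul_inv_cancel_right]
        subst this
        rfl⟩
  have hax : ∀ w : L, Nat.card (axDirs h3 H w) = cnt (axCls h3 H) (kap h3 (pt F w)) :=
    fun w => hcard (axCls h3 H) w
  have hcen : ∀ w : L, Nat.card (cenDirs h3 H w) = cnt (cenCls h3 H) (kap h3 (pt F w)) :=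
    fun w => hcard (cenCls h3 H) w
  have cnt_le : ∀ P k, cnt P k ≤ q + 1 := fun P k => by
    rw [hcnt, ← hsum]
    exact (Finset.sum_le_sum_of_subset (Finset.filter_subset _ _)).trans_eq
      (Equiv.sum_comp (Equiv.mulRight k) nn)
  have cnt_ge : ∀ P j k, P j → nn (j * k) ≤ cnt P k := fun P j k hj => by
    rw [hcnt]
    exact Finset.single_le_sum (f := fun j => nn (j * k)) (fun i _ => Nat.zero_le _) (by simp [hj])
  have cnt_all : ∀ P k, (∀ j, P j) → cnt P k = q + 1 := fun P k hP => by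
    rw [hcnt, ← hsum]
    show (∑ j ∈ Finset.univ.filter P, nn (j * k)) = _
    rw [Finset.filter_true_of_mem fun j _ => hP j]
    exact Equiv.sum_comp (Equiv.mulRight k) nn
  have hIne : axCls h3 H (kap h3 (pt F b0)) := ⟨b0, hb0, rfl, x0, hx0, h0⟩
  have hJne : cenCls h3 H (kap h3 (pt F x0)) := ⟨x0, hx0, rfl, b0, hb0, h0⟩
  have rk_two : ∀ x b, b ≠ 0 → R x b → 2 ≤ rk F R x b := fun x b _ h =>
    two_le_rk H hψ h3 (c := 1) one_ne_zero (by rwa [one_smul])
  -- two different axes with full root groups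
  have other : ∀ x b : L, x ≠ 0 → b ≠ 0 → IsCen R x → 2 ≤ Nat.card (axDirs h3 H x) →
      ∃ b', b' ≠ 0 ∧ (∀ c : F, c • b ≠ b') ∧ R x b' := by
    intro x b hx hb hcx h2
    obtain ⟨p', hp', hne⟩ : ∃ p' ∈ axDirs h3 H x, p' ≠ pt F b := by
      by_contra hno
      push Not at hno
      have : Nat.card (axDirs h3 H x) ≤ Nat.card ({pt F b} : Set (Pt F L)) :=
        Nat.card_mono (Set.toFinite _) fun p hp => hno p hp
      rw [Nat.card_coe_set_eq {pt F b}, Set.ncard_singleton] at this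
      omega
    obtain ⟨b', hb', rfl⟩ := pt_surj p'
    obtain ⟨hi, ha⟩ := (mem_axDirs h3 H hψ hx hb').1 hp'
    obtain ⟨c, hc, hR⟩ := axis_all H hψ h3 hx hb' hcx ha hi
    refine ⟨c • b', smul_ne_zero hc hb', fun d e => hne ?_, hR⟩
    have hd0 : d ≠ 0 := fun h => smul_ne_zero hc hb' (by rw [← e, h, zero_smul])
    rw [← pt_smul hb' hc, ← e, pt_smul hb hd0]
  have otherC : ∀ x b : L, x ≠ 0 → b ≠ 0 → IsAx R b → 2 ≤ Nat.card (cenDirs h3 H b) →
      ∃ y, y ≠ 0 ∧ (∀ c : F, c • x ≠ y) ∧ R y b := by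
    intro x b hx hb hab h2
    obtain ⟨p', hp', hne⟩ : ∃ p' ∈ cenDirs h3 H b, p' ≠ pt F x := by
      by_contra hno
      push Not at hno
      have : Nat.card (cenDirs h3 H b) ≤ Nat.card ({pt F x} : Set (Pt F L)) :=
        Nat.card_mono (Set.toFinite _) fun p hp => hno p hp
      rw [Nat.card_coe_set_eq {pt F x}, Set.ncard_singleton] at this
      omega
    obtain ⟨y, hy, rfl⟩ := pt_surj p'
    obtain ⟨hi, hc'⟩ := (mem_cenDirs h3 H hψ hy hb).1 hp'
    obtain ⟨c, hc, hR⟩ := axis_all H hψ h3 hy hb hc' hab hi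
    refine ⟨c • y, smul_ne_zero hc hy, fun d e => hne ?_, (H.smul c y b hc).2 hR⟩
    have hd0 : d ≠ 0 := fun h => smul_ne_zero hc hy (by rw [← e, h, zero_smul])
    rw [← pt_smul hy hc, ← e, pt_smul hx hd0]
  have noQ : ∀ x b, x ≠ 0 → b ≠ 0 → R x b → 2 ≤ Nat.card (axDirs h3 H x) →
      (∀ b', b' ≠ 0 → R x b' → rk F R x b' = q) → False := by
    intro x b hx hb hR h2 hall
    obtain ⟨b', hb', hne, hR'⟩ := other x b hx hb ⟨b, hb, hR⟩ h2
    exact not_two_full H hψ h3 hx hb hne (full_of_rk H hψ h3 (hall b hb hR))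
      (full_of_rk H hψ h3 (hall b' hb' hR'))
  -- the three numbers when the plane splits into three orbits
  have three : Nat.card (Cls F) = 3 → ∃ ι : Fin 3 ≃ Cls F,
      nn (ι 0) + nn (ι 1) + nn (ι 2) = q + 1 ∧
      3 * (nn (ι 0) ^ 2 + nn (ι 1) ^ 2 + nn (ι 2) ^ 2) = q ^ 2 + 4 * q + 1 ∧ q % 3 = 1 := by
    intro h
    obtain ⟨ι⟩ : Nonempty (Fin 3 ≃ Cls F) :=
      Fintype.card_eq.1 (by rw [Fintype.card_fin, ← Nat.card_eq_fintype_card, h])
    refine ⟨ι, ?_, ?_, ?_⟩
    · rw [← hsum, ← Equiv.sum_comp ι nn, Fin.sum_univ_three]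
    · have h1 : nn (ι 0) ^ 2 + nn (ι 1) ^ 2 + nn (ι 2) ^ 2 = ∑ k, nn k ^ 2 := by
        rw [← Equiv.sum_comp ι, Fin.sum_univ_three]
      rw [h] at hker
      rw [h1]
      linarith
    · have h1 : 3 ∣ q - 1 := by
        rw [← h, cls_card, ← hqdef]; exact Nat.gcd_dvd_left _ _
      omega
  -- the root groups at a centre are equal
  have main : (∀ x, x ≠ 0 → IsCen R x → 2 ≤ Nat.card (axDirs h3 H x)) → (q = 7 ∨
      ∀ b, b ≠ 0 → IsAx R b → 2 ≤ Nat.card (cenDirs h3 H b)) → False := by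
    intro ha2 hs2
    have h7 : ∀ x b, b ≠ 0 → R x b → q = 7 → rk F R x b = q := by
      intro x b hb hR hq7
      have h1 : rk F R x b ∣ q := rk_dvd H hψ h3
      rw [hq7] at h1 ⊢
      rcases (Nat.dvd_prime (by norm_num)).1 h1 with h' | h'
      · have := rk_two x b hb hR; omega
      · exact h'
    rcases eq_or_ne q 7 with hq7 | hq7
    · exact noQ x0 b0 hx0 hb0 h0 (ha2 x0 hx0 ⟨b0, hb0, h0⟩) fun b hb hR => h7 x0 b hb hR hq7
    have hs := hs2.resolve_left hq7
    have centre_eq : ∀ x y b, x ≠ 0 → y ≠ 0 → b ≠ 0 → R x b → R y b → rk F R x b ≤ rk F R y b := by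
      intro x y b hx hy hb hxb hyb
      by_cases hxy : ∃ c : F, c • x = y
      · obtain ⟨c, rfl⟩ := hxy
        have hc : c ≠ 0 := fun e => hy (by rw [e, zero_smul])
        rw [rk_smul_left H hψ h3 hc]
      · push Not at hxy
        obtain ⟨b2, hb2, hne, hR2⟩ := other y b hy hb ⟨b, hb, hyb⟩ (ha2 y hy ⟨b, hb, hyb⟩)
        refine rk_le_centre H hψ h3 (H.inc y b hyb) hR2 fun e => ?_
        obtain ⟨c, hc⟩ := common hψ h3 hb hxy hx (H.inc x b hxb) (H.inc y b hyb) e (H.inc y b2 hR2)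
        exact hne c hc
    have axis_eq : ∀ x b b', x ≠ 0 → b ≠ 0 → b' ≠ 0 → R x b → R x b' →
        rk F R x b ≤ rk F R x b' := by
      intro x b b' hx hb hb' hxb hxb'
      by_cases hbb : ∃ c : F, c • b = b'
      · obtain ⟨c, rfl⟩ := hbb
        have hc : c ≠ 0 := fun e => hb' (by rw [e, zero_smul])
        rw [rk_smul_right H hψ h3 hc]
      · push Not at hbb
        obtain ⟨y, hy, hne, hR⟩ := otherC x b' hx hb' ⟨x, hx, hxb'⟩ (hs b' hb' ⟨x, hx, hxb'⟩)
        refine rk_le_axis H hψ h3 hR (H.inc x b' hxb') fun e => ?_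
        obtain ⟨c, hc⟩ := common hψ h3 hb hne hx (H.inc x b hxb) e (H.inc x b' hxb') (H.inc y b' hR)
        exact hbb c hc
    obtain ⟨ell, hell⟩ : ∃ l, l = rk F R x0 b0 := ⟨_, rfl⟩
    have hl2 : 2 ≤ ell := hell ▸ rk_two x0 b0 hb0 h0
    have hlq : ell ∣ q := hell ▸ rk_dvd H hψ h3
    have hellx : ∀ b, b ≠ 0 → R x0 b → rk F R x0 b = ell := fun b hb hR => by
      rw [hell]; exact le_antisymm (axis_eq x0 b b0 hx0 hb hb0 hR h0) (axis_eq x0 b0 b hx0 hb0 hb h0 hR)
    have hellb : ∀ x, x ≠ 0 → R x b0 → rk F R x b0 = ell := fun x hx hR => by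
      rw [hell]; exact le_antisymm (centre_eq x x0 b0 hx hx0 hb0 hR h0) (centre_eq x0 x b0 hx0 hx hb0 h0 hR)
    have hnf : ell ≠ q := fun e => noQ x0 b0 hx0 hb0 h0 (ha2 x0 hx0 ⟨b0, hb0, h0⟩)
      fun b hb hR => (hellx b hb hR).trans e
    have hlt : ∀ (Γ : AddSubgroup L) (w : L), w ≠ 0 → (∀ v ∈ Γ, ψ (v * w) = 0) →
        Nat.card Γ = (q + 1) * (ell - 1) + 1 → False := by
      intro Γ w hw hΓ hA
      refine hnf (arith_full hp hqe hlq hl2 hA ?_)
      rw [hqdef, ← card_kill h3 hψ hw]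
      exact AddSubgroup.card_dvd_of_le (K := (LinearMap.ker (ψ.comp (LinearMap.mulRight F w))).toAddSubgroup)
        fun v hv => LinearMap.mem_ker.2 (hΓ v hv)
    by_cases hIall : ∀ i, axCls h3 H i
    · refine hlt (axGroup H x0) x0 hx0 (fun v hv => H.inc x0 v hv) ?_
      rw [card_axGroup h3 H hψ hx0 ⟨b0, hb0, h0⟩ ell hellx, hax, cnt_all _ _ hIall]
    by_cases hJall : ∀ j, cenCls h3 H j
    · refine hlt (cenGroup H b0) b0 hb0 (fun v hv => by rw [mul_comm]; exact H.inc v b0 hv) ?_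
      rw [card_cenGroup h3 H hψ hb0 ⟨x0, hx0, h0⟩ ell hellb, hcen, cnt_all _ _ hJall]
    push Not at hIall hJall
    obtain ⟨i1, hi1⟩ := hIall
    obtain ⟨j1, hj1⟩ := hJall
    have h3c : Nat.card (Cls F) = 3 := by
      refine hd.resolve_left fun h1 => hi1 ?_
      haveI := (Nat.card_eq_one_iff_unique.1 h1).1
      rwa [Subsingleton.elim i1 (kap h3 (pt F b0))]
    obtain ⟨ι, e1, e2, hq3⟩ := three h3c
    have h8 : 8 ≤ q := eight_le hq1 h4 hq7 hq3
    have two : ∀ k, 2 ≤ nn k := by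
      intro k
      obtain ⟨i, rfl⟩ := ι.surjective k
      fin_cases i
      · exact SingerArith.two_le e1 e2 h8
      · exact SingerArith.two_le (b := nn (ι 0)) (c := nn (ι 2)) (by show nn (ι 1) + _ + _ = _; omega)
          (by show 3 * (nn (ι 1) ^ 2 + _ + _) = _; linarith) h8
      · exact SingerArith.two_le (b := nn (ι 0)) (c := nn (ι 1)) (by show nn (ι 2) + _ + _ = _; omega)
          (by show 3 * (nn (ι 2) ^ 2 + _ + _) = _; linarith) h8
    -- a line through `x0` which is not an axis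
    obtain ⟨b1, hb1, hb1i, hb1k⟩ : ∃ b1, b1 ≠ 0 ∧ ψ (b1 * x0) = 0 ∧ kap h3 (pt F b1) = i1 := by
      have h5 := two (i1 * kap h3 (pt F x0))
      rw [hnn] at h5
      obtain ⟨⟨s, hs, hk⟩⟩ := (Nat.card_pos_iff.1 (lt_of_lt_of_le (by norm_num) h5)).1
      obtain ⟨z, hz, rfl⟩ := pt_surj s
      refine ⟨z / x0, div_ne_zero hz hx0, ?_, ?_⟩
      · rw [div_mul_cancel₀ _ hx0]; exact (mem_S0 ψ hz).1 hs
      · rw [div_eq_mul_inv, pt_mul hz (inv_ne_zero hx0), map_mul, hk, pt_inv hx0, map_inv,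
          mul_inv_cancel_right]
    have hna : ¬ IsAx R b1 := fun h => hi1 (hb1k ▸ (ax_iff h3 H hψ hb1).2 h)
    obtain ⟨hA, hdvd⟩ := dvd_of_nonaxis h3 H hψ hx0 hb1 ⟨b0, hb0, h0⟩ hb1i hna
    have hAeq := card_axGroup h3 H hψ hx0 ⟨b0, hb0, h0⟩ ell hellx
    rw [hax] at hAeq
    rw [hcen] at hdvd
    have hk : nn (kap h3 (pt F b0) * kap h3 (pt F x0)) + 1 ≤ Nat.card (axGroup H x0) := by
      have h5 := cnt_ge _ _ (kap h3 (pt F x0)) hIne
      have h6 := Nat.le_mul_of_pos_right (cnt (axCls h3 H) (kap h3 (pt F x0))) (show 0 < ell - 1 by omega)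
      omega
    -- the centres on that line miss one or two classes
    obtain ⟨k', hk'⟩ : ∃ k', cnt (cenCls h3 H) (kap h3 (pt F b1)) = nn k' ∨
        cnt (cenCls h3 H) (kap h3 (pt F b1)) + nn k' = q + 1 := by
      set S := Finset.univ.filter (cenCls h3 H) with hS
      have hScard : S.card ≤ 2 := by
        have : S.card < Fintype.card (Cls F) :=
          Finset.card_lt_univ_of_notMem (x := j1) (by simp [hS, hj1])
        rw [← Nat.card_eq_fintype_card, h3c] at this
        omega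
      have hS0 : 0 < S.card := Finset.card_pos.2 ⟨_, by simp [hS]; exact hJne⟩
      set κb := kap h3 (pt F b1)
      rcases (show S.card = 1 ∨ S.card = 2 by omega) with h | h
      · obtain ⟨j, hj⟩ := Finset.card_eq_one.1 h
        exact ⟨j * κb, .inl (by rw [hcnt]; show ∑ j ∈ S, nn (j * κb) = _; rw [hj, Finset.sum_singleton])⟩
      · have hc : Sᶜ.card = 1 := by
          rw [Finset.card_compl, ← Nat.card_eq_fintype_card, h3c, h]
        obtain ⟨j, hj⟩ := Finset.card_eq_one.1 hc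
        refine ⟨j * κb, .inr ?_⟩
        rw [hcnt, ← hsum]
        show ∑ j ∈ S, nn (j * κb) + _ = _
        rw [← Finset.sum_singleton (fun j => nn (j * κb)) j, ← hj, Finset.sum_add_sum_compl]
        exact Equiv.sum_comp (Equiv.mulRight κb) nn
    exact SingerArith.contradiction (n := fun i => nn (ι i)) h8 (by omega) e1 e2 hA
      (k := ι.symm (kap h3 (pt F b0) * kap h3 (pt F x0))) (by rwa [Equiv.apply_symm_apply])
      (k' := ι.symm k') (by rwa [Equiv.apply_symm_apply]) hdvd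
  rcases hd with h1 | h3c
  · haveI := (Nat.card_eq_one_iff_unique.1 h1).1
    refine main (fun x _ _ => ?_) (.inr fun b _ _ => ?_)
    · rw [hax, cnt_all _ _ fun j => (Subsingleton.elim (kap h3 (pt F b0)) j) ▸ hIne]; omega
    · rw [hcen, cnt_all _ _ fun j => (Subsingleton.elim (kap h3 (pt F x0)) j) ▸ hJne]; omega
  obtain ⟨ι, e1, e2, hq3⟩ := three h3c
  by_cases h8 : 8 ≤ q
  · have two : ∀ k, 2 ≤ nn k := by
      intro k
      obtain ⟨i, rfl⟩ := ι.surjective k
      fin_cases i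
      · exact SingerArith.two_le e1 e2 h8
      · exact SingerArith.two_le (b := nn (ι 0)) (c := nn (ι 2)) (by show nn (ι 1) + _ + _ = _; omega)
          (by show 3 * (nn (ι 1) ^ 2 + _ + _) = _; linarith) h8
      · exact SingerArith.two_le (b := nn (ι 0)) (c := nn (ι 1)) (by show nn (ι 2) + _ + _ = _; omega)
          (by show 3 * (nn (ι 2) ^ 2 + _ + _) = _; linarith) h8
    exact main (fun x _ _ => by rw [hax]; exact (two _).trans (cnt_ge _ _ _ hIne))
      (.inr fun b _ _ => by rw [hcen]; exact (two _).trans (cnt_ge _ _ _ hJne))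
  · have hq7 : q = 7 := by omega
    refine main (fun x hx hcx => ?_) (.inl hq7)
    by_contra hlt
    -- one axis through `x`: seven transvections, and some other line with 3, 4 or 7 centres
    push Not at hlt
    rw [hax] at hlt
    rw [hq7] at e1 e2
    have hvals : ∀ k, nn k = 1 ∨ nn k = 3 ∨ nn k = 4 := by
      have key : ∀ a b c : Fin 9, (a : ℕ) + b + c = 8 → 3 * ((a : ℕ) ^ 2 + b ^ 2 + c ^ 2) = 78 →
          ((a : ℕ) = 1 ∨ (a : ℕ) = 3 ∨ (a : ℕ) = 4) ∧ ((b : ℕ) = 1 ∨ (b : ℕ) = 3 ∨ (b : ℕ) = 4) ∧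
          ((c : ℕ) = 1 ∨ (c : ℕ) = 3 ∨ (c : ℕ) = 4) := by decide +kernel
      obtain ⟨k0, k1, k2⟩ := key ⟨nn (ι 0), by omega⟩ ⟨nn (ι 1), by omega⟩ ⟨nn (ι 2), by omega⟩ e1 e2
      intro k
      obtain ⟨i, rfl⟩ := ι.surjective k
      fin_cases i
      exacts [k0, k1, k2]
    set κx := kap h3 (pt F x)
    have hone : ∀ i, axCls h3 H i → nn (i * κx) = 1 := fun i hi => by
      have := cnt_ge _ _ κx hi
      rcases hvals (i * κx) with h | h | h <;> omega
    -- a class of lines with three or four points in the class of `x`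
    obtain ⟨k, hk⟩ : ∃ k, nn k = 3 := by
      by_contra hno
      push Not at hno
      have : ∀ i : Fin 3, nn (ι i) = 1 ∨ nn (ι i) = 4 := fun i =>
        (hvals (ι i)).imp_right fun h => h.resolve_left (hno _)
      rcases this 0 with h | h <;> rcases this 1 with h' | h' <;> rcases this 2 with h'' | h'' <;> omega
    have hnotax : ¬ axCls h3 H (k * κx⁻¹) := fun h => by
      have := hone _ h
      rw [inv_mul_cancel_right, hk] at this
      omega
    obtain ⟨b1, hb1, hb1i, hb1k⟩ : ∃ b1, b1 ≠ 0 ∧ ψ (b1 * x) = 0 ∧ kap h3 (pt F b1) = k * κx⁻¹ := by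
      have h5 : 0 < nn k := by omega
      rw [hnn] at h5
      obtain ⟨⟨s, hs, hks⟩⟩ := (Nat.card_pos_iff.1 h5).1
      obtain ⟨z, hz, rfl⟩ := pt_surj s
      refine ⟨z / x, div_ne_zero hz hx, ?_, ?_⟩
      · rw [div_mul_cancel₀ _ hx]; exact (mem_S0 ψ hz).1 hs
      · rw [div_eq_mul_inv, pt_mul hz (inv_ne_zero hx), map_mul, hks, pt_inv hx, map_inv]
    have hna : ¬ IsAx R b1 := fun h => hnotax (hb1k ▸ (ax_iff h3 H hψ hb1).2 h)
    obtain ⟨hA, hdvd⟩ := dvd_of_nonaxis h3 H hψ hx hb1 hcx hb1i hna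
    obtain ⟨b, hb, hR⟩ := hcx
    have hA2 : 1 < Nat.card (axGroup H x) := by
      have : Nontrivial (axGroup H x) :=
        ⟨⟨b, hR⟩, 0, fun e => hb (congrArg Subtype.val e)⟩
      exact Finite.one_lt_card
    rw [← hqdef, hq7] at hA
    rcases (Nat.dvd_prime (by norm_num)).1 hA with h | h
    · omega
    rw [h, hcen, hb1k] at hdvd
    have hc1 : 3 ≤ cnt (cenCls h3 H) (k * κx⁻¹) := by
      have := cnt_ge _ _ (k * κx⁻¹) ((cen_iff h3 H hψ hx).2 ⟨b, hb, hR⟩)
      have hre : kap h3 (pt F x) * (k * κx⁻¹) = k :=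
        (mul_assoc κx k κx⁻¹).symm.trans (mul_inv_cancel_comm κx k)
      rw [hre, hk] at this
      exact this
    have hc2 := cnt_le (cenCls h3 H) (k * κx⁻¹)
    rw [hq7] at hc2
    -- all three classes are centres
    have hc8 : cnt (cenCls h3 H) (k * κx⁻¹) = 8 := by omega
    have hJall : ∀ j, cenCls h3 H j := by
      intro j
      by_contra hj
      have h5 : cnt (cenCls h3 H) (k * κx⁻¹) + nn (j * (k * κx⁻¹)) ≤ q + 1 := by
        rw [hcnt]
        show (∑ j ∈ Finset.univ.filter (cenCls h3 H), nn (j * (k * κx⁻¹))) + _ ≤ _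
        rw [add_comm, ← Finset.sum_insert (f := fun j => nn (j * (k * κx⁻¹))) (by simp [hj] : j ∉ Finset.univ.filter (cenCls h3 H)),
          ← hsum, ← Equiv.sum_comp (Equiv.mulRight (k * κx⁻¹)) nn]
        exact Finset.sum_le_sum_of_subset (Finset.subset_univ _)
      have := hvals (j * (k * κx⁻¹))
      omega
    -- so some centre lies on three or four axes
    obtain ⟨y, hy, hyk⟩ : ∃ y : L, y ≠ 0 ∧ nn (kap h3 (pt F b0) * kap h3 (pt F y)) = 4 := by
      obtain ⟨k4, hk4⟩ : ∃ k, nn k = 4 := by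
        by_contra hno
        push Not at hno
        have : ∀ i : Fin 3, nn (ι i) = 1 ∨ nn (ι i) = 3 := fun i =>
          (hvals (ι i)).imp_right fun h => h.resolve_right (hno _)
        rcases this 0 with h | h <;> rcases this 1 with h' | h' <;> rcases this 2 with h'' | h'' <;> omega
      obtain ⟨p, hp⟩ := kap_surj (L := L) h3 ((kap h3 (pt F b0))⁻¹ * k4)
      obtain ⟨y, hy, rfl⟩ := pt_surj p
      exact ⟨y, hy, by rw [hp, mul_inv_cancel_left, hk4]⟩
    obtain ⟨b2, hb2, hyb2⟩ := (cen_iff h3 H hψ hy).1 (hJall _)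
    refine noQ y b2 hy hb2 hyb2 ?_ fun b' hb' hR' => ?_
    · rw [hax]
      have := cnt_ge _ _ (kap h3 (pt F y)) hIne
      omega
    · have h1 : rk F R y b' ∣ q := rk_dvd H hψ h3
      rw [hq7] at h1 ⊢
      rcases (Nat.dvd_prime (by norm_num)).1 h1 with h' | h'
      · have := rk_two y b' hb' hR'; omega
      · exact h'

end CfsgLib.MaxSub.SlThree.Singer
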