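import Cfsg.Agent.Lib.MaxSub.SlThree.Basic
import Cfsg.Agent.Lib.MaxSub.SlThree.SingerMain

/-!
A proper subgroup of `SL₃(q)` containing the norm-one elements of a cubic field contains neither transvections
(`q ≠ 4`) nor, with the Frobenius, homologies.
-/

set_option autoImplicit false
set_option linter.unusedSectionVars false

namespace CfsgLib.MaxSub.SlThree.Singer

open Matrix Module CfsgLib.MaxSub
open scoped MatrixGroups

variable {F L : Type*} [Field F] [Field L] [Algebra F L]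

/-- the functional `e y ↦ ψ (b y)` as a vector -/
def fv (e : L ≃ₗ[F] (Fin 3 → F)) (ψ : L →ₗ[F] F) : L →ₗ[F] (Fin 3 → F) :=
  LinearMap.pi fun i => ψ.comp (LinearMap.mulRight F (e.symm (Pi.single i 1)))

theorem fv_dot (e : L ≃ₗ[F] (Fin 3 → F)) (ψ : L →ₗ[F] F) (b y : L) :
    fv e ψ b ⬝ᵥ e y = ψ (b * y) := by
  have h1 : e y = ∑ i, (e y i) • Pi.single i (1 : F) := pi_eq_sum_univ' _
  conv_rhs => rw [← e.symm_apply_apply y, h1, map_sum, Finset.mul_sum, map_sum]
  refine Finset.sum_congr rfl fun i _ => ?_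
  rw [map_smul, mul_smul_comm, map_smul, smul_eq_mul, mul_comm]
  rfl

theorem dot_ext (e : L ≃ₗ[F] (Fin 3 → F)) {φ χ : Fin 3 → F}
    (h : ∀ y, φ ⬝ᵥ e y = χ ⬝ᵥ e y) : φ = χ := by
  funext i
  simpa using h (e.symm (Pi.single i 1))

variable [Finite F] [Finite L] {M : Subgroup (GL (Fin 3) F)}

/-- `M` contains the norm-one elements -/
def HasNorm (e : L ≃ₗ[F] (Fin 3 → F)) (M : Subgroup (GL (Fin 3) F)) : Prop :=
  ∀ u : L, Algebra.norm F u = 1 →
    ∃ g ∈ M, ∀ y, (g : Matrix (Fin 3) (Fin 3) F) *ᵥ e y = e (u * y)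

/-- `M` contains a generator of the Galois group -/
def HasFrob (e : L ≃ₗ[F] (Fin 3 → F)) (M : Subgroup (GL (Fin 3) F)) : Prop :=
  ∃ σ : L ≃ₐ[F] L, (∀ x, σ x = x → ∃ c : F, algebraMap F L c = x) ∧
    ∃ g ∈ M, ∀ y, (g : Matrix (Fin 3) (Fin 3) F) *ᵥ e y = e (σ y)

/-- a norm-one element outside the scalars -/
theorem exists_norm_one (h3 : finrank F L = 3) {ψ : L →ₗ[F] F} (hψ : ψ ≠ 0) :
    ∃ u : L, Algebra.norm F u = 1 ∧ ∀ c : F, algebraMap F L c ≠ u := by
  have hN := card_pt hψ h3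
  have h1 := Subgroup.card_eq_card_quotient_mul_card_subgroup (kap (F := F) (L := L) h3).ker
  rw [Nat.card_congr (QuotientGroup.quotientKerEquivOfSurjective _ (kap_surj h3)).toEquiv, hN] at h1
  have h2 : Nat.card (Cls F) ≤ 3 := by
    rw [cls_card]; exact Nat.le_of_dvd (by norm_num) (Nat.gcd_dvd_right _ _)
  have hq : 1 < Nat.card F := Finite.one_lt_card
  haveI : Nontrivial (kap (F := F) (L := L) h3).ker := by
    rw [← Finite.one_lt_card_iff_nontrivial]
    by_contra hle
    push Not at hle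
    have := Nat.mul_le_mul h2 hle
    nlinarith
  obtain ⟨g, hg⟩ := exists_ne (1 : (kap (F := F) (L := L) h3).ker)
  obtain ⟨z, hz, hzg⟩ := pt_surj (g : Pt F L)
  have hone : pt F (1 : L) = 1 := by
    rw [pt_of_ne one_ne_zero, Units.mk0_one, QuotientGroup.mk_one]
  obtain ⟨c, u, hc, hu, huz⟩ := kap_eq h3 one_ne_zero hz (by
    rw [hone, map_one, hzg]; exact (MonoidHom.mem_ker.1 g.2).symm)
  refine ⟨u, hu, fun d hd => hg (Subtype.ext ?_)⟩
  rw [← hzg, Subgroup.coe_one, ← hone]
  refine ((pt_eq_iff one_ne_zero hz).2 ⟨c * d, ?_⟩).symm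
  rw [huz, ← hd, mul_one, mul_smul, Algebra.algebraMap_eq_smul_one]

/-- `1, u, u²` are independent -/
theorem cubic_indep (h3 : finrank F L = 3) {u : L} (hu : ∀ c : F, algebraMap F L c ≠ u) {a b c : F}
    (h : a • (1 : L) + b • u + c • u ^ 2 = 0) : a = 0 ∧ b = 0 ∧ c = 0 := by
  haveI : Module.Finite F L := Module.Finite.of_finite
  have hint : IsIntegral F u := IsIntegral.of_finite F u
  by_contra hne
  let P : Polynomial F := Polynomial.C a + Polynomial.C b * Polynomial.X + Polynomial.C c * Polynomial.X ^ 2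
  have hP : Polynomial.aeval u P = 0 := by
    simpa [P, Algebra.smul_def] using h
  have hP0 : P ≠ 0 := fun e => hne ⟨by simpa [P] using congrArg (Polynomial.coeff · 0) e,
    by simpa [P] using congrArg (Polynomial.coeff · 1) e,
    by simpa [P] using congrArg (Polynomial.coeff · 2) e⟩
  have hd : (minpoly F u).natDegree ≤ 2 :=
    (Polynomial.natDegree_le_of_dvd (minpoly.dvd F u hP) hP0).trans (by
      show P.natDegree ≤ 2
      unfold P; compute_degree)
  have hdvd := minpoly.degree_dvd (K := F) hint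
  rw [h3] at hdvd
  have h1 : (minpoly F u).natDegree = 1 := by
    rcases (Nat.dvd_prime Nat.prime_three).1 hdvd with h' | h'
    · exact h'
    · omega
  obtain ⟨d, hd'⟩ := minpoly.natDegree_eq_one_iff.1 h1
  exact hu d hd'

/-- no transvections -/
theorem no_transvection (h3 : finrank F L = 3) (h4 : Nat.card F ≠ 4) {e : L ≃ₗ[F] (Fin 3 → F)}
    (hN : HasNorm e M) (hno : ¬ Cfsg.Geo.specialLinear (Fin 3) F ≤ M) {a φ : Fin 3 → F}
    (h : HasTv M a φ) (ha : a ≠ 0) (hφ : φ ≠ 0) : False := by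
  haveI : Module.Finite F L := Module.Finite.of_finite
  let ψ : L →ₗ[F] F := (LinearMap.proj 0).comp e.toLinearMap
  have hψ : ψ ≠ 0 := fun h0 => by
    simpa [ψ] using LinearMap.congr_fun h0 (e.symm (Pi.single 0 1))
  have hinj : Function.Injective (fv e ψ) := by
    refine (injective_iff_map_eq_zero _).2 fun b hb => ?_
    by_contra hb0
    refine hψ (LinearMap.ext fun z => ?_)
    have := fv_dot e ψ b (b⁻¹ * z)
    rw [hb, zero_dotProduct, ← mul_assoc, mul_inv_cancel₀ hb0, one_mul] at this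
    exact this.symm
  have hsurj : Function.Surjective (fv e ψ) :=
    (LinearMap.injective_iff_surjective_of_finrank_eq_finrank (by
      rw [h3, Module.finrank_fin_fun])).1 hinj
  have H : IsTvRel ψ (fun x b => HasTv M (e x) (fv e ψ b)) := by
    refine ⟨fun x b h => ?_, fun x b b' h h' => ?_, fun x b h => ?_, fun x x' b h h' => ?_,
      fun x b h => ?_, fun x => ?_, fun b => ?_, fun c x b hc => ?_, fun x b y b' h h' h0 => ?_,
      fun x b y b' h h' => ?_, fun u x b hu h => ?_, fun x hx hall => hno ?_⟩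
    · rw [← fv_dot e ψ]; exact h.1
    · simpa using h.add h'
    · simpa using h.neg
    · simpa using h.add_left h'
    · rw [map_neg, ← neg_one_smul F, hasTv_smul_iff (by norm_num : (-1 : F) ≠ 0), neg_one_smul]
      exact h.neg
    · simpa using hasTv_zero (M := M) (e x)
    · simpa using hasTv_zero_left (M := M) (fv e ψ b)
    · rw [map_smul, map_smul, hasTv_smul_iff hc]
    · have := h.comm h' (by rw [fv_dot]; exact h0)
      rwa [fv_dot, ← map_smul] at this
    · have := h'.conj_tv h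
      rwa [fv_dot, fv_dot, ← map_smul, ← map_add, ← map_smul, ← map_sub] at this
    · obtain ⟨g, hg, hgv⟩ := hN u hu
      have h1 := h.conj hg
      rw [hgv] at h1
      convert h1 using 1
      refine dot_ext e fun y => ?_
      have hu0 : u ≠ 0 := fun e => by rw [e, Algebra.norm_zero] at hu; exact zero_ne_one hu
      have h2 : ((g⁻¹ : GL (Fin 3) F) : Matrix (Fin 3) (Fin 3) F) *ᵥ e y = e (u⁻¹ * y) := by
        rw [show e y = (g : Matrix (Fin 3) (Fin 3) F) *ᵥ e (u⁻¹ * y) by
          rw [hgv, mul_inv_cancel_left₀ hu0], inv_mulVec_mulVec]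
      rw [← dotProduct_mulVec, h2, fv_dot, fv_dot]
      congr 1; ring
    · obtain ⟨u, hu, huF⟩ := exists_norm_one h3 hψ
      obtain ⟨g, hg, hgv⟩ := hN u hu
      refine sl_le_of_three_centres (b := ![e x, e (u * x), e (u * (u * x))]) ?_ ?_
      · refine Fintype.linearIndependent_iff.2 fun k hk => ?_
        simp only [Fin.sum_univ_three, Matrix.cons_val_zero, Matrix.cons_val_one, Matrix.cons_val,
          ← map_smul, ← map_add] at hk
        have h5 : (k 0 • (1 : L) + k 1 • u + k 2 • u ^ 2) * x = 0 := by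
          rw [← e.map_eq_zero_iff.1 hk]
          simp only [Algebra.smul_def]; ring
        obtain ⟨i0, i1, i2⟩ := cubic_indep h3 huF ((mul_eq_zero.1 h5).resolve_right hx)
        intro i; fin_cases i
        exacts [i0, i1, i2]
      · have hfull : ∀ χ, χ ⬝ᵥ e x = 0 → HasTv M (e x) χ := fun χ hχ => by
          obtain ⟨b, rfl⟩ := hsurj χ
          exact hall b (by rwa [fv_dot] at hχ)
        have step : ∀ z, (∀ χ, χ ⬝ᵥ e z = 0 → HasTv M (e z) χ) →
            ∀ χ, χ ⬝ᵥ e (u * z) = 0 → HasTv M (e (u * z)) χ := by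
          intro z hz χ hχ
          rw [← hgv] at hχ ⊢
          have h1 := (hz (χ ᵥ* (g : Matrix (Fin 3) (Fin 3) F))
            (by rw [← dotProduct_mulVec]; exact hχ)).conj hg
          rwa [vecMul_vecMul, ← Units.val_mul, mul_inv_cancel, Units.val_one, vecMul_one] at h1
        intro i χ hχ
        fin_cases i
        exacts [hfull χ hχ, step x hfull χ hχ, step _ (step x hfull) χ hχ]
  obtain ⟨x0, rfl⟩ := e.surjective a
  obtain ⟨b0, rfl⟩ := hsurj φ
  exact no_tv h3 H hψ h4 (fun h' => ha (by rw [h', map_zero])) (fun h' => hφ (by rw [h', map_zero])) h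

/-- the axis of a homology in `M` is determined by its centre -/
theorem hm_axis (h3 : finrank F L = 3) {e : L ≃ₗ[F] (Fin 3 → F)} (hN : HasNorm e M)
    (hS : HasFrob e M) (hnotv : ∀ a φ, HasTv M a φ → a = 0 ∨ φ = 0) (h2 : (2 : F) ≠ 0) {w : L}
    {A : Fin 3 → F} (h : HasHm M (e w) A) :
    (3 : F) ≠ 0 ∧ ∀ y, A ⬝ᵥ e y = 2 / 3 * Algebra.trace F L (w⁻¹ * y) := by
  haveI : Module.Finite F L := Module.Finite.of_finite
  obtain ⟨σ, hσfix, g, hg, hgv⟩ := hS
  have hw : w ≠ 0 := fun e0 => h2 (by have := h.1; rw [e0, map_zero, dotProduct_zero] at this; exact this.symm)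
  have hσw : σ w ≠ 0 := fun e0 => hw (σ.injective (by rw [e0, map_zero]))
  obtain ⟨m, hm, hmv⟩ := hN (w / σ w) (by
    have h1 : Algebra.norm F (σ w) = Algebra.norm F w := Algebra.norm_eq_of_algEquiv σ w
    have h2 := map_mul (Algebra.norm F) (w / σ w) (σ w)
    rw [div_mul_cancel₀ _ hσw, h1] at h2
    exact (mul_eq_right₀ (Algebra.norm_ne_zero_iff.2 hw)).1 h2.symm)
  -- the Frobenius about `w`
  have hfix : ∀ y, ((m * g : GL (Fin 3) F) : Matrix (Fin 3) (Fin 3) F) *ᵥ e (w * y) = e (w * σ y) := by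
    intro y
    rw [Units.val_mul, ← mulVec_mulVec, hgv, hmv, map_mul σ w y, ← mul_assoc, div_mul_cancel₀ _ hσw]
  have h1 := h.conj (mul_mem hm hg)
  have hww := hfix 1
  rw [mul_one, map_one, mul_one] at hww
  rw [hww] at h1
  have heq : A ᵥ* (((m * g)⁻¹ : GL (Fin 3) F) : Matrix (Fin 3) (Fin 3) F) = A := by
    rcases hnotv _ _ (h.tv h1) with h' | h'
    · exact absurd (e.map_eq_zero_iff.1 h') hw
    · exact sub_eq_zero.1 h'
  let f : L →ₗ[F] F :=
    { toFun := fun y => A ⬝ᵥ e (w * y)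
      map_add' := fun y z => by rw [mul_add, map_add, dotProduct_add]
      map_smul' := fun c y => by rw [mul_smul_comm, map_smul, dotProduct_smul]; rfl }
  have hinv : ∀ y, f (σ y) = f y := by
    intro y
    show A ⬝ᵥ e (w * σ y) = A ⬝ᵥ e (w * y)
    rw [← hfix]
    conv_lhs => rw [← heq]
    rw [vecMul_inv_dotProduct, inv_mulVec_mulVec]
  let D : L →ₗ[F] L := σ.toLinearMap - LinearMap.id
  have hDT : LinearMap.range D ≤ LinearMap.ker (Algebra.trace F L) := by
    rintro _ ⟨y, rfl⟩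
    show Algebra.trace F L (σ y - y) = 0
    rw [map_sub, Algebra.trace_eq_of_algEquiv σ, sub_self]
  have hDf : LinearMap.range D ≤ LinearMap.ker f := by
    rintro _ ⟨y, rfl⟩
    show f (σ y - y) = 0
    rw [map_sub, hinv, sub_self]
  have hkerD : finrank F (LinearMap.ker D) ≤ 1 := by
    have hle : LinearMap.ker D ≤ Submodule.span F {(1 : L)} := fun y hy => by
      obtain ⟨c, hc⟩ := hσfix y (sub_eq_zero.1 hy)
      exact Submodule.mem_span_singleton.2 ⟨c, by rw [← hc, Algebra.algebraMap_eq_smul_one]⟩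
    have := Submodule.finrank_mono hle
    rwa [finrank_span_singleton one_ne_zero] at this
  have hTne : Algebra.trace F L ≠ 0 := Algebra.trace_ne_zero F L
  have hrange : LinearMap.range D = LinearMap.ker (Algebra.trace F L) := by
    refine Submodule.eq_of_le_of_finrank_le hDT ?_
    rw [finrank_ker_psi hTne h3]
    have := LinearMap.finrank_range_add_finrank_ker D
    omega
  obtain ⟨y1, hy1⟩ := LinearMap.surjective hTne 1
  have hf : ∀ y, f y = Algebra.trace F L y * f y1 := by
    intro y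
    have h0 : y - Algebra.trace F L y • y1 ∈ LinearMap.ker f := hDf (by
      rw [hrange, LinearMap.mem_ker, map_sub, map_smul, hy1, smul_eq_mul, mul_one, sub_self])
    rw [LinearMap.mem_ker, map_sub, map_smul, sub_eq_zero] at h0
    exact h0
  have hf1 : f 1 = 2 := by
    show A ⬝ᵥ e (w * 1) = 2
    rw [mul_one]; exact h.1
  have h31 : Algebra.trace F L 1 = 3 := by
    rw [← map_one (algebraMap F L), Algebra.trace_algebraMap, h3]; simp
  have hone : (3 : F) * f y1 = 2 := by rw [← h31, ← hf, hf1]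
  have h3' : (3 : F) ≠ 0 := fun e0 => h2 (by rw [← hone, e0, zero_mul])
  refine ⟨h3', fun y => ?_⟩
  have := hf (w⁻¹ * y)
  rw [show f (w⁻¹ * y) = A ⬝ᵥ e y by show A ⬝ᵥ e (w * (w⁻¹ * y)) = _; rw [mul_inv_cancel_left₀ hw]] at this
  rw [this]
  generalize Algebra.trace F L (w⁻¹ * y) = T
  field_simp
  linear_combination T * hone

/-- no homologies -/
theorem no_homology (h3 : finrank F L = 3) {e : L ≃ₗ[F] (Fin 3 → F)} (hN : HasNorm e M)
    (hS : HasFrob e M) (hnotv : ∀ a φ, HasTv M a φ → a = 0 ∨ φ = 0) (h2 : (2 : F) ≠ 0)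
    {c A : Fin 3 → F} (h : HasHm M c A) : False := by
  haveI : Module.Finite F L := Module.Finite.of_finite
  obtain ⟨x, rfl⟩ := e.surjective c
  have hx : x ≠ 0 := fun e0 => h2 (by have := h.1; rw [e0, map_zero, dotProduct_zero] at this; exact this.symm)
  -- move the centre to `1`
  let e' : L ≃ₗ[F] (Fin 3 → F) :=
    (LinearEquiv.ofBijective (LinearMap.mulLeft F x) ⟨mul_right_injective₀ hx, fun y => ⟨x⁻¹ * y, by
      simp [mul_inv_cancel_left₀ hx]⟩⟩).trans e
  have he' : ∀ y, e' y = e (x * y) := fun y => rfl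
  have hN' : HasNorm e' M := fun u hu => by
    obtain ⟨g, hg, hgv⟩ := hN u hu
    exact ⟨g, hg, fun y => by rw [he', hgv, he', mul_left_comm]⟩
  have hS' : HasFrob e' M := by
    obtain ⟨σ, hσfix, g, hg, hgv⟩ := hS
    have hσx : σ x ≠ 0 := fun e0 => hx (σ.injective (by rw [e0, map_zero]))
    obtain ⟨m, hm, hmv⟩ := hN (x / σ x) (by
      have h1 : Algebra.norm F (σ x) = Algebra.norm F x := Algebra.norm_eq_of_algEquiv σ x
      have h2 := map_mul (Algebra.norm F) (x / σ x) (σ x)
      rw [div_mul_cancel₀ _ hσx, h1] at h2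
      exact (mul_eq_right₀ (Algebra.norm_ne_zero_iff.2 hx)).1 h2.symm)
    refine ⟨σ, hσfix, m * g, mul_mem hm hg, fun y => ?_⟩
    rw [he', Units.val_mul, ← mulVec_mulVec, hgv, hmv, map_mul σ x y, ← mul_assoc, div_mul_cancel₀ _ hσx, he']
  have hh : HasHm M (e' 1) A := by rw [he', mul_one]; exact h
  clear h
  obtain ⟨h30, hax⟩ := hm_axis h3 hN' hS' hnotv h2 hh
  obtain ⟨-, t, ht, htv⟩ := hh
  let f : L → L := fun y => -y + (2 / 3 * Algebra.trace F L y) • (1 : L)
  have htf : ∀ y, (t : Matrix (Fin 3) (Fin 3) F) *ᵥ e' y = e' (f y) := fun y => by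
    rw [htv, homMat_mulVec, hax, inv_one, one_mul]
    simp only [f, map_add, map_neg, map_smul]
  have h31 : Algebra.trace F L 1 = 3 := by
    rw [← map_one (algebraMap F L), Algebra.trace_algebraMap, h3]; simp
  have hff : ∀ y, f (f y) = y := fun y => by
    simp only [f, map_add, map_neg, map_smul, smul_eq_mul, h31]
    rw [show (2 / 3 * (-(Algebra.trace F L) y + 2 / 3 * (Algebra.trace F L) y * 3)) =
      (2 / 3 * (Algebra.trace F L) y : F) by field_simp; ring]
    abel
  have hadj : ∀ y v, Algebra.trace F L (f y * v) = Algebra.trace F L (y * f v) := fun y v => by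
    simp only [f, add_mul, mul_add, neg_mul, mul_neg, smul_mul_assoc, mul_smul_comm, one_mul, mul_one,
      map_add, map_neg, map_smul, smul_eq_mul]
    ring
  -- the equation on norm-one elements
  have key : ∀ u : L, Algebra.norm F u = 1 → f u * f u⁻¹ = 1 := by
    intro u hu
    obtain ⟨g, hg, hgv⟩ := hN' u hu
    have hu0 : u ≠ 0 := fun e0 => by rw [e0, Algebra.norm_zero] at hu; exact zero_ne_one hu
    have hh' : HasHm M (e' 1) A := ⟨by rw [hax]; rw [inv_one, one_mul, h31]; field_simp, t, ht, htv⟩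
    have h1 := hh'.conj hg
    rw [hgv, mul_one] at h1
    obtain ⟨-, ha1⟩ := hm_axis h3 hN' hS' hnotv h2 h1
    have h5 := h1.conj ht
    rw [htf] at h5
    obtain ⟨-, ha5⟩ := hm_axis h3 hN' hS' hnotv h2 h5
    have hw0 : f u ≠ 0 := fun e0 => hu0 (by rw [← hff u, e0]; simp [f])
    have h6 : ∀ y, Algebra.trace F L (f u⁻¹ * y) = Algebra.trace F L ((f u)⁻¹ * y) := by
      intro y
      have e1 : ((t⁻¹ : GL (Fin 3) F) : Matrix (Fin 3) (Fin 3) F) *ᵥ e' y = e' (f y) := by
        rw [show e' y = (t : Matrix (Fin 3) (Fin 3) F) *ᵥ e' (f y) by rw [htf, hff], inv_mulVec_mulVec]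
      have h7 := ha5 y
      rw [vecMul_inv_dotProduct, e1, ha1] at h7
      rw [mul_comm (f u⁻¹) y, ← hadj, mul_comm (f y)]
      exact mul_left_cancel₀ (div_ne_zero h2 h30) h7
    by_contra hne
    refine Algebra.trace_ne_zero F L (LinearMap.ext fun z => ?_)
    have hd : f u⁻¹ - (f u)⁻¹ ≠ 0 := fun e0 => hne (by rw [sub_eq_zero.1 e0, mul_inv_cancel₀ hw0])
    have h7 := h6 ((f u⁻¹ - (f u)⁻¹)⁻¹ * z)
    rw [← sub_eq_zero, ← map_sub, ← sub_mul, ← mul_assoc, mul_inv_cancel₀ hd, one_mul] at h7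
    exact h7
  -- so they have trace zero
  have hzero : ∀ u : L, Algebra.norm F u = 1 → (∀ c : F, algebraMap F L c ≠ u) →
      Algebra.trace F L u = 0 := by
    intro u hu huF
    have hu0 : u ≠ 0 := fun e0 => by rw [e0, Algebra.norm_zero] at hu; exact zero_ne_one hu
    have h1 := key u hu
    obtain ⟨t1, ht1⟩ : ∃ t1, t1 = Algebra.trace F L u := ⟨_, rfl⟩
    obtain ⟨t2, ht2⟩ : ∃ t2, t2 = Algebra.trace F L u⁻¹ := ⟨_, rfl⟩
    simp only [f, ← ht1, ← ht2] at h1
    have h5 : t1 • (1 : L) + (-(2 / 3 * t1 * t2)) • u + t2 • u ^ 2 = 0 := by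
      simp only [Algebra.smul_def, map_mul, map_neg, mul_one] at h1 ⊢
      have hc : algebraMap F L (2 / 3) ≠ 0 := (map_ne_zero _).2 (div_ne_zero h2 h30)
      refine mul_left_cancel₀ hc ?_
      have h8 : u * u⁻¹ = 1 := mul_inv_cancel₀ hu0
      linear_combination (-u) * h1 + (u - algebraMap F L (2 / 3) * algebraMap F L t1) * h8
    rw [← ht1]
    exact (cubic_indep h3 huF h5).1
  have hcard : Nat.card (kap (F := F) (L := L) h3).ker ≤ Nat.card F + 2 := by
    classical
    have hTne : Algebra.trace F L ≠ 0 := Algebra.trace_ne_zero F L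
    rw [show Nat.card F + 2 = Nat.card (Option (S0 (Algebra.trace F L))) by
      rw [Finite.card_option, card_S0 hTne h3]]
    have hone : pt F (1 : L) = 1 := by
      rw [pt_of_ne one_ne_zero, Units.mk0_one, QuotientGroup.mk_one]
    have hmem : ∀ p : (kap (F := F) (L := L) h3).ker, p ≠ 1 → (p : Pt F L) ∈ S0 (Algebra.trace F L) := by
      intro p hp
      obtain ⟨z, hz, hzp⟩ := pt_surj (p : Pt F L)
      obtain ⟨c, u, hc, hu, rfl⟩ := kap_eq h3 one_ne_zero hz (by
        rw [hone, map_one, hzp]; exact (MonoidHom.mem_ker.1 p.2).symm)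
      rw [← hzp, mem_S0 _ hz, map_smul, mul_one, hzero u hu fun d hd => hp (Subtype.ext ?_), smul_zero]
      rw [← hzp, Subgroup.coe_one, ← hone]
      refine ((pt_eq_iff one_ne_zero hz).2 ⟨c * d, ?_⟩).symm
      rw [← hd, mul_one, mul_smul, Algebra.algebraMap_eq_smul_one]
    refine Nat.card_le_card_of_injective (fun p => if hp : p = 1 then none else some ⟨p.1, hmem p hp⟩) ?_
    intro p p' e0
    by_cases hp : p = 1 <;> by_cases hp' : p' = 1 <;> simp [hp, hp'] at e0 ⊢
    exact e0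
  have hTne : Algebra.trace F L ≠ 0 := Algebra.trace_ne_zero F L
  have hN0 := card_pt hTne h3
  have h1 := Subgroup.card_eq_card_quotient_mul_card_subgroup (kap (F := F) (L := L) h3).ker
  rw [Nat.card_congr (QuotientGroup.quotientKerEquivOfSurjective _ (kap_surj h3)).toEquiv, hN0, cls_card] at h1
  have hq : 1 < Nat.card F := Finite.one_lt_card
  have hq2 : Nat.card F ≠ 2 := fun h' => h2 (by
    have h'' : ((Nat.card F : ℕ) : F) = 0 := by
      haveI : Fintype F := Fintype.ofFinite F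
      rw [Nat.card_eq_fintype_card]; exact FiniteField.cast_card_eq_zero F
    rw [h'] at h''; exact_mod_cast h'')
  rcases eq_or_ne (Nat.card F) 3 with h' | h'
  · rw [h', show Nat.gcd (3 - 1) 3 = 1 from rfl] at h1
    omega
  · have hd : (Nat.card F - 1).gcd 3 ≤ 3 := Nat.le_of_dvd (by norm_num) (Nat.gcd_dvd_right _ _)
    have := Nat.mul_le_mul hd hcard
    have h4 : 4 ≤ Nat.card F := by omega
    nlinarith

end CfsgLib.MaxSub.SlThree.Singer
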