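import Mathlib

/-!
The arithmetic behind the maximality of the Singer normaliser in `SL₃(q)`.
-/

set_option autoImplicit false

namespace CfsgLib.MaxSub.SlThree.SingerArith

/-- `n ≥ 2` unless `q ∈ {4, 7}` -/
theorem two_le {q a b c : ℕ} (hsum : a + b + c = q + 1)
    (hsq : 3 * (a ^ 2 + b ^ 2 + c ^ 2) = q ^ 2 + 4 * q + 1) (h7 : 8 ≤ q) : 2 ≤ a := by
  by_contra h
  push Not at h
  have e1 : (a : ℤ) + b + c = q + 1 := by exact_mod_cast hsum
  have e2 : 3 * ((a : ℤ) ^ 2 + b ^ 2 + c ^ 2) = q ^ 2 + 4 * q + 1 := by exact_mod_cast hsq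
  have hq : (8 : ℤ) ≤ q := by exact_mod_cast h7
  have ha : (a : ℤ) ≤ 1 := by exact_mod_cast Nat.lt_succ_iff.1 h
  have h0 : (0 : ℤ) ≤ a := by positivity
  nlinarith [sq_nonneg ((b : ℤ) - c)]

/-- Cauchy-Schwarz for one of three intersection numbers -/
theorem bound {q : ℕ} {a b c : ℕ} (hsum : a + b + c = q + 1)
    (hsq : 3 * (a ^ 2 + b ^ 2 + c ^ 2) = q ^ 2 + 4 * q + 1) :
    (3 * (a : ℤ) - (q + 1)) ^ 2 ≤ 4 * q := by
  have e1 : (a : ℤ) + b + c = q + 1 := by exact_mod_cast hsum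
  have e2 : 3 * ((a : ℤ) ^ 2 + b ^ 2 + c ^ 2) = q ^ 2 + 4 * q + 1 := by exact_mod_cast hsq
  nlinarith [sq_nonneg ((b : ℤ) - c)]

theorem sixteen' : ∀ a b : Fin 18, (a : ℕ) + b ≤ 17 →
    3 * ((a : ℕ) ^ 2 + b ^ 2 + (17 - a - b : ℕ) ^ 2) = 321 → (a : ℕ) % 4 = 3 := by
  decide +kernel

theorem sixteen {a b c : ℕ} (hsum : a + b + c = 17)
    (hsq : 3 * (a ^ 2 + b ^ 2 + c ^ 2) = 321) : a % 4 = 3 :=
  sixteen' ⟨a, by omega⟩ ⟨b, by omega⟩ (by show a + b ≤ 17; omega)
    (by show 3 * (a ^ 2 + b ^ 2 + (17 - a - b) ^ 2) = 321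
        rw [show 17 - a - b = c by omega]; exact hsq)

/-- `q = 2A`, an intersection number equal to `A` -/
theorem half' : ∀ A : Fin 10, ∀ b : Fin 11, 4 ≤ (A : ℕ) → (b : ℕ) ≤ A + 1 →
    3 * ((A : ℕ) ^ 2 + b ^ 2 + (A + 1 - b : ℕ) ^ 2) ≠ (2 * A : ℕ) ^ 2 + 4 * (2 * A) + 1 := by
  decide +kernel

theorem half {A b d : ℕ} (h4 : 4 ≤ A) (h9 : A ≤ 9) (hsum : A + b + d = 2 * A + 1)
    (hsq : 3 * (A ^ 2 + b ^ 2 + d ^ 2) = (2 * A) ^ 2 + 4 * (2 * A) + 1) : False :=
  half' ⟨A, by omega⟩ ⟨b, by omega⟩ h4 (by show b ≤ A + 1; omega)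
    (by show 3 * (A ^ 2 + b ^ 2 + (A + 1 - b) ^ 2) = _
        rw [show A + 1 - b = d by omega]; exact hsq)

/-- no configuration of centres and axes: `n` are the intersection numbers, `A` the order of the group
of transvections at a centre, `c` the number of centres on a line which is not an axis -/
theorem contradiction {q A c : ℕ} {n : Fin 3 → ℕ} (h8 : 8 ≤ q) (h3 : ¬ 3 ∣ q)
    (hsum : n 0 + n 1 + n 2 = q + 1)
    (hsq : 3 * (n 0 ^ 2 + n 1 ^ 2 + n 2 ^ 2) = q ^ 2 + 4 * q + 1)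
    (hA : A ∣ q) {k : Fin 3} (hk : n k + 1 ≤ A) {k' : Fin 3} (hc : c = n k' ∨ c + n k' = q + 1)
    (hdvd : A ∣ c - 1) : False := by
  have perm : ∀ i : Fin 3, ∃ b d, n i + b + d = q + 1 ∧
      3 * (n i ^ 2 + b ^ 2 + d ^ 2) = q ^ 2 + 4 * q + 1 := by
    intro i
    fin_cases i
    · exact ⟨n 1, n 2, hsum, hsq⟩
    · exact ⟨n 0, n 2, by show n 1 + n 0 + n 2 = q + 1; omega,
        by show 3 * (n 1 ^ 2 + n 0 ^ 2 + n 2 ^ 2) = _; linarith⟩
    · exact ⟨n 0, n 1, by show n 2 + n 0 + n 1 = q + 1; omega,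
        by show 3 * (n 2 ^ 2 + n 0 ^ 2 + n 1 ^ 2) = _; linarith⟩
  have h2 : ∀ i, 2 ≤ n i := fun i => by
    obtain ⟨b, d, e1, e2⟩ := perm i
    exact two_le e1 e2 h8
  have hb : ∀ i, (3 * (n i : ℤ) - (q + 1)) ^ 2 ≤ 4 * q := fun i => by
    obtain ⟨b, d, e1, e2⟩ := perm i
    exact bound e1 e2
  have h16 : q = 16 → ∀ i, n i % 4 = 3 := fun e i => by
    subst e
    obtain ⟨b, d, e1, e2⟩ := perm i
    exact sixteen e1 e2
  obtain ⟨m, hm⟩ := hA
  have hm0 : m ≠ 0 := by rintro rfl; simp at hm; omega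
  have hA0 : 0 < A := by omega
  have hc2 : 2 ≤ c ∧ c ≤ q - 1 := by
    have := h2 k'
    rcases hc with h | h
    · have h' : n k' + 2 ≤ q + 1 := by
        obtain ⟨b, d, e1, e2⟩ := perm k'
        have := two_le (a := b) (b := n k') (c := d) (by omega) (by linarith) h8
        omega
      have h'' : n k' + 4 ≤ q + 1 := by
        obtain ⟨b, d, e1, e2⟩ := perm k'
        have := two_le (a := b) (b := n k') (c := d) (by omega) (by linarith) h8
        have := two_le (a := d) (b := n k') (c := b) (by omega) (by linarith) h8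
        omega
      omega
    · have h' : 4 ≤ c := by
        obtain ⟨b, d, e1, e2⟩ := perm k'
        have := two_le (a := b) (b := n k') (c := d) (by omega) (by linarith) h8
        have := two_le (a := d) (b := n k') (c := b) (by omega) (by linarith) h8
        omega
      omega
  obtain ⟨j, hj⟩ := hdvd
  have hj0 : j ≠ 0 := by rintro rfl; simp at hj; omega
  have hjm : j < m := by
    by_contra hle
    have : A * m ≤ A * j := Nat.mul_le_mul_left A (Nat.le_of_not_lt hle)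
    omega
  have hm4 : m ≤ 4 := by
    by_contra h5
    push Not at h5
    have e : 5 * A ≤ q := by rw [hm, mul_comm 5 A]; exact Nat.mul_le_mul_left A h5
    have e1 : 5 * (n k : ℤ) + 5 ≤ q := by exact_mod_cast (show 5 * n k + 5 ≤ q by omega)
    have h1 : 2 * (q : ℤ) + 20 ≤ 5 * ((q : ℤ) + 1 - 3 * n k) := by linarith
    have h2' : (2 * (q : ℤ) + 20) ^ 2 ≤ (5 * ((q : ℤ) + 1 - 3 * n k)) ^ 2 :=
      pow_le_pow_left₀ (by positivity) h1 2
    have h3' : (5 * ((q : ℤ) + 1 - 3 * n k)) ^ 2 ≤ 100 * q := by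
      have : (5 * ((q : ℤ) + 1 - 3 * n k)) ^ 2 = 25 * (3 * (n k : ℤ) - (q + 1)) ^ 2 := by ring
      linarith [hb k]
    nlinarith [sq_nonneg (2 * (q : ℤ) - 5)]
  have hm2 : 2 ≤ m := by omega
  interval_cases m
  · -- `A = q / 2`
    have hj1 : j = 1 := by omega
    subst hj1
    have e : (q : ℤ) = 2 * A := by exact_mod_cast (show q = 2 * A by omega)
    rcases hc with h | h
    · have e1 : (n k' : ℤ) = A + 1 := by exact_mod_cast (show n k' = A + 1 by omega)
      have := hb k'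
      rw [e1, e] at this
      nlinarith [sq_nonneg ((A : ℤ) - 2)]
    · have e1 : (n k' : ℤ) = A := by exact_mod_cast (show n k' = A by omega)
      have := hb k'
      rw [e1, e] at this
      have hA8 : A ≤ 9 := by
        by_contra h10
        push Not at h10
        have : (10 : ℤ) ≤ A := by exact_mod_cast h10
        nlinarith
      obtain ⟨b, d, e1', e2'⟩ := perm k'
      rw [show n k' = A by omega, show q = 2 * A by omega] at e1' e2'
      exact half (by omega) hA8 e1' e2'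
  · exact h3 ⟨A, by omega⟩
  · -- `A = q / 4`
    have e : (q : ℤ) = 4 * A := by exact_mod_cast (show q = 4 * A by omega)
    have e1 : (n k : ℤ) + 1 ≤ A := by exact_mod_cast hk
    have h1 : (A : ℤ) + 4 ≤ (q : ℤ) + 1 - 3 * n k := by linarith
    have h2' : ((A : ℤ) + 4) ^ 2 ≤ ((q : ℤ) + 1 - 3 * n k) ^ 2 :=
      pow_le_pow_left₀ (by positivity) h1 2
    have h3' : ((A : ℤ) + 4) ^ 2 ≤ 4 * q := by
      have : ((q : ℤ) + 1 - 3 * n k) ^ 2 = (3 * (n k : ℤ) - (q + 1)) ^ 2 := by ring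
      linarith [hb k]
    have h4' : ((A : ℤ) - 4) ^ 2 ≤ 0 := by
      rw [e] at h3'
      linear_combination h3'
    have hq16 : (A : ℤ) = 4 := by
      have h5 : ((A : ℤ) - 4) ^ 2 = 0 := le_antisymm h4' (sq_nonneg _)
      linarith [pow_eq_zero_iff (n := 2) (by norm_num) |>.1 h5]
    have hA4 : A = 4 := by exact_mod_cast hq16
    rw [hA4] at hj
    have := h16 (by omega) k'
    omega

end CfsgLib.MaxSub.SlThree.SingerArith
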