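import Cfsg.Agent.Lib.MaxSub.SlThree.SingerAct
import Cfsg.Agent.Lib.Aschbacher.PrimeCore
import Cfsg.Agent.Lib.MaxSub.ExtMatrix
import Cfsg.Agent.S0205

/-!
An overgroup in `SL₃(q)` of the Singer normaliser, not normalising the field, has an involution.
-/

set_option autoImplicit false
set_option linter.unusedSectionVars false

namespace CfsgLib.MaxSub.SlThree.Singer

open Matrix Module CfsgLib.MaxSub
open scoped MatrixGroups

/-- the automorphisms of an elementary abelian group of order nine -/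
theorem pow_aut_nine {V : Type*} [CommGroup V] (h9 : Nat.card V = 9) (h3 : ∀ v : V, v ^ 3 = 1)
    (a : MulAut V) : a ^ 48 = 1 := by
  haveI : Finite V := Nat.finite_of_card_ne_zero (by rw [h9]; norm_num)
  letI : Module (ZMod 3) (Additive V) := AddCommGroup.zmodModule fun v => h3 v.toMul
  haveI : Finite (Additive V) := inferInstanceAs (Finite V)
  haveI : Module.Finite (ZMod 3) (Additive V) := Module.Finite.of_finite (R := ZMod 3) (M := Additive V)
  haveI : Fact (Nat.Prime 3) := ⟨Nat.prime_three⟩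
  have hfr : Module.finrank (ZMod 3) (Additive V) = 2 := by
    have h := Module.natCard_eq_pow_finrank (K := ZMod 3) (V := Additive V)
    rw [Nat.card_zmod, show Nat.card (Additive V) = 3 ^ 2 from h9] at h
    exact (Nat.pow_right_injective (le_refl 2 |>.trans (by norm_num)) h).symm
  let b : Module.Basis (Fin 2) (ZMod 3) (Additive V) := Module.finBasisOfFinrankEq (ZMod 3) _ hfr
  let f0 : MulAut V →* Module.End (ZMod 3) (Additive V) :=
    { toFun := fun e => AddMonoidHom.toZModLinearMap 3 (MonoidHom.toAdditive e.toMonoidHom)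
      map_one' := LinearMap.ext fun _ => rfl
      map_mul' := fun _ _ => LinearMap.ext fun _ => rfl }
  let f : MulAut V →* GL (Fin 2) (ZMod 3) :=
    (Units.mapEquiv (LinearMap.toMatrixAlgEquiv b).toMulEquiv).toMonoidHom.comp f0.toHomUnits
  have hf : Function.Injective f := fun x y h => by
    have h1 := congrArg Units.val ((Units.mapEquiv (LinearMap.toMatrixAlgEquiv b).toMulEquiv).injective h)
    exact MulEquiv.ext fun v => congrArg Additive.toMul (LinearMap.congr_fun h1 (Additive.ofMul v))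
  refine hf ?_
  rw [map_pow, map_one]
  have h48 : Nat.card (GL (Fin 2) (ZMod 3)) = 48 := by
    rw [Matrix.card_GL_field]; simp
  rw [← h48, pow_card_eq_one']

variable {F L : Type*} [Field F] [Finite F] [Field L] [Algebra F L] [Finite L]

/-- a norm-one element whose 144th power is not a scalar -/
theorem exists_big (h3 : finrank F L = 3) :
    ∃ u : L, Algebra.norm F u = 1 ∧ ∀ c : F, algebraMap F L c ≠ u ^ 144 := by
  haveI : Module.Finite F L := Module.Finite.of_finite
  have hψ : Algebra.trace F L ≠ 0 := Algebra.trace_ne_zero F L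
  have hN := card_pt hψ h3
  set K := (kap (F := F) (L := L) h3).ker with hK
  have h1 := Subgroup.card_eq_card_quotient_mul_card_subgroup K
  rw [Nat.card_congr (QuotientGroup.quotientKerEquivOfSurjective _ (kap_surj h3)).toEquiv, hN] at h1
  have h2 : Nat.card (Cls F) ≤ 3 ∧ Nat.card (Cls F) ∣ Nat.card F - 1 := by
    rw [cls_card]; exact ⟨Nat.le_of_dvd (by norm_num) (Nat.gcd_dvd_right _ _), Nat.gcd_dvd_left _ _⟩
  haveI : IsCyclic (Pt F L) :=
    isCyclic_of_surjective (QuotientGroup.mk' (scal F L)) (QuotientGroup.mk'_surjective _)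
  obtain ⟨g, hg⟩ := IsCyclic.exists_ofOrder_eq_natCard (α := K)
  obtain ⟨z, hz, hzg⟩ := pt_surj (g : Pt F L)
  have hone : pt F (1 : L) = 1 := by
    rw [pt_of_ne one_ne_zero, Units.mk0_one, QuotientGroup.mk_one]
  obtain ⟨c, u, hc, hu, huz⟩ := kap_eq h3 one_ne_zero hz (by
    rw [hone, map_one, hzg]; exact (MonoidHom.mem_ker.1 g.2).symm)
  refine ⟨u, hu, fun d hd => ?_⟩
  have hu0 : u ≠ 0 := fun e => hz (by rw [huz, e, zero_mul, smul_zero])
  have hpt : ∀ n : ℕ, pt F (u ^ n) = pt F u ^ n := fun n => by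
    induction n with
    | zero => rw [pow_zero, pow_zero, hone]
    | succ n ih => rw [pow_succ, pow_succ, pt_mul (pow_ne_zero n hu0) hu0, ih]
  have hgu : (g : Pt F L) = pt F u := by
    rw [← hzg, huz, mul_one, pt_smul hu0 hc]
  have hdvd : Nat.card K ∣ 144 := by
    rw [← hg]
    refine orderOf_dvd_of_pow_eq_one (Subtype.ext ?_)
    rw [SubmonoidClass.coe_pow, hgu, ← hpt, Subgroup.coe_one, ← hone]
    refine ((pt_eq_iff one_ne_zero (pow_ne_zero _ hu0)).2 ⟨d, ?_⟩).symm
    rw [← hd, Algebra.algebraMap_eq_smul_one]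
  have hodd : Odd (Nat.card F ^ 2 + Nat.card F + 1) := by
    rw [sq, ← Nat.mul_succ]
    exact (Nat.even_mul_succ_self _).add_one
  have h9 : Nat.card K ∣ 9 := by
    have : Nat.Coprime (Nat.card K) 16 := by
      have hk : Odd (Nat.card K) := (Nat.odd_mul.1 (h1 ▸ hodd)).2
      exact Nat.Coprime.pow_right 4 (Nat.coprime_two_right.2 hk)
    exact this.dvd_of_dvd_mul_left (show Nat.card K ∣ 16 * 9 from hdvd)
  have hle := Nat.le_of_dvd (by norm_num) h9
  have hq : 1 < Nat.card F := Finite.one_lt_card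
  have h27 := Nat.mul_le_mul h2.1 hle
  have hq4 : Nat.card F ≤ 4 := by nlinarith
  obtain ⟨hc3, hcd⟩ := h2
  generalize Nat.card F = q at *
  generalize Nat.card K = k at *
  generalize Nat.card (Cls F) = d' at *
  have hk9 : k = 1 ∨ k = 3 ∨ k = 9 := by
    have : k ∈ Nat.divisors 9 := Nat.mem_divisors.2 ⟨h9, by norm_num⟩
    rw [show Nat.divisors 9 = {1, 3, 9} from by decide] at this
    simpa using this
  have hd1 : d' = 1 ∨ d' = 2 ∨ d' = 3 := by
    have : d' ≠ 0 := fun e => by rw [e] at h1; simp at h1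
    omega
  interval_cases q <;> rcases hk9 with rfl | rfl | rfl <;> rcases hd1 with rfl | rfl | rfl <;>
    omega

variable {M : Subgroup (GL (Fin 3) F)} {e : L ≃ₗ[F] (Fin 3 → F)}

theorem hasNorm_pow {u : L} {g : GL (Fin 3) F}
    (hg : ∀ y, (g : Matrix (Fin 3) (Fin 3) F) *ᵥ e y = e (u * y)) (n : ℕ) (y : L) :
    ((g ^ n : GL (Fin 3) F) : Matrix (Fin 3) (Fin 3) F) *ᵥ e y = e (u ^ n * y) := by
  induction n with
  | zero => rw [pow_zero, pow_zero, one_mul, Units.val_one, one_mulVec]
  | succ n ih => rw [pow_succ', Units.val_mul, ← mulVec_mulVec, ih, hg, pow_succ', mul_assoc]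

/-- the image of the field in the matrices -/
noncomputable def toMat (e : L ≃ₗ[F] (Fin 3 → F)) : L →ₐ[F] Matrix (Fin 3) (Fin 3) F :=
  (LinearMap.toMatrixAlgEquiv' (R := F) (n := Fin 3)).toAlgHom.comp
    ((LinearEquiv.conjAlgEquiv F e).toAlgHom.comp (Algebra.lmul F L))

theorem toMat_mulVec (e : L ≃ₗ[F] (Fin 3 → F)) (x y : L) : toMat e x *ᵥ e y = e (x * y) := by
  have h : Matrix.toLinAlgEquiv' (toMat e x) = LinearEquiv.conjAlgEquiv F e (Algebra.lmul F L x) :=
    (LinearMap.toMatrixAlgEquiv' (R := F) (n := Fin 3)).symm_apply_apply _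
  rw [← Matrix.toLinAlgEquiv'_apply, h]
  simp [LinearEquiv.conjAlgEquiv]

variable (h3 : finrank F L = 3) (hN : HasNorm e M)
include h3 hN

theorem irreducible : Cfsg.Geo.ActsIrreducibly (Cfsg.Geo.matrixSet M) := by
  intro W hW
  rcases eq_or_ne W ⊥ with h | h
  · exact .inl h
  refine .inr ?_
  obtain ⟨v, hv, hv0⟩ := W.exists_mem_ne_zero_of_ne_bot h
  obtain ⟨u, hu, huF⟩ := exists_norm_one h3 (Algebra.trace_ne_zero F L)
  obtain ⟨g, hg, hgv⟩ := hN u hu
  obtain ⟨x, rfl⟩ := e.surjective v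
  have hx : x ≠ 0 := fun e0 => hv0 (by rw [e0, map_zero])
  have hst : ∀ y, e y ∈ W → e (u * y) ∈ W := fun y hy => by
    rw [← hgv]; exact CfsgLib.AschPrime.mapsTo_iff_map_le.1 (hW _ ⟨g, hg, rfl⟩) _ hy
  rw [eq_top_iff]
  have hli : LinearIndependent F ![e x, e (u * x), e (u * (u * x))] := by
    refine Fintype.linearIndependent_iff.2 fun k hk => ?_
    simp only [Fin.sum_univ_three, Matrix.cons_val_zero, Matrix.cons_val_one, Matrix.cons_val,
      ← map_smul, ← map_add] at hk
    have h5 : (k 0 • (1 : L) + k 1 • u + k 2 • u ^ 2) * x = 0 := by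
      rw [← e.map_eq_zero_iff.1 hk]
      simp only [Algebra.smul_def]; ring
    obtain ⟨i0, i1, i2⟩ := cubic_indep h3 huF ((mul_eq_zero.1 h5).resolve_right hx)
    intro i; fin_cases i
    exacts [i0, i1, i2]
  rw [← hli.span_eq_top_of_card_eq_finrank' (by simp), Submodule.span_le]
  rintro _ ⟨i, rfl⟩
  fin_cases i
  exacts [hv, hst _ hv, hst _ (hst _ hv)]

/-- no decomposition into three lines is fixed -/
theorem not_le_decomposition {D : Fin 3 → Submodule F (Fin 3 → F)}
    (hD : Cfsg.Geo.IsMDecomposition 1 D) (hle : M ≤ Cfsg.Geo.decompositionStabilizer D) : False := by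
  obtain ⟨u, hu, hbig⟩ := exists_big (F := F) (L := L) h3
  obtain ⟨g, hg, hgv⟩ := hN u hu
  obtain ⟨π, hπ⟩ := hle hg
  have hiter : ∀ n : ℕ, ∀ i, ∀ v ∈ D i,
      ((g ^ n : GL (Fin 3) F) : Matrix (Fin 3) (Fin 3) F) *ᵥ v ∈ D ((π ^ n) i) := by
    intro n
    induction n with
    | zero => intro i v hv; simpa using hv
    | succ n ih =>
      intro i v hv
      rw [pow_succ' π, pow_succ' g, Units.val_mul, ← mulVec_mulVec, Equiv.Perm.mul_apply, ← hπ]
      exact Submodule.mem_map.2 ⟨_, ih i v hv, rfl⟩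
  have h6 : π ^ 144 = 1 := by
    have : Nat.card (Equiv.Perm (Fin 3)) = 6 := by simp [Nat.card_perm]; decide
    rw [show 144 = Nat.card (Equiv.Perm (Fin 3)) * 24 by rw [this], pow_mul, pow_card_eq_one', one_pow]
  obtain ⟨v, hv, hv0⟩ := (D 0).exists_mem_ne_zero_of_ne_bot fun e0 => by
    have := hD.finrank_eq 0; rw [e0, finrank_bot] at this; exact zero_ne_one this
  have hw := hiter 144 0 v hv
  rw [h6, Equiv.Perm.one_apply] at hw
  obtain ⟨c, hc⟩ := exists_smul_eq_of_finrank_eq_one (hD.finrank_eq 0)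
    (x := (⟨v, hv⟩ : D 0)) (fun e0 => hv0 (congrArg Subtype.val e0)) ⟨_, hw⟩
  replace hc : c • v = ((g ^ 144 : GL (Fin 3) F) : Matrix (Fin 3) (Fin 3) F) *ᵥ v := congrArg Subtype.val hc
  obtain ⟨y, rfl⟩ := e.surjective v
  rw [hasNorm_pow hgv, ← map_smul] at hc
  have hy : y ≠ 0 := fun e0 => hv0 (by rw [e0, map_zero])
  refine hbig c (mul_right_cancel₀ hy ?_)
  rw [← Algebra.smul_def]
  exact e.injective hc

/-- a normalised field of degree three is the given one -/
theorem field_eq {K : Subalgebra F (Matrix (Fin 3) (Fin 3) F)} (hK : Cfsg.Geo.IsFieldSubalgebra 3 K)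
    (hle : M ≤ Cfsg.Geo.subalgebraNormalizer K) : K = (toMat e).range := by
  haveI : Module.Finite F L := Module.Finite.of_finite
  obtain ⟨u, hu, hbig⟩ := exists_big (F := F) (L := L) h3
  obtain ⟨g, hg, hgv⟩ := hN u hu
  haveI : Fintype F := Fintype.ofFinite F
  letI : Field K := (isField_matField (by norm_num) K hK).toField
  haveI : Finite K := inferInstanceAs (Finite (K : Set (Matrix (Fin 3) (Fin 3) F)))
  haveI : Module.Finite F K := Module.Finite.of_finite
  let φ : K →ₐ[F] K :=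
    AlgHom.codRestrict ((AlgHom.comp (MulSemiringAction.toAlgHom F (Matrix (Fin 3) (Fin 3) F)
      (ConjAct.toConjAct g)) K.val)) K fun x => by
        show ConjAct.toConjAct g • (x : Matrix (Fin 3) (Fin 3) F) ∈ K
        rw [ConjAct.units_smul_def]
        exact (hle hg x).1 x.2
  have hφ : ∀ x : K, ((φ x : K) : Matrix (Fin 3) (Fin 3) F) =
      (g : Matrix (Fin 3) (Fin 3) F) * x * ((g⁻¹ : GL (Fin 3) F) : Matrix (Fin 3) (Fin 3) F) := fun x => rfl
  have hφinj : Function.Injective φ := fun x y h => by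
    have h1 := congrArg (fun z : K => ((g⁻¹ : GL (Fin 3) F) : Matrix (Fin 3) (Fin 3) F) * z.1 * (g : Matrix (Fin 3) (Fin 3) F)) h
    simp only [hφ] at h1
    simp only [← mul_assoc, ← Units.val_mul, inv_mul_cancel, Units.val_one, one_mul] at h1
    simp only [mul_assoc, ← Units.val_mul, inv_mul_cancel, Units.val_one, mul_one] at h1
    exact Subtype.ext h1
  let a : K ≃ₐ[F] K := AlgEquiv.ofBijective φ (Finite.injective_iff_bijective.1 hφinj)
  have ha : ∀ n : ℕ, ∀ x : K, ((a ^ n) x : Matrix (Fin 3) (Fin 3) F) =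
      ((g ^ n : GL (Fin 3) F) : Matrix (Fin 3) (Fin 3) F) * x *
        (((g ^ n)⁻¹ : GL (Fin 3) F) : Matrix (Fin 3) (Fin 3) F) := by
    intro n
    induction n with
    | zero => intro x; simp
    | succ n ih =>
      intro x
      rw [pow_succ', AlgEquiv.mul_apply, show a ((a ^ n) x) = φ ((a ^ n) x) from rfl, hφ, ih,
        pow_succ', _root_.mul_inv_rev, Units.val_mul, Units.val_mul]
      simp only [mul_assoc]
  have ha3 : a ^ 144 = 1 := by
    have h : Nat.card (K ≃ₐ[F] K) = 3 :=
      (IsGalois.card_aut_eq_finrank F K).trans hK.finrank_eq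
    rw [show 144 = Nat.card (K ≃ₐ[F] K) * 48 by rw [h], pow_mul, pow_card_eq_one', one_pow]
  have hcomm : ∀ x ∈ K, toMat e (u ^ 144) * x = x * toMat e (u ^ 144) := by
    intro x hx
    have h1 := ha 144 ⟨x, hx⟩
    rw [ha3, AlgEquiv.one_apply] at h1
    have h2 : ((g ^ 144 : GL (Fin 3) F) : Matrix (Fin 3) (Fin 3) F) = toMat e (u ^ 144) := by
      refine Matrix.ext_of_mulVec_single fun i => ?_
      obtain ⟨y, hy⟩ := e.surjective (Pi.single i 1)
      rw [← hy, hasNorm_pow hgv, toMat_mulVec]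
    conv_rhs => rw [show x = ((g ^ 144 : GL (Fin 3) F) : Matrix (Fin 3) (Fin 3) F) * x *
      (((g ^ 144)⁻¹ : GL (Fin 3) F) : Matrix (Fin 3) (Fin 3) F) from h1]
    rw [← h2, mul_assoc _ _ ((g ^ 144 : GL (Fin 3) F) : Matrix (Fin 3) (Fin 3) F), ← Units.val_mul,
      inv_mul_cancel, Units.val_one, mul_one]
  -- the commutant of a generator is the field
  have hle' : K ≤ (toMat e).range := by
    intro x hx
    obtain ⟨z, hz⟩ := e.surjective (x *ᵥ e 1)
    refine ⟨z, ?_⟩
    set w := u ^ 144 with hw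
    have hc := hcomm x hx
    have hwx : ∀ y, x *ᵥ e (w * y) = toMat e w *ᵥ (x *ᵥ e y) := fun y => by
      rw [← toMat_mulVec e w y, mulVec_mulVec, mulVec_mulVec, hc]
    have e0 : x *ᵥ e 1 = toMat e z *ᵥ e 1 := by rw [toMat_mulVec, mul_one, hz]
    have e1 : x *ᵥ e w = toMat e z *ᵥ e w := by
      rw [← mul_one w, hwx, ← hz, toMat_mulVec, toMat_mulVec, mul_one, mul_comm]
    have e2 : x *ᵥ e (w * w) = toMat e z *ᵥ e (w * w) := by
      rw [hwx, e1, toMat_mulVec, toMat_mulVec, toMat_mulVec]; congr 1; ring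
    have hli : LinearIndependent F ![e 1, e w, e (w * w)] := by
      refine Fintype.linearIndependent_iff.2 fun k hk => ?_
      simp only [Fin.sum_univ_three, Matrix.cons_val_zero, Matrix.cons_val_one, Matrix.cons_val,
        ← map_smul, ← map_add] at hk
      obtain ⟨i0, i1, i2⟩ := cubic_indep h3 (u := w) hbig (a := k 0) (b := k 1) (c := k 2)
        (by rw [sq]; exact e.map_eq_zero_iff.1 hk)
      intro i; fin_cases i
      exacts [i0, i1, i2]
    have hlin : Matrix.toLin' (toMat e z) = Matrix.toLin' x := by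
      refine LinearMap.ext_on (hli.span_eq_top_of_card_eq_finrank' (by simp)) ?_
      rintro _ ⟨i, rfl⟩
      fin_cases i
      exacts [e0.symm, e1.symm, e2.symm]
    exact Matrix.toLin'.injective hlin
  refine Subalgebra.eq_of_le_of_finrank_eq hle' ?_
  rw [hK.finrank_eq]
  have : finrank F (toMat e).range = finrank F L :=
    (LinearEquiv.ofInjective (toMat e).toLinearMap (by
      intro x y h
      have := congrArg (fun A : Matrix (Fin 3) (Fin 3) F => A *ᵥ e 1) h
      simp only [AlgHom.toLinearMap_apply, toMat_mulVec, mul_one] at this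
      exact e.injective this)).finrank_eq.symm
  rw [this, h3]

/-- no Heisenberg group is normalised -/
theorem not_heisenberg {R : Subgroup (GL (Fin 3) F)} (hR : CfsgLib.AschPrime.IsHeisenberg R)
    (hn : ∀ h ∈ M, ∀ x ∈ R, h * x * h⁻¹ ∈ R) : False := by
  obtain ⟨u, hu, hbig⟩ := exists_big (F := F) (L := L) h3
  obtain ⟨g, hg, hgv⟩ := hN u hu
  haveI : Finite (GL (Fin 3) F) := CfsgLib.AschPrime.finite_gl
  have hZ : ∀ z : R, z ∈ Subgroup.center R → (z : GL (Fin 3) F) ∈ Cfsg.Geo.scalars (Fin 3) F := fun z hz =>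
    CfsgLib.AschPrime.mem_scalars_of_commute_group hR.absIrred fun x hx =>
      congrArg Subtype.val ((Subgroup.mem_center_iff.1 hz ⟨x, hx⟩).symm)
  have h9 : Nat.card (R ⧸ Subgroup.center R) = 9 := by
    have h1 := Subgroup.card_eq_card_quotient_mul_card_subgroup (Subgroup.center R)
    rw [hR.card_eq, hR.card_center, Fintype.card_fin] at h1
    omega
  haveI : Fact (Nat.Prime 3) := ⟨Nat.prime_three⟩
  letI : CommGroup (R ⧸ Subgroup.center R) :=
    { (inferInstance : Group (R ⧸ Subgroup.center R)) with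
      mul_comm := (IsPGroup.isMulCommutative_of_card_eq_prime_sq (p := 3) (by rw [h9]; norm_num)).is_comm.comm }
  have hexp : ∀ v : R ⧸ Subgroup.center R, v ^ 3 = 1 := fun v => by
    obtain ⟨x, rfl⟩ := QuotientGroup.mk_surjective v
    have := Monoid.pow_exponent_eq_one x
    rw [hR.symplecticType.exponent_eq, Fintype.card_fin] at this
    norm_num at this
    rw [← QuotientGroup.mk_pow, this, QuotientGroup.mk_one]
  let a : MulAut R :=
    { toFun := fun x => ⟨g * x * g⁻¹, hn g hg x x.2⟩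
      invFun := fun x => ⟨g⁻¹ * x * g, by simpa using hn g⁻¹ (inv_mem hg) x x.2⟩
      left_inv := fun x => Subtype.ext (show g⁻¹ * (g * x * g⁻¹) * g = x by group)
      right_inv := fun x => Subtype.ext (show g * (g⁻¹ * x * g) * g⁻¹ = x by group)
      map_mul' := fun x y => Subtype.ext (show g * (x * y : R) * g⁻¹ = _ by
        rw [Subgroup.coe_mul]; show _ = g * x * g⁻¹ * (g * y * g⁻¹); group) }
  have ha : ∀ n : ℕ, ∀ x : R, ((a ^ n) x : GL (Fin 3) F) = g ^ n * x * (g ^ n)⁻¹ := by
    intro n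
    induction n with
    | zero => intro x; simp
    | succ n ih =>
      intro x
      rw [pow_succ', MulAut.mul_apply]
      show g * ((a ^ n) x : GL (Fin 3) F) * g⁻¹ = _
      rw [ih, pow_succ']; group
  have hcen : (Subgroup.center R).map a.toMonoidHom = Subgroup.center R :=
    Subgroup.characteristic_iff_map_eq.1 inferInstance a
  let b : MulAut (R ⧸ Subgroup.center R) := QuotientGroup.congr _ _ a hcen
  have hb : ∀ n : ℕ, ∀ x : R, (b ^ n) (x : R ⧸ Subgroup.center R) = ((a ^ n) x : R) := by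
    intro n
    induction n with
    | zero => intro x; simp
    | succ n ih =>
      intro x
      rw [pow_succ', MulAut.mul_apply, ih, pow_succ', MulAut.mul_apply]
      rfl
  have h48 : ∀ x : R, x⁻¹ * (a ^ 48) x ∈ Subgroup.center R := fun x => by
    rw [← QuotientGroup.eq, ← hb, pow_aut_nine h9 hexp b, MulAut.one_apply]
  have hzfix : ∀ (n : ℕ) (z : R), z ∈ Subgroup.center R → (a ^ n) z = z := fun n z hz => by
    refine Subtype.ext ?_
    rw [ha, mul_inv_eq_iff_eq_mul]
    exact (CfsgLib.AschPrime.scalars_comm (hZ z hz) _).symm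
  have hcomm : ∀ x ∈ R, g ^ 144 * x = x * g ^ 144 := by
    intro x hx
    obtain ⟨z, hz, he⟩ : ∃ z ∈ Subgroup.center R, (a ^ 48) ⟨x, hx⟩ = ⟨x, hx⟩ * z :=
      ⟨_, h48 ⟨x, hx⟩, (mul_inv_cancel_left _ _).symm⟩
    have hz3 : z ^ 3 = 1 := by
      have := Monoid.pow_exponent_eq_one z
      rw [hR.symplecticType.exponent_eq, Fintype.card_fin] at this
      norm_num at this
      exact this
    have h144 : (a ^ 144) ⟨x, hx⟩ = ⟨x, hx⟩ := by
      rw [show (144 : ℕ) = 48 + (48 + 48) by norm_num, pow_add, pow_add, MulAut.mul_apply, MulAut.mul_apply,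
        he, map_mul, he, hzfix 48 z hz, map_mul, map_mul, he, hzfix 48 z hz, mul_assoc, mul_assoc,
        show z * (z * z) = z ^ 3 by rw [pow_succ', sq], hz3, mul_one]
    have h' := congrArg Subtype.val h144
    rw [ha] at h'
    exact mul_inv_eq_iff_eq_mul.1 h'
  obtain ⟨c, hc⟩ := (Cfsg.Geo.mem_scalars_iff _).1
    (CfsgLib.AschPrime.mem_scalars_of_commute_group hR.absIrred hcomm)
  refine hbig c (e.injective ?_)
  have h' := hasNorm_pow hgv 144 1
  rw [hc, smul_mulVec, one_mulVec, mul_one, ← map_smul, ← Algebra.algebraMap_eq_smul_one] at h'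
  exact h'

end CfsgLib.MaxSub.SlThree.Singer
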