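import Mathlib

/-!
The projective plane of a cubic extension as a difference set in `Lˣ/Fˣ`.
-/

set_option autoImplicit false
set_option linter.unusedSectionVars false

namespace CfsgLib.MaxSub.SlThree.Singer

open Module

variable {F L : Type*} [Field F] [Field L] [Algebra F L] [Finite L]

/-- the scalars inside `Lˣ` -/
def scal (F L : Type*) [Field F] [Field L] [Algebra F L] : Subgroup Lˣ :=
  (Units.map (algebraMap F L : F →* L)).range

/-- the points of the plane -/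
abbrev Pt (F L : Type*) [Field F] [Field L] [Algebra F L] := Lˣ ⧸ scal F L

theorem mem_scal {u : Lˣ} : u ∈ scal F L ↔ ∃ c : F, algebraMap F L c = (u : L) := by
  constructor
  · rintro ⟨c, rfl⟩; exact ⟨(c : F), rfl⟩
  · rintro ⟨c, hc⟩
    have hc0 : c ≠ 0 := by rintro rfl; rw [map_zero] at hc; exact u.ne_zero hc.symm
    exact ⟨Units.mk0 c hc0, Units.ext hc⟩

/-- the point through a non-zero vector -/
noncomputable def pt (F : Type*) {L : Type*} [Field F] [Field L] [Algebra F L] (x : L) : Pt F L :=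
  haveI := Classical.dec (x = 0)
  if h : x = 0 then 1 else QuotientGroup.mk (Units.mk0 x h)

theorem pt_of_ne {x : L} (h : x ≠ 0) : pt F x = QuotientGroup.mk (Units.mk0 x h) := by
  rw [pt, dif_neg h]

theorem pt_mul {x y : L} (hx : x ≠ 0) (hy : y ≠ 0) : pt F (x * y) = pt F x * pt F y := by
  rw [pt_of_ne hx, pt_of_ne hy, pt_of_ne (mul_ne_zero hx hy), Units.mk0_mul, QuotientGroup.mk_mul]

theorem pt_inv {x : L} (hx : x ≠ 0) : pt F x⁻¹ = (pt F x)⁻¹ := by
  refine eq_inv_of_mul_eq_one_left ?_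
  rw [← pt_mul (inv_ne_zero hx) hx, inv_mul_cancel₀ hx, pt_of_ne one_ne_zero, Units.mk0_one,
    QuotientGroup.mk_one]

theorem pt_surj (p : Pt F L) : ∃ x : L, x ≠ 0 ∧ pt F x = p := by
  obtain ⟨u, rfl⟩ := QuotientGroup.mk_surjective p
  refine ⟨u, u.ne_zero, ?_⟩
  rw [pt_of_ne u.ne_zero, Units.mk0_val]

theorem pt_eq_iff {x y : L} (hx : x ≠ 0) (hy : y ≠ 0) :
    pt F x = pt F y ↔ ∃ c : F, c • x = y := by
  rw [pt_of_ne hx, pt_of_ne hy, QuotientGroup.eq, mem_scal]
  refine exists_congr fun c => ?_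
  simp only [Units.val_mul, Units.val_inv_eq_inv_val, Units.val_mk0, Algebra.smul_def]
  rw [eq_inv_mul_iff_mul_eq₀ hx, mul_comm]

theorem pt_smul {x : L} (hx : x ≠ 0) {c : F} (hc : c ≠ 0) : pt F (c • x) = pt F x :=
  ((pt_eq_iff hx (smul_ne_zero hc hx)).2 ⟨c, rfl⟩).symm

variable [Finite F]

theorem card_scal : Nat.card (scal F L) = Nat.card F - 1 := by
  have hinj : Function.Injective (Units.map (algebraMap F L : F →* L)) := fun a b h =>
    Units.ext ((algebraMap F L).injective (congrArg Units.val h))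
  rw [scal, ← Nat.card_congr (MonoidHom.ofInjective hinj).toEquiv, Nat.card_units]

theorem card_fibre (p : Pt F L) : Nat.card {u : Lˣ // (u : Pt F L) = p} = Nat.card F - 1 := by
  obtain ⟨u, rfl⟩ := QuotientGroup.mk_surjective p
  rw [← card_scal (F := F) (L := L)]
  refine Nat.card_congr ⟨fun v => ⟨u⁻¹ * v.1, QuotientGroup.eq.1 v.2.symm⟩,
    fun s => ⟨u * s.1, ?_⟩, fun v => ?_, fun s => ?_⟩
  · rw [eq_comm, QuotientGroup.eq]
    simp [s.2]
  · ext; simp
  · ext; simp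

variable (ψ : L →ₗ[F] F)

/-- incidence of a point with the line of a functional -/
def S0 : Set (Pt F L) := {p | ∃ x : L, x ≠ 0 ∧ pt F x = p ∧ ψ x = 0}

theorem mem_S0 {x : L} (hx : x ≠ 0) : pt F x ∈ S0 ψ ↔ ψ x = 0 := by
  refine ⟨fun ⟨y, hy, e, h0⟩ => ?_, fun h => ⟨x, hx, rfl, h⟩⟩
  obtain ⟨c, rfl⟩ := (pt_eq_iff hy hx).1 e
  rw [map_smul, h0, smul_zero]

variable {ψ} (hψ : ψ ≠ 0) (h3 : finrank F L = 3)
include hψ h3

theorem finrank_ker_psi : finrank F (LinearMap.ker ψ) = 2 := by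
  haveI : Module.Finite F L := Module.Finite.of_finite
  have h1 := LinearMap.finrank_range_add_finrank_ker ψ
  rw [LinearMap.range_eq_top.2 (LinearMap.surjective hψ), finrank_top, finrank_self, h3] at h1
  omega

/-- two independent vectors are killed by one line of functionals -/
theorem common {x y b b' : L} (hb : b ≠ 0) (hxy : ∀ c : F, c • x ≠ y) (hx0 : x ≠ 0)
    (h1 : ψ (b * x) = 0) (h2 : ψ (b * y) = 0) (h1' : ψ (b' * x) = 0) (h2' : ψ (b' * y) = 0) :
    ∃ c : F, c • b = b' := by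
  haveI : Module.Finite F L := Module.Finite.of_finite
  let Ψ : L →ₗ[F] F × F :=
    LinearMap.prod (ψ.comp (LinearMap.mulRight F x)) (ψ.comp (LinearMap.mulRight F y))
  have hsurj : LinearMap.range Ψ = ⊤ := by
    by_contra hne
    obtain ⟨f, hf0, hf⟩ := Submodule.exists_le_ker_of_lt_top _ (lt_top_iff_ne_top.2 hne)
    have hlin : ∀ a c : F, f (a, c) = a * f (1, 0) + c * f (0, 1) := fun a c => by
      rw [show ((a, c) : F × F) = a • ((1 : F), (0 : F)) + c • ((0 : F), (1 : F)) by simp, map_add,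
        map_smul, map_smul, smul_eq_mul, smul_eq_mul]
    set z : L := f (1, 0) • x + f (0, 1) • y with hz
    have hall : ∀ v, ψ (v * z) = 0 := fun v => by
      have h0 : f (Ψ v) = 0 := hf ⟨v, rfl⟩
      rw [show Ψ v = (ψ (v * x), ψ (v * y)) from rfl, hlin] at h0
      rw [hz, mul_add, mul_smul_comm, mul_smul_comm, map_add, map_smul, map_smul, smul_eq_mul,
        smul_eq_mul]
      linear_combination h0
    have hz0 : z = 0 := by
      by_contra hz0
      refine hψ (LinearMap.ext fun w => ?_)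
      have := hall (w * z⁻¹)
      rwa [mul_assoc, inv_mul_cancel₀ hz0, mul_one] at this
    by_cases hc : f (0, 1) = 0
    · rw [hz, hc, zero_smul, add_zero] at hz0
      refine hf0 (LinearMap.ext fun w => ?_)
      rw [show w = (w.1, w.2) from rfl, hlin, hc, (smul_eq_zero.1 hz0).resolve_right hx0]
      simp
    · refine hxy (-(f (1, 0) / f (0, 1))) ?_
      have : f (0, 1) • y = -(f (1, 0) • x) := eq_neg_of_add_eq_zero_right (hz.symm.trans hz0)
      rw [show y = (f (0, 1))⁻¹ • (f (0, 1) • y) by rw [smul_smul, inv_mul_cancel₀ hc, one_smul],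
        this, smul_neg, smul_smul, neg_smul, div_eq_inv_mul]
  have hker : finrank F (LinearMap.ker Ψ) = 1 := by
    have h4 := LinearMap.finrank_range_add_finrank_ker Ψ
    rw [hsurj, finrank_top, finrank_prod, finrank_self, h3] at h4
    omega
  have hbK : b ∈ LinearMap.ker Ψ := by
    rw [LinearMap.mem_ker]; exact Prod.ext h1 h2
  have hb'K : b' ∈ LinearMap.ker Ψ := by
    rw [LinearMap.mem_ker]; exact Prod.ext h1' h2'
  obtain ⟨c, hc⟩ := exists_smul_eq_of_finrank_eq_one hker (x := (⟨b, hbK⟩ : LinearMap.ker Ψ))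
    (fun e => hb (congrArg Subtype.val e)) ⟨b', hb'K⟩
  exact ⟨c, congrArg Subtype.val hc⟩

/-- a line has `q + 1` points -/
theorem card_S0 : Nat.card (S0 ψ) = Nat.card F + 1 := by
  classical
  haveI : Fintype L := Fintype.ofFinite L
  haveI : Fintype F := Fintype.ofFinite F
  haveI : Module.Finite F L := Module.Finite.of_finite
  have hK : Nat.card (LinearMap.ker ψ) = Nat.card F ^ 2 := by
    rw [Module.natCard_eq_pow_finrank (K := F), finrank_ker_psi hψ h3]
  have h1 : Nat.card {u : Lˣ // ψ (u : L) = 0} + 1 = Nat.card F ^ 2 := by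
    rw [← hK, ← Finite.card_option]
    refine Nat.card_congr ⟨fun o => o.elim 0 fun u => ⟨u.1, u.2⟩,
      fun v => if h : (v : L) = 0 then none else some ⟨Units.mk0 v h, v.2⟩, fun o => ?_, fun v => ?_⟩
    · cases o with
      | none => simp
      | some u => simp
    · by_cases h : (v : L) = 0
      · simp [h]; exact (Subtype.ext h).symm
      · simp [h]
  let f : {u : Lˣ // ψ (u : L) = 0} → S0 ψ := fun u =>
    ⟨(u.1 : Pt F L), ⟨u.1, u.1.ne_zero, by rw [pt_of_ne u.1.ne_zero, Units.mk0_val], u.2⟩⟩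
  have hfib : ∀ p : S0 ψ, Nat.card {u // f u = p} = Nat.card F - 1 := by
    intro p
    rw [← card_fibre p.1]
    refine Nat.card_congr ⟨fun u => ⟨u.1.1, congrArg Subtype.val u.2⟩,
      fun u => ⟨⟨u.1, ?_⟩, Subtype.ext u.2⟩, fun u => rfl, fun u => rfl⟩
    rw [← mem_S0 ψ u.1.ne_zero, pt_of_ne u.1.ne_zero, Units.mk0_val, u.2]
    exact p.2
  have h2 : Nat.card {u : Lˣ // ψ (u : L) = 0} = Nat.card (S0 ψ) * (Nat.card F - 1) := by
    rw [← Nat.card_congr (Equiv.sigmaFiberEquiv f), Nat.card_sigma]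
    haveI : Fintype (S0 ψ) := Fintype.ofFinite _
    simp only [hfib, Finset.sum_const, smul_eq_mul, Finset.card_univ, ← Nat.card_eq_fintype_card]
  have hq : 1 < Nat.card F := Finite.one_lt_card
  rw [h2] at h1
  obtain ⟨r, hr⟩ : ∃ r, Nat.card F = r + 1 := ⟨Nat.card F - 1, by omega⟩
  rw [hr] at h1 ⊢
  rw [Nat.add_sub_cancel] at h1
  have : Nat.card (S0 ψ) * r = (r + 2) * r := by linarith [show (r + 1) ^ 2 = (r + 2) * r + 1 by ring]
  exact (Nat.eq_of_mul_eq_mul_right (by omega) this)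

theorem card_pt : Nat.card (Pt F L) = Nat.card F ^ 2 + Nat.card F + 1 := by
  haveI : Module.Finite F L := Module.Finite.of_finite
  have h1 := Subgroup.card_eq_card_quotient_mul_card_subgroup (scal F L)
  have h2 : Nat.card Lˣ = Nat.card F ^ 3 - 1 := by
    rw [Nat.card_units, Module.natCard_eq_pow_finrank (K := F) (V := L), h3]
  rw [h2, card_scal] at h1
  have hq : 1 < Nat.card F := Finite.one_lt_card
  obtain ⟨r, hr⟩ : ∃ r, Nat.card F = r + 1 := ⟨Nat.card F - 1, by omega⟩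
  rw [hr] at h1 ⊢
  simp at h1
  have e : (r + 1) ^ 3 = (r ^ 2 + 3 * r + 3) * r + 1 := by ring
  rw [e] at h1
  simp at h1
  rcases h1 with h1 | h1
  · rw [show Nat.card (Pt F L) = Nat.card (Lˣ ⧸ scal F L) from rfl, ← h1]; ring
  · omega

/-- the difference set property -/
theorem unique_rep {g : Pt F L} (hg : g ≠ 1) :
    ∃! s : Pt F L, s ∈ S0 ψ ∧ s * g ∈ S0 ψ := by
  haveI : Module.Finite F L := Module.Finite.of_finite
  obtain ⟨c, hc0, rfl⟩ := pt_surj g
  let Ψ : L →ₗ[F] F × F := LinearMap.prod ψ (ψ.comp (LinearMap.mulRight F c))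
  obtain ⟨x, hxK, hx0⟩ := (LinearMap.ker Ψ).exists_mem_ne_zero_of_ne_bot fun e => by
    have h4 := LinearMap.finrank_range_add_finrank_ker Ψ
    rw [e, finrank_bot, h3] at h4
    have := Submodule.finrank_le (LinearMap.range Ψ)
    rw [finrank_prod, finrank_self] at this
    omega
  rw [LinearMap.mem_ker] at hxK
  have e1 : ψ x = 0 := congrArg Prod.fst hxK
  have e2 : ψ (x * c) = 0 := congrArg Prod.snd hxK
  refine ⟨pt F x, ⟨(mem_S0 ψ hx0).2 e1, ?_⟩, ?_⟩
  · rw [← pt_mul hx0 hc0]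
    exact (mem_S0 ψ (mul_ne_zero hx0 hc0)).2 e2
  · rintro s ⟨hs1, hs2⟩
    obtain ⟨y, hy0, rfl⟩ := pt_surj s
    rw [mem_S0 ψ hy0] at hs1
    rw [← pt_mul hy0 hc0, mem_S0 ψ (mul_ne_zero hy0 hc0)] at hs2
    by_contra hne
    -- otherwise `1` and `c` kill the same line
    have hxy : ∀ t : F, t • x ≠ y := fun t e => hne ((pt_eq_iff hx0 hy0).2 ⟨t, e⟩).symm
    obtain ⟨t, ht⟩ := common hψ h3 (b := 1) (b' := c) one_ne_zero hxy hx0 (by rwa [one_mul])
      (by rwa [one_mul]) (by rwa [mul_comm]) (by rwa [mul_comm])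
    refine hg ?_
    rw [← (pt_eq_iff one_ne_zero hc0).2 ⟨t, ht⟩, pt_of_ne one_ne_zero, Units.mk0_one,
      QuotientGroup.mk_one]

/-- the squares of the intersection numbers of a line with the cosets of a subgroup -/
theorem sum_sq {Q : Type*} [CommGroup Q] [Fintype Q] [DecidableEq Q] (κ : Pt F L →* Q) :
    (∑ k, Nat.card {s : Pt F L // s ∈ S0 ψ ∧ κ s = k} ^ 2) + 1 =
      Nat.card F + 1 + Nat.card κ.ker := by
  classical
  haveI : Fintype (Pt F L) := Fintype.ofFinite _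
  have h1 : ∑ k, Nat.card {s : Pt F L // s ∈ S0 ψ ∧ κ s = k} ^ 2 =
      Nat.card {z : Pt F L × κ.ker // z.1 ∈ S0 ψ ∧ z.1 * (z.2 : Pt F L) ∈ S0 ψ} := by
    simp only [sq, ← Nat.card_prod]
    rw [← Nat.card_sigma]
    refine Nat.card_congr ⟨fun z => ⟨(z.2.1.1, ⟨(z.2.1.1)⁻¹ * z.2.2.1, ?_⟩), z.2.1.2.1, ?_⟩,
      fun z => ⟨κ z.1.1, ⟨z.1.1, z.2.1, rfl⟩, ⟨z.1.1 * z.1.2.1, z.2.2, ?_⟩⟩, fun z => ?_, fun z => ?_⟩
    · rw [MonoidHom.mem_ker, map_mul, map_inv, z.2.1.2.2, z.2.2.2.2, inv_mul_cancel]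
    · simp [z.2.2.2.1]
    · rw [map_mul, z.1.2.2, mul_one]
    · obtain ⟨k, ⟨s, hs, hsk⟩, ⟨t, ht, htk⟩⟩ := z
      subst hsk
      simp
    · ext <;> simp
  have h2 : ∀ g : κ.ker, Nat.card {s : Pt F L // s ∈ S0 ψ ∧ s * (g : Pt F L) ∈ S0 ψ} =
      if g = 1 then Nat.card F + 1 else 1 := by
    intro g
    split_ifs with h
    · subst h
      rw [← card_S0 hψ h3]
      exact Nat.card_congr (Equiv.subtypeEquivRight fun s => by simp)
    · obtain ⟨s, hs, hu⟩ := unique_rep hψ h3 (g := (g : Pt F L)) (fun e => h (Subtype.ext e))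
      rw [Nat.card_eq_one_iff_exists]
      exact ⟨⟨s, hs⟩, fun y => Subtype.ext (hu _ y.2)⟩
  have h3' : Nat.card {z : Pt F L × κ.ker // z.1 ∈ S0 ψ ∧ z.1 * (z.2 : Pt F L) ∈ S0 ψ} =
      ∑ g : κ.ker, (if g = 1 then Nat.card F + 1 else 1) := by
    simp only [← h2]
    rw [← Nat.card_sigma]
    exact Nat.card_congr ⟨fun z => ⟨z.1.2, z.1.1, z.2⟩, fun z => ⟨(z.2.1, z.1), z.2.2⟩,
      fun z => rfl, fun z => rfl⟩
  rw [h1, h3', Nat.card_eq_fintype_card (α := κ.ker), ← Finset.add_sum_erase _ _ (Finset.mem_univ 1),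
    if_pos rfl, Finset.sum_congr rfl (g := fun _ => 1) (fun g hg => if_neg (Finset.ne_of_mem_erase hg)),
    Finset.sum_const, smul_eq_mul, mul_one, Finset.card_erase_of_mem (Finset.mem_univ _), Finset.card_univ]
  have := Fintype.card_pos (α := κ.ker)
  omega

theorem sum_card {Q : Type*} [CommGroup Q] [Fintype Q] (κ : Pt F L →* Q) :
    ∑ k, Nat.card {s : Pt F L // s ∈ S0 ψ ∧ κ s = k} = Nat.card F + 1 := by
  rw [← card_S0 hψ h3, ← Nat.card_sigma]
  exact Nat.card_congr ⟨fun z => ⟨z.2.1, z.2.2.1⟩, fun s => ⟨κ s.1, s.1, s.2, rfl⟩,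
    fun z => by obtain ⟨k, s, hs, rfl⟩ := z; rfl, fun s => rfl⟩

end CfsgLib.MaxSub.SlThree.Singer
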