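import Cfsg.Agent.Lib.MaxSub.SlThree.SingerPlane
import Cfsg.Agent.Lib.MaxSub.SlThree.SingerArith

/-!
Incidence relations of transvections invariant under the Singer group do not exist.
-/

set_option autoImplicit false
set_option linter.unusedSectionVars false

namespace CfsgLib.MaxSub.SlThree.Singer

open Module

variable {F L : Type*} [Field F] [Field L] [Algebra F L]

/-- the properties of the relation "`M` contains the transvection with centre `x` and axis `b`" -/
structure IsTvRel (ψ : L →ₗ[F] F) (R : L → L → Prop) : Prop where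
  inc : ∀ x b, R x b → ψ (b * x) = 0
  add_right : ∀ x b b', R x b → R x b' → R x (b + b')
  neg_right : ∀ x b, R x b → R x (-b)
  add_left : ∀ x x' b, R x b → R x' b → R (x + x') b
  neg_left : ∀ x b, R x b → R (-x) b
  zero_right : ∀ x, R x 0
  zero_left : ∀ b, R 0 b
  smul : ∀ (c : F) x b, c ≠ 0 → (R (c • x) b ↔ R x (c • b))
  comm : ∀ x b y b', R x b → R y b' → ψ (b * y) = 0 → R y (ψ (b' * x) • b)
  conj : ∀ x b y b', R x b → R y b' → R (y + ψ (b * y) • x) (b' - ψ (b' * x) • b)
  trans : ∀ u x b, Algebra.norm F u = 1 → R x b → R (u * x) (u⁻¹ * b)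
  not_full : ∀ x, x ≠ 0 → ¬ ∀ b, ψ (b * x) = 0 → R x b

/-- an additive group in a space in which every direction meeting it meets it in `ell` elements -/
theorem count_union [Finite F] [Finite L] (Γ : AddSubgroup L) (dirs : Set (Pt F L))
    (hdir : ∀ v ∈ Γ, v ≠ 0 → pt F v ∈ dirs) (ell : ℕ)
    (hell : ∀ p ∈ dirs, ∀ v, v ≠ 0 → pt F v = p → Nat.card {t : F // t • v ∈ Γ} = ell) :
    Nat.card Γ = Nat.card dirs * (ell - 1) + 1 := by
  classical
  haveI : Fintype dirs := Fintype.ofFinite _
  haveI : Fintype F := Fintype.ofFinite F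
  haveI : Fintype L := Fintype.ofFinite L
  let G' := {v : Γ // v ≠ 0}
  let f : G' → dirs := fun v => ⟨pt F (v.1 : L), hdir _ v.1.2 fun e => v.2 (Subtype.ext e)⟩
  have hfib : ∀ p : dirs, Nat.card {v // f v = p} = ell - 1 := by
    intro p
    obtain ⟨w, hw0, hwp⟩ := pt_surj p.1
    rw [← hell p.1 p.2 w hw0 hwp]
    have h0 : (0 : F) • w ∈ Γ := by rw [zero_smul]; exact zero_mem Γ
    have e : Nat.card {t : F // t • w ∈ Γ} = Nat.card {v // f v = p} + 1 := by
      rw [← Finite.card_option]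
      symm
      have hne : ∀ t : {t : F // t • w ∈ Γ}, t.1 ≠ 0 → (⟨t.1 • w, t.2⟩ : Γ) ≠ 0 := fun t ht e =>
        smul_ne_zero ht hw0 (congrArg Subtype.val e)
      refine (Nat.card_congr (Equiv.ofBijective
        (fun t => if ht : t.1 = 0 then none else some ⟨⟨⟨t.1 • w, t.2⟩, hne t ht⟩,
          Subtype.ext ((pt_smul hw0 ht).trans hwp)⟩) ⟨?_, ?_⟩)).symm
      · intro s t hst
        by_cases hs : s.1 = 0 <;> by_cases ht : t.1 = 0 <;> simp [hs, ht] at hst
        · exact Subtype.ext (hs.trans ht.symm)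
        · exact Subtype.ext (smul_left_injective F hw0
            (congrArg (fun z : Γ => (z : L)) (congrArg Subtype.val hst)))
      · rintro (_ | ⟨⟨⟨v, hv⟩, hv0⟩, hvp⟩)
        · exact ⟨⟨0, h0⟩, by simp⟩
        · have hv0' : v ≠ 0 := fun e => hv0 (Subtype.ext e)
          obtain ⟨c, hc⟩ := (pt_eq_iff hw0 hv0').1 (hwp.trans (congrArg Subtype.val hvp).symm)
          have hc0 : c ≠ 0 := fun e => hv0' (by rw [← hc, e, zero_smul])
          refine ⟨⟨c, by rwa [hc]⟩, ?_⟩
          simp [hc0, hc]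
    rw [e, Nat.add_sub_cancel]
  have h1 : Nat.card Γ = Nat.card G' + 1 := by
    rw [← Finite.card_option]
    exact (Nat.card_congr (Equiv.optionSubtypeNe (0 : Γ))).symm
  rw [h1, ← Nat.card_congr (Equiv.sigmaFiberEquiv f), Nat.card_sigma]
  simp only [hfib, Finset.sum_const, smul_eq_mul, Finset.card_univ, ← Nat.card_eq_fintype_card]

variable {ψ : L →ₗ[F] F} {R : L → L → Prop}

/-- the axes at `x` -/
def axGroup (H : IsTvRel ψ R) (x : L) : AddSubgroup L where
  carrier := {b | R x b}
  add_mem' := fun h h' => H.add_right _ _ _ h h'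
  zero_mem' := H.zero_right x
  neg_mem' := fun h => H.neg_right _ _ h

/-- the centres at `b` -/
def cenGroup (H : IsTvRel ψ R) (b : L) : AddSubgroup L where
  carrier := {x | R x b}
  add_mem' := fun h h' => H.add_left _ _ _ h h'
  zero_mem' := H.zero_left b
  neg_mem' := fun h => H.neg_left _ _ h

/-- being a centre -/
def IsCen (R : L → L → Prop) (x : L) : Prop := ∃ b, b ≠ 0 ∧ R x b

/-- being an axis -/
def IsAx (R : L → L → Prop) (b : L) : Prop := ∃ x, x ≠ 0 ∧ R x b

theorem isCen_smul (H : IsTvRel ψ R) {x : L} {c : F} (hc : c ≠ 0) : IsCen R (c • x) ↔ IsCen R x := by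
  constructor
  · rintro ⟨b, hb, h⟩
    exact ⟨c • b, smul_ne_zero hc hb, (H.smul c x b hc).1 h⟩
  · rintro ⟨b, hb, h⟩
    refine ⟨c⁻¹ • b, smul_ne_zero (inv_ne_zero hc) hb, (H.smul c x _ hc).2 ?_⟩
    rwa [smul_smul, mul_inv_cancel₀ hc, one_smul]

theorem isAx_smul (H : IsTvRel ψ R) {b : L} {c : F} (hc : c ≠ 0) : IsAx R (c • b) ↔ IsAx R b := by
  constructor
  · rintro ⟨x, hx, h⟩
    exact ⟨c • x, smul_ne_zero hc hx, (H.smul c x b hc).2 h⟩
  · rintro ⟨x, hx, h⟩
    refine ⟨c⁻¹ • x, smul_ne_zero (inv_ne_zero hc) hx, (H.smul c⁻¹ x _ (inv_ne_zero hc)).2 ?_⟩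
    rwa [smul_smul, inv_mul_cancel₀ hc, one_smul]

/-- the number of elements of the root subgroup -/
noncomputable def rk (F : Type*) {L : Type*} [Field F] [Field L] [Algebra F L] (R : L → L → Prop)
    (x b : L) : ℕ := Nat.card {t : F // R x (t • b)}

theorem exists_ker_mul [Finite L] (hψ : ψ ≠ 0) (h3 : finrank F L = 3) (x : L) :
    2 ≤ finrank F (LinearMap.ker (ψ.comp (LinearMap.mulRight F x))) := by
  haveI : Module.Finite F L := Module.Finite.of_finite
  have h1 := LinearMap.finrank_range_add_finrank_ker (ψ.comp (LinearMap.mulRight F x))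
  have h2 := Submodule.finrank_le (LinearMap.range (ψ.comp (LinearMap.mulRight F x)))
  rw [finrank_self] at h2
  omega

section plane

variable [Finite L] (H : IsTvRel ψ R) (hψ : ψ ≠ 0) (h3 : finrank F L = 3)
include H hψ h3

/-- two lines through a point, or two points on a line, span everything incident -/
theorem span_two {x b b' : L} (hx : x ≠ 0) (hb : b ≠ 0) (hne : ∀ c : F, c • b ≠ b')
    (h : ψ (b * x) = 0) (h' : ψ (b' * x) = 0) {v : L} (hv : ψ (v * x) = 0) :
    ∃ s t : F, s • b + t • b' = v := by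
  haveI : Module.Finite F L := Module.Finite.of_finite
  let K := LinearMap.ker (ψ.comp (LinearMap.mulRight F x))
  have hmem : ∀ z, z ∈ K ↔ ψ (z * x) = 0 := fun z => LinearMap.mem_ker
  have hK : finrank F K = 2 := by
    have h1 := LinearMap.finrank_range_add_finrank_ker (ψ.comp (LinearMap.mulRight F x))
    have : LinearMap.range (ψ.comp (LinearMap.mulRight F x)) = ⊤ := by
      refine LinearMap.range_eq_top.2 (LinearMap.surjective fun e => hψ (LinearMap.ext fun w => ?_))
      have := LinearMap.congr_fun e (w * x⁻¹)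
      simpa [mul_assoc, inv_mul_cancel₀ hx] using this
    rw [this, finrank_top, finrank_self, h3] at h1
    show finrank F (LinearMap.ker (ψ.comp (LinearMap.mulRight F x))) = 2
    omega
  have hli : LinearIndependent F ![(⟨b, (hmem b).2 h⟩ : K), ⟨b', (hmem b').2 h'⟩] := by
    refine (LinearIndependent.pair_iff' ?_).2 fun c e => hne c (congrArg Subtype.val e)
    exact fun e => hb (congrArg Subtype.val e)
  have hsp := hli.span_eq_top_of_card_eq_finrank' (by simp [hK])
  have hmv : (⟨v, (hmem v).2 hv⟩ : K) ∈ Submodule.span F (Set.range ![(⟨b, (hmem b).2 h⟩ : K), ⟨b', (hmem b').2 h'⟩]) := by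
    rw [hsp]; trivial
  rw [Matrix.range_cons, Matrix.range_cons, Matrix.range_empty, Set.union_empty,
    Set.singleton_union, Submodule.mem_span_pair] at hmv
  obtain ⟨s, t, e⟩ := hmv
  exact ⟨s, t, congrArg Subtype.val e⟩

/-- two full root groups at one centre are too much -/
theorem not_two_full {x b b' : L} (hx : x ≠ 0) (hb : b ≠ 0) (hne : ∀ c : F, c • b ≠ b')
    (h : ∀ t : F, R x (t • b)) (h' : ∀ t : F, R x (t • b')) : False := by
  refine H.not_full x hx fun v hv => ?_
  have i1 := H.inc _ _ (h 1)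
  have i2 := H.inc _ _ (h' 1)
  rw [one_smul] at i1 i2
  obtain ⟨s, t, rfl⟩ := span_two H hψ h3 hx hb hne i1 i2 hv
  exact H.add_right _ _ _ (h s) (h' t)

variable [Finite F]

/-- every axis through a centre is one of its axes -/
theorem axis_all {x b : L} (hx : x ≠ 0) (hb : b ≠ 0) (hcx : IsCen R x) (hab : IsAx R b)
    (hinc : ψ (b * x) = 0) : ∃ c : F, c ≠ 0 ∧ R x (c • b) := by
  obtain ⟨b0, hb0, h0⟩ := hcx
  obtain ⟨y, hy, hyb⟩ := hab
  by_cases h1 : ψ (b0 * y) = 0
  · by_cases hxy : ∃ c : F, c • y = x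
    · obtain ⟨c, rfl⟩ := hxy
      have hc : c ≠ 0 := fun e => hx (by rw [e, zero_smul])
      refine ⟨c⁻¹, inv_ne_zero hc, (H.smul c y _ hc).2 ?_⟩
      rwa [smul_smul, mul_inv_cancel₀ hc, one_smul]
    · push Not at hxy
      obtain ⟨c, hc⟩ := common hψ h3 hb0 hxy hy h1 (H.inc _ _ h0) (H.inc _ _ hyb) hinc
      have hc0 : c ≠ 0 := fun e => hb (by rw [← hc, e, zero_smul])
      refine ⟨c⁻¹, inv_ne_zero hc0, ?_⟩
      rwa [← hc, smul_smul, inv_mul_cancel₀ hc0, one_smul]
  · exact ⟨ψ (b0 * y), h1, H.comm y b x b0 hyb h0 hinc⟩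

theorem rk_smul_right {x b : L} {c : F} (hc : c ≠ 0) : rk F R x (c • b) = rk F R x b := by
  refine Nat.card_congr (Equiv.subtypeEquiv (Equiv.mulRight₀ c hc) fun t => ?_)
  rw [Equiv.mulRight₀_apply, smul_smul]

theorem rk_smul_left {x b : L} {c : F} (hc : c ≠ 0) : rk F R (c • x) b = rk F R x b := by
  refine Nat.card_congr (Equiv.subtypeEquiv (Equiv.mulLeft₀ c hc) fun t => ?_)
  rw [Equiv.mulLeft₀_apply, H.smul c x _ hc, smul_smul]

/-- root groups at two centres on one axis -/
theorem rk_le_centre {x y b b2 : L} (hy : ψ (b * y) = 0) (hb2 : R y b2) (hne : ψ (b2 * x) ≠ 0) :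
    rk F R x b ≤ rk F R y b := by
  refine Nat.card_le_card_of_injective (fun t => ⟨ψ (b2 * x) * t.1, ?_⟩) fun s t e => ?_
  · rw [mul_smul]
    exact H.comm x _ y b2 t.2 hb2 (by rw [smul_mul_assoc, map_smul, hy, smul_zero])
  · exact Subtype.ext (mul_left_cancel₀ hne (congrArg Subtype.val e))

/-- root groups at two axes through one centre -/
theorem rk_le_axis {x y b b' : L} (hyb : R y b') (hxb' : ψ (b' * x) = 0) (hne : ψ (b * y) ≠ 0) :
    rk F R x b ≤ rk F R x b' := by
  refine Nat.card_le_card_of_injective (fun t => ⟨ψ (b * y) * t.1, ?_⟩) fun s t e => ?_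
  · have := H.comm y b' x _ hyb t.2 hxb'
    rwa [smul_mul_assoc, map_smul, smul_eq_mul, mul_comm] at this
  · exact Subtype.ext (mul_left_cancel₀ hne (congrArg Subtype.val e))

theorem rk_dvd {x b : L} : rk F R x b ∣ Nat.card F := by
  let S : AddSubgroup F :=
    { carrier := {t | R x (t • b)}
      add_mem' := fun {s t} hs ht => by show R x ((s + t) • b); rw [add_smul]; exact H.add_right _ _ _ hs ht
      zero_mem' := by show R x ((0 : F) • b); rw [zero_smul]; exact H.zero_right x
      neg_mem' := fun {s} hs => by show R x ((-s) • b); rw [neg_smul]; exact H.neg_right _ _ hs }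
  exact AddSubgroup.card_addSubgroup_dvd_card S

theorem two_le_rk {x b : L} {c : F} (hc : c ≠ 0) (h : R x (c • b)) : 2 ≤ rk F R x b := by
  have : Nontrivial {t : F // R x (t • b)} :=
    ⟨⟨c, h⟩, ⟨0, by rw [zero_smul]; exact H.zero_right x⟩, fun e => hc (congrArg Subtype.val e)⟩
  exact Finite.one_lt_card

theorem full_of_rk {x b : L} (h : rk F R x b = Nat.card F) (t : F) : R x (t • b) := by
  by_contra ht
  haveI : Fintype F := Fintype.ofFinite F
  classical
  have h1 : rk F R x b < Nat.card F := by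
    rw [rk, Nat.card_eq_fintype_card, Nat.card_eq_fintype_card]
    exact Fintype.card_subtype_lt ht
  omega

end plane

end CfsgLib.MaxSub.SlThree.Singer
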