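import Cfsg.Agent.Lib.MaxSub.SlThree.SubBase
import Mathlib.LinearAlgebra.CrossProduct

/-!
The subfield groups are maximal in `SL₃`.
-/

set_option autoImplicit false
set_option linter.unusedSectionVars false

namespace CfsgLib.MaxSub.SlThree.Sub

open Matrix CfsgLib.MaxSub
open scoped MatrixGroups

section pairs

variable {K : Type*} [Field K]

theorem cross_pairs {u y : Fin 3 → K} (h : crossProduct u y = 0) (i j : Fin 3) :
    u i * y j = u j * y i := by
  have h0 := congrFun h 0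
  have h1 := congrFun h 1
  have h2 := congrFun h 2
  simp [crossProduct] at h0 h1 h2
  fin_cases i <;> fin_cases j <;> simp
  all_goals first | linear_combination h0 | linear_combination -h0 | linear_combination h1 |
    linear_combination -h1 | linear_combination h2 | linear_combination -h2

/-- a matrix killing two independent vectors has rank one -/
theorem rank_one_of_kills {N : Matrix (Fin 3) (Fin 3) K} {u y : Fin 3 → K} (hu : N *ᵥ u = 0)
    (hy : N *ᵥ y = 0) (hw : crossProduct u y ≠ 0) :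
    ∃ b, N = vecMulVec b (crossProduct u y) := by
  obtain ⟨k, hk⟩ := Function.ne_iff.mp hw
  refine ⟨fun i => N i k / crossProduct u y k, Matrix.ext fun i j => ?_⟩
  have h1 : N i ⬝ᵥ u = 0 := congrFun hu i
  have h2 : N i ⬝ᵥ y = 0 := congrFun hy i
  have h3 : crossProduct (N i) (crossProduct u y) = 0 := by
    rw [dot_three] at h1 h2
    ext l; fin_cases l <;> simp [crossProduct]
    · linear_combination u 0 * h2 - y 0 * h1
    · linear_combination u 1 * h2 - y 1 * h1
    · linear_combination u 2 * h2 - y 2 * h1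
  rw [vecMulVec_apply, div_mul_eq_mul_div, eq_div_iff (by exact hk)]
  exact cross_pairs h3 j k

/-- products of two involutions with non-zero trace have odd order -/
theorem odd_order [Finite K] (h2 : (2 : K) = 0) {w : SL(2, K)}
    (hw : (w : Matrix (Fin 2) (Fin 2) K) 0 0 + (w : Matrix (Fin 2) (Fin 2) K) 1 1 ≠ 0) :
    Odd (orderOf w) := by
  rw [← Nat.not_even_iff_odd]
  rintro ⟨j, hj⟩
  have hpos : 0 < orderOf w := orderOf_pos w
  have hz : (w ^ j) * (w ^ j) = 1 := by rw [← pow_add, ← hj, pow_orderOf_eq_one]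
  have hne : w ^ j ≠ 1 := pow_ne_one_of_lt_orderOf (by omega) (by omega)
  have hc : w * w ^ j = w ^ j * w := (Commute.self_pow w j).eq
  obtain ⟨z, hzdef⟩ : ∃ z, z = w ^ j := ⟨_, rfl⟩
  rw [← hzdef] at hz hne hc
  have hzinv : z⁻¹ = z := inv_eq_of_mul_eq_one_right hz
  have e00 := congrArg (fun g : SL(2, K) => (g : Matrix (Fin 2) (Fin 2) K) 0 0) hzinv
  simp [Matrix.SpecialLinearGroup.coe_inv, Matrix.adjugate_fin_two] at e00
  have hdet : (z : Matrix (Fin 2) (Fin 2) K).det = 1 := z.2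
  rw [Matrix.det_fin_two] at hdet
  have c01 := congrArg (fun g : SL(2, K) => (g : Matrix (Fin 2) (Fin 2) K) 0 1) hc
  have c10 := congrArg (fun g : SL(2, K) => (g : Matrix (Fin 2) (Fin 2) K) 1 0) hc
  simp [Matrix.mul_apply, Fin.sum_univ_two] at c01 c10
  have hb : (z : Matrix (Fin 2) (Fin 2) K) 0 1 = 0 := by
    refine (mul_eq_zero.1 ?_).resolve_left hw
    linear_combination c01 - (w : Matrix (Fin 2) (Fin 2) K) 0 1 * e00 + (z : Matrix (Fin 2) (Fin 2) K) 0 1 * (w : Matrix (Fin 2) (Fin 2) K) 1 1 * h2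
  have hc' : (z : Matrix (Fin 2) (Fin 2) K) 1 0 = 0 := by
    refine (mul_eq_zero.1 ?_).resolve_left hw
    linear_combination c10 + (w : Matrix (Fin 2) (Fin 2) K) 1 0 * e00 + (z : Matrix (Fin 2) (Fin 2) K) 1 0 * (w : Matrix (Fin 2) (Fin 2) K) 0 0 * h2
  rw [hb, hc', e00] at hdet
  have ha : (z : Matrix (Fin 2) (Fin 2) K) 0 0 = 1 := by
    have : ((z : Matrix (Fin 2) (Fin 2) K) 0 0 - 1) * ((z : Matrix (Fin 2) (Fin 2) K) 0 0 - 1) = 0 := by
      linear_combination hdet + (1 - (z : Matrix (Fin 2) (Fin 2) K) 0 0) * h2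
    exact sub_eq_zero.1 (mul_self_eq_zero.1 this)
  refine hne (Subtype.ext (Matrix.ext fun i j => ?_))
  fin_cases i <;> fin_cases j <;> simp [hb, hc', ha]
  rw [e00]; exact ha

/-- two involutions with product of odd order are conjugate -/
theorem exists_conj_of_odd {G : Type*} [Group G] {u v : G} (hu : u * u = 1) (hv : v * v = 1)
    (h : Odd (orderOf (u * v))) : ∃ k : ℕ, (u * v) ^ k * u = v * (u * v) ^ k := by
  obtain ⟨k, hk⟩ := h
  refine ⟨k, ?_⟩
  have hinv : u * (u * v) * u = (u * v)⁻¹ := by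
    rw [_root_.mul_inv_rev, inv_eq_of_mul_eq_one_right hu, inv_eq_of_mul_eq_one_right hv, ← mul_assoc, hu, one_mul]
  have h1 : u * (u * v) ^ k * u = ((u * v) ^ k)⁻¹ := by
    rw [← inv_pow, ← hinv]
    have := conj_pow (a := u) (b := u * v) (i := k)
    rw [inv_eq_of_mul_eq_one_right hu] at this
    exact this.symm
  have h2 : ((u * v) ^ k)⁻¹ = (u * v) ^ k * (u * v) := by
    refine inv_eq_of_mul_eq_one_right ?_
    rw [← mul_assoc, ← pow_add, ← pow_succ, show k + k + 1 = orderOf (u * v) by omega,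
      pow_orderOf_eq_one]
  calc (u * v) ^ k * u = u * (u * (u * v) ^ k * u) := by
        rw [← mul_assoc, ← mul_assoc, hu, one_mul]
    _ = u * ((u * v) ^ k * (u * v)) := by rw [h1, h2]
    _ = v * (u * v) ^ k := by
        rw [← pow_succ, pow_succ', ← mul_assoc, ← mul_assoc, hu, one_mul]

end pairs

variable {F : Type*} [Field F] [Fintype F]

section general

variable {n : ℕ} {F₀ : Subfield F} {r : ℕ} {M : Subgroup (GL (Fin n) F)} (C : Ctx F₀ r M)
include C

/-- the invariant of a conjugate of a rational transvection against a rational transvection is rational -/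
theorem pair_rat (hr2 : r ≠ 2) (h2 : (2 : F) ≠ 0) {a φ y χ : Fin n → F} (h : HasTv M a φ)
    (hy : RatVec F₀ y) (hχ : RatVec F₀ χ) (hχy : χ ⬝ᵥ y = 0) : (φ ⬝ᵥ y) * (χ ⬝ᵥ a) ∈ F₀ := by
  classical
  by_contra hl
  obtain ⟨μ, hμd⟩ : ∃ μ, μ = (φ ⬝ᵥ y) * (χ ⬝ᵥ a) := ⟨_, rfl⟩
  rw [← hμd] at hl
  have hμ0 : μ ≠ 0 := fun e => hl (by rw [e]; exact zero_mem _)
  have hφy : φ ⬝ᵥ y ≠ 0 := fun e => hμ0 (by rw [hμd, e, zero_mul])
  have hχa : χ ⬝ᵥ a ≠ 0 := fun e => hμ0 (by rw [hμd, e, mul_zero])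
  obtain ⟨A, hA⟩ : ∃ A, A = (χ ⬝ᵥ a)⁻¹ • a := ⟨_, rfl⟩
  have hχA : χ ⬝ᵥ A = 1 := by rw [hA, dotProduct_smul, smul_eq_mul, inv_mul_cancel₀ hχa]
  have hφA : φ ⬝ᵥ A = 0 := by rw [hA, dotProduct_smul, h.1, smul_zero]
  obtain ⟨L, hL⟩ : ∃ L, L = Subfield.closure ({μ} : Set F) := ⟨_, rfl⟩
  have hμL : μ ∈ L := hL ▸ Subfield.subset_closure rfl
  obtain ⟨Rep, hRep⟩ : ∃ Rep : Matrix.SpecialLinearGroup (Fin 2) L → GL (Fin n) F → Prop, Rep = fun (X : Matrix.SpecialLinearGroup (Fin 2) L) (m : GL (Fin n) F) =>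
      (m : Matrix (Fin n) (Fin n) F) *ᵥ A = ((X.1 0 0 : L) : F) • A + ((X.1 1 0 : L) : F) • y ∧
      (m : Matrix (Fin n) (Fin n) F) *ᵥ y = ((X.1 0 1 : L) : F) • A + ((X.1 1 1 : L) : F) • y ∧
      ∀ z, χ ⬝ᵥ z = 0 → φ ⬝ᵥ z = 0 → (m : Matrix (Fin n) (Fin n) F) *ᵥ z = z := ⟨_, rfl⟩
  let S : Submonoid SL(2, L) :=
    { carrier := {X | ∃ m ∈ M, Rep X m}
      one_mem' := ⟨1, one_mem M, by rw [hRep]; simp⟩
      mul_mem' := by
        rintro X X' ⟨m, hm, h⟩ ⟨m', hm', h'⟩
        rw [hRep] at h h'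
        obtain ⟨h1, h2', h3⟩ := h
        obtain ⟨h1', h2'', h3'⟩ := h'
        refine ⟨m * m', mul_mem hm hm', ?_⟩
        rw [hRep]
        refine ⟨?_, ?_, fun z hz1 hz2 => by
          rw [Units.val_mul, ← mulVec_mulVec, h3' z hz1 hz2, h3 z hz1 hz2]⟩
        · rw [Units.val_mul, ← mulVec_mulVec, h1', mulVec_add, mulVec_smul, mulVec_smul, h1, h2']
          simp only [Matrix.SpecialLinearGroup.coe_mul, Matrix.mul_apply, Fin.sum_univ_two]
          push_cast
          module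
        · rw [Units.val_mul, ← mulVec_mulVec, h2'', mulVec_add, mulVec_smul, mulVec_smul, h1, h2']
          simp only [Matrix.SpecialLinearGroup.coe_mul, Matrix.mul_apply, Fin.sum_univ_two]
          push_cast
          module }
  have hsub : {g : SL(2, L) | (g : Matrix (Fin 2) (Fin 2) L) = !![1, 0; 1, 1] ∨
      (g : Matrix (Fin 2) (Fin 2) L) = !![1, ⟨μ, hμL⟩; 0, 1]} ⊆ S := by
    rintro X (hX | hX)
    · refine ⟨tvGL y χ hχy, (hasTv_iff hχy).1 (rat_tv C hy hχ hχy), ?_⟩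
      rw [hRep]
      refine ⟨?_, ?_, fun z hz1 _ => by rw [coe_tvGL, tvMat_mulVec, hz1, zero_smul, add_zero]⟩
      · rw [coe_tvGL, tvMat_mulVec, hχA, hX]; simp
      · rw [coe_tvGL, tvMat_mulVec, hχy, hX]; simp
    · refine ⟨tvGL a φ h.1, (hasTv_iff h.1).1 h, ?_⟩
      rw [hRep]
      refine ⟨?_, ?_, fun z _ hz2 => by rw [coe_tvGL, tvMat_mulVec, hz2, zero_smul, add_zero]⟩
      · rw [coe_tvGL, tvMat_mulVec, hφA, hX]; simp
      · rw [coe_tvGL, tvMat_mulVec, hX]
        simp only [Matrix.of_apply, Matrix.cons_val', Matrix.cons_val_zero, Matrix.cons_val_one,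
          Matrix.empty_val', Matrix.cons_val_fin_one, OneMemClass.coe_one, one_smul]
        rw [hA, smul_smul, hμd, mul_assoc, mul_inv_cancel₀ hχa, mul_one, add_comm]
  have h2L : (2 : L) ≠ 0 := fun e => h2 (by simpa [map_ofNat] using congrArg L.subtype e)
  letI := Fintype.ofFinite L
  have hgen : Subfield.closure ({(⟨μ, hμL⟩ : L)} : Set L) = ⊤ := by
    refine eq_top_iff.2 fun z _ => ?_
    have hle : L ≤ (Subfield.closure ({(⟨μ, hμL⟩ : L)} : Set L)).map L.subtype := by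
      conv_lhs => rw [hL]
      rw [Subfield.closure_le, Set.singleton_subset_iff]
      exact ⟨⟨μ, hμL⟩, Subfield.subset_closure rfl, rfl⟩
    obtain ⟨w', hw', e⟩ := hle z.2
    rwa [← Subtype.ext e]
  rcases Cfsg.Agent.S0801.result (F := L) h2L ⟨μ, hμL⟩
    (fun e => hμ0 (congrArg Subtype.val e)) hgen with ⟨htop, -⟩ | ⟨-, hsq, -⟩
  · have hmem : ∀ X : SL(2, L), X ∈ S := fun X => by
      have hX : X ∈ Subgroup.closure {g : SL(2, L) | (g : Matrix (Fin 2) (Fin 2) L) = !![1, 0; 1, 1] ∨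
          (g : Matrix (Fin 2) (Fin 2) L) = !![1, ⟨μ, hμL⟩; 0, 1]} := by rw [htop]; exact Subgroup.mem_top X
      rw [← Subgroup.mem_toSubmonoid, Subgroup.closure_toSubmonoid_of_finite] at hX
      exact Submonoid.closure_le.2 hsub hX
    obtain ⟨X, hX⟩ : ∃ X : SL(2, L), X = ⟨!![1, 0; ⟨μ, hμL⟩, 1], by simp [Matrix.det_fin_two_of]⟩ := ⟨_, rfl⟩
    obtain ⟨m, hm, hmr⟩ := hmem X
    rw [hRep, hX] at hmr
    obtain ⟨h1, h2', h3⟩ := hmr
    simp at h1 h2'
    have h0 : (μ • χ) ⬝ᵥ y = 0 := by rw [smul_dotProduct, hχy, smul_zero]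
    have hmat : (m : Matrix (Fin n) (Fin n) F) = tvMat y (μ • χ) := by
      refine Matrix.ext_of_mulVec_single fun i => ?_
      generalize (Pi.single i 1 : Fin n → F) = v
      obtain ⟨z, hz⟩ : ∃ z, z = v - (χ ⬝ᵥ v) • A - ((φ ⬝ᵥ v) / (φ ⬝ᵥ y)) • y := ⟨_, rfl⟩
      have e : v = z + (χ ⬝ᵥ v) • A + ((φ ⬝ᵥ v) / (φ ⬝ᵥ y)) • y := by rw [hz]; abel
      have hz1 : χ ⬝ᵥ z = 0 := by
        rw [hz, dotProduct_sub, dotProduct_sub, dotProduct_smul, dotProduct_smul, hχA, hχy]; simp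
      have hz2 : φ ⬝ᵥ z = 0 := by
        rw [hz, dotProduct_sub, dotProduct_sub, dotProduct_smul, dotProduct_smul, hφA]
        simp [div_mul_cancel₀ _ hφy]
      conv_lhs => rw [e, mulVec_add, mulVec_add, mulVec_smul, mulVec_smul, h1, h2', h3 z hz1 hz2]
      rw [tvMat_mulVec, smul_dotProduct, smul_eq_mul]
      conv_rhs => arg 1; rw [e]
      module
    have hy0 : y ≠ 0 := fun e => hφy (by rw [e, dotProduct_zero])
    have hT : HasTv M y (μ • χ) :=
      (hasTv_iff h0).2 (by rwa [show tvGL y (μ • χ) h0 = m from Units.ext (by rw [coe_tvGL, hmat])])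
    obtain ⟨k, hk⟩ : ∃ k, χ k ≠ 0 := by
      by_contra hno
      push Not at hno
      exact hχa (by rw [show χ = 0 from funext hno, zero_dotProduct])
    have h5 := mul_mem (win C hy hy0 hT k) (inv_mem (hχ k))
    rw [Pi.smul_apply, smul_eq_mul, mul_assoc, mul_inv_cancel₀ hk, mul_one] at h5
    exact hl h5
  · refine hl (sq_mem C (Or.inl hr2) ?_)
    have : μ * μ = -1 := by simpa [sq] using congrArg Subtype.val hsq
    rw [this]
    exact neg_mem (one_mem _)

/-- A transvection with rational functional has rational centre. -/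
theorem win_dual {a χ : Fin n → F} (hχ : RatVec F₀ χ) (hχ0 : χ ≠ 0) (h : HasTv M a χ) :
    RatVec F₀ a := by
  classical
  have hn := C.hn
  obtain ⟨q, hq⟩ := Function.ne_iff.mp hχ0
  simp only [Pi.zero_apply] at hq
  obtain ⟨p, hp⟩ := exists_avoid ({q} : Finset (Fin n)) (by rw [Finset.card_singleton]; omega)
  obtain ⟨p', hp'⟩ := exists_avoid ({p, q} : Finset (Fin n)) (Finset.card_le_two.trans_lt (by omega))
  simp only [Finset.mem_insert, Finset.mem_singleton, not_or] at hp hp'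
  let v : Fin n → Fin n → F := fun p => χ q • Pi.single p 1 - χ p • Pi.single q 1
  have hv : ∀ p, RatVec F₀ (v p) := fun p =>
    RatVec.sub (RatVec.smul (hχ q) (ratVec_single _ (one_mem _)))
      (RatVec.smul (hχ p) (ratVec_single _ (one_mem _)))
  have step : ∀ p, p ≠ q → ∀ ψ, RatVec F₀ ψ → ψ ⬝ᵥ v p = 0 → ψ ⬝ᵥ a ∈ F₀ := by
    intro p hpq ψ hψ hψv
    have hv0 : v p ≠ 0 := fun e => by
      have := congrFun e p; simp [v, hpq, hq] at this
    have := win C (hv p) hv0 (h.comm (rat_tv C (hv p) hψ hψv)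
      (by simp [v, dotProduct_sub, mul_comm])) q
    rw [Pi.smul_apply, smul_eq_mul] at this
    have h' := mul_mem this (inv_mem (hχ q))
    rwa [mul_assoc, mul_inv_cancel₀ hq, mul_one] at h'
  exact ratVec_of_pair (hv p) (hv p') (a := p) (b := p')
    (by simp [v, hp, hp'.1, Ne.symm hp'.1, hp'.2, hq]) (step p hp) (step p' hp'.2)

/-- A transvection with irrational invariant has its centre off every rational hyperplane. -/
theorem dot_ne_zero {a φ y χ : Fin n → F} (h : HasTv M a φ) (hy : RatVec F₀ y) (hχ : RatVec F₀ χ)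
    (hl : (φ ⬝ᵥ y) * (χ ⬝ᵥ a) ∉ F₀) {ψ : Fin n → F} (hψ : RatVec F₀ ψ) (hψ0 : ψ ≠ 0) :
    ψ ⬝ᵥ a ≠ 0 := by
  classical
  intro hψa
  obtain ⟨q, hq⟩ := Function.ne_iff.mp hψ0
  simp only [Pi.zero_apply] at hq
  have ha : a ≠ 0 := fun e => hl (by rw [e, dotProduct_zero, mul_zero]; exact zero_mem _)
  have fin : ∀ d : F, d ≠ 0 → RatVec F₀ (d • a) → False := by
    intro d hd hda
    have h1 : HasTv M (d • a) (d⁻¹ • φ) := by
      rw [hasTv_smul_iff hd, smul_smul, mul_inv_cancel₀ hd, one_smul]; exact h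
    have hφ := win C hda (smul_ne_zero hd ha) h1
    have := mul_mem (RatVec.dot hφ hy) (RatVec.dot hχ hda)
    rw [smul_dotProduct, dotProduct_smul, smul_eq_mul, smul_eq_mul] at this
    refine hl ?_
    convert this using 1
    field_simp
  let v : Fin n → Fin n → F := fun p => ψ q • Pi.single p 1 - ψ p • Pi.single q 1
  by_cases hall : ∃ p, φ ⬝ᵥ v p ≠ 0
  · obtain ⟨p, hp⟩ := hall
    have hv : RatVec F₀ (v p) := RatVec.sub (RatVec.smul (hψ q) (ratVec_single _ (one_mem _)))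
      (RatVec.smul (hψ p) (ratVec_single _ (one_mem _)))
    have h1 := (rat_tv C hv hψ (by simp [v, dotProduct_sub, mul_comm])).comm h hψa
    rw [← hasTv_smul_iff hp] at h1
    exact fin _ hp (win_dual C hψ hψ0 h1)
  · push Not at hall
    have hφ : φ = (φ q / ψ q) • ψ := by
      funext p
      have := hall p
      simp [v, dotProduct_sub, dotProduct_smul] at this
      rw [Pi.smul_apply, smul_eq_mul, div_mul_eq_mul_div, eq_div_iff hq]
      linear_combination this
    have hd : φ q / ψ q ≠ 0 := fun e => hl (by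
      rw [hφ, e, zero_smul, zero_dotProduct, zero_mul]; exact zero_mem _)
    rw [hφ, ← hasTv_smul_iff hd] at h
    have hda := win_dual C hψ hψ0 h
    refine hl ?_
    have := mul_mem (RatVec.dot hψ hy) (RatVec.dot hχ hda)
    rw [dotProduct_smul, smul_eq_mul] at this
    rw [hφ, smul_dotProduct, smul_eq_mul]
    convert this using 1
    ring

end general

section three

variable {F₀ : Subfield F} {r : ℕ} {M : Subgroup (GL (Fin 3) F)} (C : Ctx F₀ r M)
include C

theorem pair_rat_two (hr2 : r ≠ 2) (h2 : (2 : F) = 0) {a φ y χ : Fin 3 → F} (h : HasTv M a φ)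
    (hy : RatVec F₀ y) (hχ : RatVec F₀ χ) (hχy : χ ⬝ᵥ y = 0) : (φ ⬝ᵥ y) * (χ ⬝ᵥ a) ∈ F₀ := by
  classical
  by_contra hl
  haveI : CharP F 2 := CharTwo.of_one_ne_zero_of_two_eq_zero one_ne_zero h2
  have hφy : φ ⬝ᵥ y ≠ 0 := fun e => hl (by rw [e, zero_mul]; exact zero_mem _)
  have hχa : χ ⬝ᵥ a ≠ 0 := fun e => hl (by rw [e, mul_zero]; exact zero_mem _)
  have hy0 : y ≠ 0 := fun e => hφy (by rw [e, dotProduct_zero])
  have hα : ∀ ψ, RatVec F₀ ψ → ψ ≠ 0 → ψ ⬝ᵥ a ≠ 0 := fun ψ h1 h0 => dot_ne_zero C h hy hχ hl h1 h0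
  obtain ⟨μ, hμd⟩ : ∃ μ, μ = (φ ⬝ᵥ y) * (χ ⬝ᵥ a) := ⟨_, rfl⟩
  have hμ0 : μ ≠ 0 := hμd ▸ mul_ne_zero hφy hχa
  obtain ⟨A, hA⟩ : ∃ A, A = (χ ⬝ᵥ a)⁻¹ • a := ⟨_, rfl⟩
  have hχA : χ ⬝ᵥ A = 1 := by rw [hA, dotProduct_smul, smul_eq_mul, inv_mul_cancel₀ hχa]
  have hφA : φ ⬝ᵥ A = 0 := by rw [hA, dotProduct_smul, h.1, smul_zero]
  have hαA : ∀ ψ, RatVec F₀ ψ → ψ ≠ 0 → ψ ⬝ᵥ A ≠ 0 := fun ψ h1 h0 => by
    rw [hA, dotProduct_smul, smul_eq_mul]
    exact mul_ne_zero (inv_ne_zero hχa) (hα ψ h1 h0)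
  obtain ⟨w, hwd⟩ : ∃ w, w = crossProduct A y := ⟨_, rfl⟩
  have hw0 : w ≠ 0 := by
    intro e
    apply hφy
    rw [hwd] at e
    have e0 := congrFun e 0
    have e1 := congrFun e 1
    have e2 := congrFun e 2
    simp [crossProduct] at e0 e1 e2
    rw [dot_three] at hφA hχy hχA ⊢
    linear_combination (χ 1 * φ 2 - χ 2 * φ 1) * e0 + (χ 2 * φ 0 - χ 0 * φ 2) * e1 +
      (χ 0 * φ 1 - χ 1 * φ 0) * e2 + (φ 0 * A 0 + φ 1 * A 1 + φ 2 * A 2) * hχy -
      (φ 0 * y 0 + φ 1 * y 1 + φ 2 * y 2) * hχA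
  obtain ⟨q, hq⟩ := Function.ne_iff.mp hy0
  simp only [Pi.zero_apply] at hq
  let ψv : Fin 3 → Fin 3 → F := fun j => y q • Pi.single j 1 - y j • Pi.single q 1
  have hψv : ∀ j, RatVec F₀ (ψv j) ∧ ψv j ⬝ᵥ y = 0 := fun j =>
    ⟨RatVec.sub (RatVec.smul (hy q) (ratVec_single _ (one_mem _)))
      (RatVec.smul (hy j) (ratVec_single _ (one_mem _))), by simp [ψv, sub_dotProduct, mul_comm]⟩
  have hker : ∀ k ∈ M, (k : Matrix (Fin 3) (Fin 3) F) *ᵥ A = A →
      (k : Matrix (Fin 3) (Fin 3) F) *ᵥ y = y → k = 1 := by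
    intro k hk hkA hky
    obtain ⟨b, hb⟩ := rank_one_of_kills (N := (k : Matrix (Fin 3) (Fin 3) F) - 1) (u := A) (y := y)
      (by rw [sub_mulVec, one_mulVec, hkA, sub_self]) (by rw [sub_mulVec, one_mulVec, hky, sub_self])
      (hwd ▸ hw0)
    rw [← hwd, sub_eq_iff_eq_add'] at hb
    by_contra hk1
    have hb0 : b ≠ 0 := fun e => hk1 (Units.ext (by rw [hb, e, zero_vecMulVec, add_zero, Units.val_one]))
    have hwb : w ⬝ᵥ b = 0 := by
      have hd : (k : Matrix (Fin 3) (Fin 3) F).det = 1 := congrArg Units.val (C.le_sl hk)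
      rw [hb, show (1 : Matrix (Fin 3) (Fin 3) F) + vecMulVec b w =
          1 + Matrix.replicateCol Unit b * Matrix.replicateRow Unit w by
            ext i j; simp [vecMulVec_apply, Matrix.mul_apply],
        Matrix.det_one_add_replicateCol_mul_replicateRow] at hd
      linear_combination hd
    have hT : HasTv M b w := ⟨hwb, k, hk, hb⟩
    have hwy : w ⬝ᵥ y = 0 := by rw [hwd, dot_three]; simp [crossProduct]; ring
    have hwA : w ⬝ᵥ A = 0 := by rw [hwd, dot_three]; simp [crossProduct]; ring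
    by_cases hall : ∃ j, ψv j ⬝ᵥ b ≠ 0
    · obtain ⟨j, hj⟩ := hall
      refine hαA _ (win C hy hy0 (hT.comm (rat_tv C hy (hψv j).1 (hψv j).2) hwy))
        (smul_ne_zero hj hw0) ?_
      rw [smul_dotProduct, hwA, smul_zero]
    · push Not at hall
      have hb' : b = (b q / y q) • y := by
        funext j
        have := hall j
        simp [ψv, sub_dotProduct] at this
        rw [Pi.smul_apply, smul_eq_mul, div_mul_eq_mul_div, eq_div_iff hq]
        linear_combination this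
      have hc : b q / y q ≠ 0 := fun e => hb0 (by rw [hb', e, zero_smul])
      rw [hb', hasTv_smul_iff hc] at hT
      refine hαA _ (win C hy hy0 hT) (smul_ne_zero hc hw0) ?_
      rw [smul_dotProduct, hwA, smul_zero]
  -- the group induced on the plane spanned by `A` and `y`
  obtain ⟨Rep, hRep⟩ : ∃ Rep : SL(2, F) → GL (Fin 3) F → Prop, Rep = fun (X : SL(2, F)) (m : GL (Fin 3) F) =>
      (m : Matrix (Fin 3) (Fin 3) F) *ᵥ A = X.1 0 0 • A + X.1 1 0 • y ∧
      (m : Matrix (Fin 3) (Fin 3) F) *ᵥ y = X.1 0 1 • A + X.1 1 1 • y := ⟨_, rfl⟩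
  let S : Submonoid SL(2, F) :=
    { carrier := {X | ∃ m ∈ M, Rep X m}
      one_mem' := ⟨1, one_mem M, by rw [hRep]; simp⟩
      mul_mem' := by
        rintro X X' ⟨m, hm, h1⟩ ⟨m', hm', h1'⟩
        rw [hRep] at h1 h1'
        refine ⟨m * m', mul_mem hm hm', ?_⟩
        rw [hRep]
        refine ⟨?_, ?_⟩
        · rw [Units.val_mul, ← mulVec_mulVec, h1'.1, mulVec_add, mulVec_smul, mulVec_smul, h1.1, h1.2]
          simp only [Matrix.SpecialLinearGroup.coe_mul, Matrix.mul_apply, Fin.sum_univ_two]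
          module
        · rw [Units.val_mul, ← mulVec_mulVec, h1'.2, mulVec_add, mulVec_smul, mulVec_smul, h1.1, h1.2]
          simp only [Matrix.SpecialLinearGroup.coe_mul, Matrix.mul_apply, Fin.sum_univ_two]
          module }
  have hSinv : ∀ X ∈ S, X⁻¹ ∈ S := fun X hX => by
    have e : X⁻¹ = X ^ (orderOf X - 1) := by
      refine inv_eq_of_mul_eq_one_right ?_
      rw [← pow_succ', Nat.sub_add_cancel (orderOf_pos X), pow_orderOf_eq_one]
    rw [e]; exact pow_mem hX _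
  let lo : F → SL(2, F) := fun s => ⟨!![1, 0; s, 1], by simp [Matrix.det_fin_two_of]⟩
  let up : SL(2, F) := ⟨!![1, μ; 0, 1], by simp [Matrix.det_fin_two_of]⟩
  have hup : up ∈ S := by
    refine ⟨tvGL a φ h.1, (hasTv_iff h.1).1 h, ?_⟩
    rw [hRep]
    refine ⟨?_, ?_⟩
    · rw [coe_tvGL, tvMat_mulVec, hφA]; simp [up]
    · rw [coe_tvGL, tvMat_mulVec]
      simp [up]
      rw [hA, smul_smul, hμd, mul_assoc, mul_inv_cancel₀ hχa, mul_one, add_comm]
  have hlov : ∀ s : F, (lo s : Matrix (Fin 2) (Fin 2) F) = !![1, 0; s, 1] := fun _ => rfl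
  have hupv : (up : Matrix (Fin 2) (Fin 2) F) = !![1, μ; 0, 1] := rfl
  let Q : F → Prop := fun s => ∃ ψ, RatVec F₀ ψ ∧ ψ ⬝ᵥ y = 0 ∧ ψ ⬝ᵥ A = s
  have hQS : ∀ s, Q s → lo s ∈ S := by
    rintro s ⟨ψ, hψ, hψy, hs⟩
    refine ⟨tvGL y ψ hψy, (hasTv_iff hψy).1 (rat_tv C hy hψ hψy), ?_⟩
    rw [hRep]
    refine ⟨?_, ?_⟩
    · rw [coe_tvGL, tvMat_mulVec, hs]; simp [lo]
    · rw [coe_tvGL, tvMat_mulVec, hψy]; simp [lo]
  have hSQ : ∀ s, lo s ∈ S → Q s := by
    intro s hs
    rcases eq_or_ne s 0 with rfl | hs0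
    · exact ⟨0, fun _ => zero_mem _, zero_dotProduct _, zero_dotProduct _⟩
    obtain ⟨m, hm, hmr⟩ := hs
    rw [hRep] at hmr
    obtain ⟨hmA, hmy⟩ := hmr
    simp [lo] at hmA hmy
    have hm2 : m * m = 1 := by
      refine hker _ (mul_mem hm hm) ?_ ?_
      · rw [Units.val_mul, ← mulVec_mulVec, hmA, mulVec_add, mulVec_smul, hmA, hmy, add_assoc,
          ← two_smul F (s • y), h2, zero_smul, add_zero]
      · rw [Units.val_mul, ← mulVec_mulVec, hmy, hmy]
    set N := (m : Matrix (Fin 3) (Fin 3) F) - 1 with hN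
    have hNy : N *ᵥ y = 0 := by rw [hN, sub_mulVec, one_mulVec, hmy, sub_self]
    have hNA : N *ᵥ A = s • y := by rw [hN, sub_mulVec, one_mulVec, hmA, add_sub_cancel_left]
    have hNN : N * N = 0 := by
      have e : (m : Matrix (Fin 3) (Fin 3) F) * m = 1 := by rw [← Units.val_mul, hm2, Units.val_one]
      rw [hN, sub_mul, mul_sub, mul_one, one_mul, e]
      ext i j
      simp only [Matrix.sub_apply, Matrix.zero_apply]
      linear_combination ((1 : Matrix (Fin 3) (Fin 3) F) i j - (m : Matrix (Fin 3) (Fin 3) F) i j) * h2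
    have himg : ∀ v, crossProduct (N *ᵥ v) y = 0 := by
      intro v
      by_contra hne
      obtain ⟨b, hb⟩ := rank_one_of_kills (N := N) (u := N *ᵥ v) (y := y)
        (by rw [mulVec_mulVec, hNN, zero_mulVec]) hNy hne
      have h1 := congrArg (· *ᵥ A) hb
      have h3 := congrArg (· *ᵥ v) hb
      simp only [hNA, vecMulVec_mulVec] at h1 h3
      refine hne ?_
      set k1 := crossProduct (N *ᵥ v) y ⬝ᵥ A
      set k3 := crossProduct (N *ᵥ v) y ⬝ᵥ v
      have hk1 : k1 ≠ 0 := fun e => by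
        rw [e] at h1; simp at h1
        exact h1.elim hs0 hy0
      have hb2 : b = (k1⁻¹ * s) • y := by
        funext i
        have := congrFun h1 i
        simp at this ⊢
        field_simp
        linear_combination -this
      rw [h3, hb2, op_smul_eq_smul, smul_smul, map_smul, LinearMap.smul_apply, cross_self, smul_zero]
    obtain ⟨ω, hωd⟩ : ∃ ω : Fin 3 → F, ω = fun j => N q j / y q := ⟨_, rfl⟩
    have hNeq : N = vecMulVec y ω := Matrix.ext fun i j => by
      have := cross_pairs (himg (Pi.single j 1)) i q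
      simp [mulVec_single_one] at this
      rw [vecMulVec_apply, hωd]
      field_simp
      linear_combination this
    have hdot : ∀ v, N *ᵥ v = (ω ⬝ᵥ v) • y := fun v => by
      rw [hNeq, vecMulVec_mulVec]; ext i; simp [mul_comm]
    have hωy : ω ⬝ᵥ y = 0 := by
      have := hNy; rw [hdot] at this; simpa [hy0] using this
    have hT : HasTv M y ω := ⟨hωy, m, hm, by rw [tvMat, ← hNeq, hN, add_sub_cancel]⟩
    refine ⟨ω, win C hy hy0 hT, hωy, ?_⟩
    have := hNA
    rw [hdot, ← sub_eq_zero, ← sub_smul] at this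
    exact sub_eq_zero.1 ((smul_eq_zero.1 this).resolve_right hy0)
  have hQ1 : Q 1 := ⟨χ, hχ, hχy, hχA⟩
  have hlo2 : ∀ s : F, lo s * lo s = 1 := fun s => by
    ext i j
    fin_cases i <;> fin_cases j <;> simp [-SetLike.coe_sort_coe, hlov, Matrix.mul_apply, Fin.sum_univ_two]
    linear_combination s * h2
  have hup2 : up * up = 1 := by
    ext i j
    fin_cases i <;> fin_cases j <;> simp [hupv, Matrix.mul_apply, Fin.sum_univ_two]
    linear_combination μ * h2
  have hconj : ∀ s, Q s → s ≠ 0 → ∃ g ∈ S, g * lo s = up * g := by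
    intro s hs hs0
    obtain ⟨k, hk⟩ := exists_conj_of_odd (hlo2 s) hup2 (odd_order h2 (w := lo s * up) (by
      simp [hlov, hupv, Matrix.mul_apply, Fin.sum_univ_two]
      intro e
      exact mul_ne_zero hs0 hμ0 (by linear_combination e - h2)))
    exact ⟨_, pow_mem (mul_mem (hQS s hs) hup) k, hk⟩
  have hmul : ∀ s t, Q s → Q t → Q (s * t) := by
    intro s t hs ht
    rcases eq_or_ne s 0 with rfl | hs0
    · rw [zero_mul]; exact hs
    obtain ⟨g1, hg1, e1⟩ := hconj 1 hQ1 one_ne_zero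
    obtain ⟨g2, hg2, e2⟩ := hconj s hs hs0
    set g := g2⁻¹ * g1 with hg
    have hgS : g ∈ S := mul_mem (hSinv _ hg2) hg1
    have e3 : g * lo 1 = lo s * g := by
      rw [hg, mul_assoc, e1, ← mul_assoc, ← mul_assoc]
      congr 1
      rw [eq_mul_inv_iff_mul_eq, mul_assoc, inv_mul_eq_iff_eq_mul]
      exact e2.symm
    have e4 : g * lo t = lo (s * t) * g := by
      have c00 := congrArg (fun z : SL(2, F) => (z : Matrix (Fin 2) (Fin 2) F) 0 0) e3
      have c10 := congrArg (fun z : SL(2, F) => (z : Matrix (Fin 2) (Fin 2) F) 1 0) e3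
      simp [hlov, Matrix.mul_apply, Fin.sum_univ_two] at c00 c10
      ext i j
      fin_cases i <;> fin_cases j <;> simp [hlov, Matrix.mul_apply, Fin.sum_univ_two]
      · exact Or.inl c00
      · linear_combination t * c10
      · exact Or.inr c00
    refine hSQ _ ?_
    rw [show lo (s * t) = g * lo t * g⁻¹ by rw [e4]; group]
    exact mul_mem (mul_mem hgS (hQS t ht)) (hSinv _ hgS)
  -- so the rational invariants form a field
  let L : Subring F :=
    { carrier := {s | Q s}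
      mul_mem' := fun {s t} hs ht => hmul s t hs ht
      one_mem' := hQ1
      add_mem' := by
        rintro _ _ ⟨ψ, hψ, h1, rfl⟩ ⟨ψ', hψ', h1', rfl⟩
        exact ⟨ψ + ψ', hψ.add hψ', by rw [add_dotProduct, h1, h1', add_zero], add_dotProduct _ _ _⟩
      zero_mem' := ⟨0, fun _ => zero_mem _, zero_dotProduct _, zero_dotProduct _⟩
      neg_mem' := by
        rintro _ ⟨ψ, hψ, h1, rfl⟩
        exact ⟨-ψ, fun i => neg_mem (hψ i), by rw [neg_dotProduct, h1, neg_zero], neg_dotProduct _ _⟩ }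
  obtain ⟨c, hcQ, hc⟩ : ∃ c, Q c ∧ c ∉ F₀ := by
    by_contra hno
    push Not at hno
    have hz : ∀ j, ψv j - (ψv j ⬝ᵥ A) • χ = 0 := by
      intro j
      by_contra hne
      refine hαA _ ((hψv j).1.sub (RatVec.smul (hno _ ⟨_, (hψv j).1, (hψv j).2, rfl⟩) hχ)) hne ?_
      rw [sub_dotProduct, smul_dotProduct, hχA, smul_eq_mul, mul_one, sub_self]
    obtain ⟨j, hj⟩ := exists_avoid ({q} : Finset (Fin 3)) (by simp)
    obtain ⟨j', hj'⟩ := exists_avoid ({j, q} : Finset (Fin 3)) (Finset.card_le_two.trans_lt (by omega))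
    simp only [Finset.mem_insert, Finset.mem_singleton, not_or] at hj hj'
    have a1 := congrFun (hz j) j
    have a2 := congrFun (hz j) j'
    have a3 := congrFun (hz j') j'
    simp [ψv, hj, hj'.1, hj'.2, Ne.symm hj'.1] at a1 a2 a3
    rcases a2 with e | e
    · rw [e] at a1; simp at a1; exact hq a1
    · rw [e] at a3; simp at a3; exact hq a3
  have hall := subring_top C L (fun x hx => ⟨x • χ, RatVec.smul hx hχ,
    by rw [smul_dotProduct, hχy, smul_zero], by rw [smul_dotProduct, hχA, smul_eq_mul, mul_one]⟩)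
    (c := c) hcQ hc
  obtain ⟨i, hi⟩ := exists_avoid ({q} : Finset (Fin 3)) (by simp)
  obtain ⟨j, hj⟩ := exists_avoid ({i, q} : Finset (Fin 3)) (Finset.card_le_two.trans_lt (by omega))
  simp only [Finset.mem_insert, Finset.mem_singleton, not_or] at hi hj
  have hsurj : Function.Surjective (fun p : F₀ × F₀ =>
      (p.1 : F) * (A i - y i * A q / y q) + (p.2 : F) * (A j - y j * A q / y q)) := by
    intro s
    obtain ⟨ψ, hψ, hψy, rfl⟩ := hall s
    refine ⟨(⟨ψ i, hψ i⟩, ⟨ψ j, hψ j⟩), ?_⟩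
    have hsum : ∀ f : Fin 3 → F, ∑ z, f z = f i + f j + f q := fun f => by
      revert hi hj
      fin_cases i <;> fin_cases j <;> fin_cases q <;> simp [Fin.sum_univ_three] <;> intros <;> ring
    rw [dotProduct, hsum] at hψy
    rw [dotProduct, hsum]
    field_simp
    linear_combination -A q * hψy
  have hle := Nat.card_le_card_of_surjective _ hsurj
  rw [Nat.card_prod, Nat.card_eq_fintype_card (α := F), C.card, ← sq] at hle
  have := (Nat.pow_le_pow_iff_right (Finite.one_lt_card (α := F₀))).1 hle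
  have := C.prime.two_le
  omega

theorem main {g : GL (Fin 3) F} (hg : g ∈ M) : g ∈ Cfsg.Geo.subfieldSubgroup F₀ 1 := by
  by_cases hr2 : r = 2
  · exact case_quadratic C hr2 hg
  refine mem_of_entries C fun k l hkl x b => ?_
  have h0 := (rat_tv C (ratVec_single (F₀ := F₀) k (one_mem _))
    (ratVec_single (F₀ := F₀) l (one_mem _)) (by simp [Ne.symm hkl])).conj hg
  obtain ⟨a, ha⟩ : ∃ a, a = (g : Matrix (Fin 3) (Fin 3) F) *ᵥ Pi.single k 1 := ⟨_, rfl⟩
  obtain ⟨φ, hφ⟩ : ∃ φ, φ = (Pi.single l 1 : Fin 3 → F) ᵥ* ((g⁻¹ : GL (Fin 3) F) : Matrix (Fin 3) (Fin 3) F) :=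
    ⟨_, rfl⟩
  rw [← ha, ← hφ] at h0
  have pr : ∀ y χ : Fin 3 → F, RatVec F₀ y → RatVec F₀ χ → χ ⬝ᵥ y = 0 →
      (φ ⬝ᵥ y) * (χ ⬝ᵥ a) ∈ F₀ := fun y χ hy hχ hyx => by
    by_cases h2 : (2 : F) = 0
    · exact pair_rat_two C hr2 h2 h0 hy hχ hyx
    · exact pair_rat C hr2 h2 h0 hy hχ hyx
  have off : ∀ i j, i ≠ j → φ j * a i ∈ F₀ := fun i j hij => by
    simpa using pr _ _ (ratVec_single (F₀ := F₀) j (one_mem _))
      (ratVec_single (F₀ := F₀) i (one_mem _)) (by simp [hij, Ne.symm hij])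
  have diff : ∀ i j, φ i * a i - φ j * a j ∈ F₀ := fun i j => by
    rcases eq_or_ne i j with rfl | hij
    · rw [sub_self]; exact zero_mem _
    have := pr (Pi.single i 1 + Pi.single j 1) (Pi.single i 1 - Pi.single j 1)
      (RatVec.add (ratVec_single _ (one_mem _)) (ratVec_single _ (one_mem _)))
      (RatVec.sub (ratVec_single _ (one_mem _)) (ratVec_single _ (one_mem _)))
      (by simp [sub_dotProduct, dotProduct_add, hij, Ne.symm hij])
    simp only [dotProduct_add, sub_dotProduct, dotProduct_single, single_dotProduct, mul_one, one_mul] at this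
    have h' := add_mem (sub_mem this (off i j hij)) (off j i (Ne.symm hij))
    convert h' using 1
    ring
  have diag : ∀ i, φ i * a i ∈ F₀ := fun i => by
    by_cases h3 : (3 : F) = 0
    · obtain ⟨j, hj⟩ := exists_avoid ({i} : Finset (Fin 3)) (by simp)
      rw [Finset.mem_singleton] at hj
      have h2 : (2 : F) ≠ 0 := fun e => one_ne_zero (α := F) (by linear_combination h3 - e)
      have hd := diff i j
      have hp : (φ i * a i) * (φ j * a j) ∈ F₀ := by
        have := mul_mem (off i j (Ne.symm hj)) (off j i hj)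
        convert this using 1; ring
      set δ := φ i * a i - φ j * a j with hδ
      have h2m : (2 : F)⁻¹ ∈ F₀ := inv_mem (by simpa using natCast_mem F₀ 2)
      have hsq : (φ i * a i - δ * 2⁻¹) * (φ i * a i - δ * 2⁻¹) ∈ F₀ := by
        have := add_mem hp (mul_mem (mul_mem hd hd) (mul_mem h2m h2m))
        convert this using 1
        rw [hδ]
        field_simp
        ring
      have := add_mem (sq_mem C (Or.inl hr2) hsq) (mul_mem hd h2m)
      simpa using this
    · have h3' : (3 : F) ∈ F₀ := by simpa using natCast_mem F₀ 3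
      have hs := h0.1
      rw [dot_three] at hs
      have := mul_mem (inv_mem h3') (add_mem (add_mem (diff i 0) (diff i 1)) (diff i 2))
      convert this using 1
      rw [eq_inv_mul_iff_mul_eq₀ h3]
      linear_combination hs
  have hgoal : φ b * a x ∈ F₀ := by
    rcases eq_or_ne x b with rfl | h
    · exact diag x
    · exact off x b h
  rw [mul_comm] at hgoal
  simpa [ha, hφ, Matrix.col_apply] using hgoal

end three

/-- subfield groups are maximal -/
theorem subfield_maximal_three (F₀ : Subfield F) (r : ℕ) (P : GL (Fin 3) F) (hr : r.Prime)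
    (hcard : Fintype.card F = Nat.card F₀ ^ r) :
    Cfsg.Geo.IsMaximalIn (Cfsg.Geo.specialLinear (Fin 3) F)
      (Cfsg.Geo.subfieldSubgroup F₀ P ⊓ Cfsg.Geo.specialLinear (Fin 3) F) := by
  have base : Cfsg.Geo.IsMaximalIn (Cfsg.Geo.specialLinear (Fin 3) F)
      (Cfsg.Geo.subfieldSubgroup F₀ 1 ⊓ Cfsg.Geo.specialLinear (Fin 3) F) := by
    obtain ⟨c, hc⟩ : ∃ c : F, c ∉ F₀ := by
      by_contra hno
      push Not at hno
      have h1 : Nat.card F₀ = Nat.card F :=
        Nat.card_congr (Equiv.subtypeUnivEquiv hno)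
      rw [Nat.card_eq_fintype_card (α := F), hcard] at h1
      have h2 : 2 ≤ r := hr.two_le
      have h3 : Nat.card F₀ ^ 1 = Nat.card F₀ ^ r := by rw [pow_one]; exact h1
      have := Nat.pow_right_injective (Finite.one_lt_card (α := F₀)) h3
      omega
    refine isMaximalIn_of_lt (lt_of_le_of_ne inf_le_right fun heq => ?_) fun M hM1 hM2 g hg hgH => ?_
    · have hij : (c • Pi.single 1 (1 : F) : Fin 3 → F) ⬝ᵥ Pi.single 0 1 = 0 := by simp
      have hT := tvGL_mem_specialLinear _ _ hij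
      rw [← heq] at hT
      obtain ⟨d, hd, hrat⟩ := (mem_subfieldSubgroup_one _).1 hT.1
      have h1 := hrat 2 2
      have h2 := hrat 0 1
      simp [tvMat, vecMulVec_apply] at h1 h2
      exact hc (by simpa [hd, ← mul_assoc] using mul_mem (inv_mem h1) h2)
    · by_contra hno
      exact hgH ⟨main ⟨le_rfl, hr, hcard, hM1, hM2, hno⟩ hg, hM2 hg⟩
  have h := isMaximalIn_map (MulAut.conj P) base
  have hsl : (Cfsg.Geo.specialLinear (Fin 3) F).map (MulAut.conj P).toMonoidHom =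
      Cfsg.Geo.specialLinear (Fin 3) F := by
    haveI : (Cfsg.Geo.specialLinear (Fin 3) F).Normal := MonoidHom.normal_ker _
    exact le_antisymm (Subgroup.map_le_iff_le_comap.2 fun x hx => Subgroup.Normal.conj_mem inferInstance x hx P) fun x hx => ⟨P⁻¹ * x * P, by simpa using Subgroup.Normal.conj_mem (H := Cfsg.Geo.specialLinear (Fin 3) F) inferInstance x hx P⁻¹, by simp [mul_assoc]⟩
  have hsub : (Cfsg.Geo.subfieldSubgroup F₀ (1 : GL (Fin 3) F)).map (MulAut.conj P).toMonoidHom =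
      Cfsg.Geo.subfieldSubgroup F₀ P := by
    rw [Cfsg.Geo.subfieldSubgroup, Cfsg.Geo.subfieldSubgroup, map_one, Subgroup.map_map]
    rfl
  rwa [Subgroup.map_inf _ _ _ (MulAut.conj P).injective, hsl, hsub] at h

end CfsgLib.MaxSub.SlThree.Sub
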