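import Cfsg.Agent.Lib.MaxSub.SlThree.Basic
import Cfsg.Agent.Lib.MaxSub.Rational
import Cfsg.Agent.S0801

/-!
Subfield groups in `SL₃`: the machinery of `S5639`, run with three coordinates.
-/

set_option autoImplicit false
set_option linter.unusedSectionVars false

namespace CfsgLib.MaxSub.SlThree.Sub

open Matrix CfsgLib.MaxSub
open scoped MatrixGroups

variable {F : Type*} [Field F] [Fintype F] {n : ℕ}

/-- The standing hypotheses: an overgroup of the subfield group not containing `SL`. -/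
structure Ctx (F₀ : Subfield F) (r : ℕ) (M : Subgroup (GL (Fin n) F)) : Prop where
  hn : 3 ≤ n
  prime : r.Prime
  card : Fintype.card F = Nat.card F₀ ^ r
  le : Cfsg.Geo.subfieldSubgroup F₀ 1 ⊓ Cfsg.Geo.specialLinear (Fin n) F ≤ M
  le_sl : M ≤ Cfsg.Geo.specialLinear (Fin n) F
  not_sl : ¬ Cfsg.Geo.specialLinear (Fin n) F ≤ M

theorem exists_avoid {n : ℕ} (s : Finset (Fin n)) (h : s.card < n) : ∃ i, i ∉ s := by
  by_contra hno
  push Not at hno
  have := Finset.card_le_card (s := Finset.univ) (t := s) fun x _ => hno x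
  simp at this
  omega

variable {F₀ : Subfield F} {r : ℕ} {M : Subgroup (GL (Fin n) F)} (C : Ctx F₀ r M)
include C

theorem rat_tv {x φ : Fin n → F} (hx : RatVec F₀ x) (hφ : RatVec F₀ φ) (h : φ ⬝ᵥ x = 0) :
    HasTv M x φ :=
  (hasTv_iff h).2 (C.le ⟨ratMat_mem_subfieldSubgroup (ratMat_tvMat hx hφ),
    tvGL_mem_specialLinear _ _ _⟩)

theorem subring_top (L : Subring F) (hL : ∀ x ∈ F₀, x ∈ L) {c : F} (hc : c ∈ L) (hc0 : c ∉ F₀) :
    ∀ x, x ∈ L := by
  have hfin : Module.finrank F₀ F = r := by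
    have h1 := Module.natCard_eq_pow_finrank (K := F₀) (V := F)
    rw [Nat.card_eq_fintype_card (α := F), C.card] at h1
    exact (Nat.pow_right_injective (Finite.one_lt_card (α := F₀)) h1).symm
  let A : Subalgebra F₀ F :=
    { toSubsemiring := L.toSubsemiring
      algebraMap_mem' := fun x => hL _ x.2 }
  haveI := Subalgebra.isSimpleOrder_of_finrank_prime F₀ F (hfin.symm ▸ C.prime)
  rcases IsSimpleOrder.eq_bot_or_eq_top A with h | h
  · exfalso
    have hmem : c ∈ A := hc
    rw [h, Algebra.mem_bot] at hmem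
    obtain ⟨y, rfl⟩ := hmem
    exact hc0 y.2
  · intro x
    have : x ∈ A := by rw [h]; trivial
    exact this

theorem no_entry {i j : Fin n} (hij : i ≠ j) {c : F}
    (h : HasTv M (Pi.single i 1) (c • Pi.single j 1)) : c ∈ F₀ := by
  classical
  by_contra hc
  let P : Fin n → Fin n → F → Prop := fun i j c => HasTv M (Pi.single i 1) (c • Pi.single j 1)
  have mul : ∀ {i j k : Fin n} {a b : F}, i ≠ j → j ≠ k → i ≠ k → P i j a → P j k b → P i k (a * b) := by
    intro i j k a b hij hjk hik ha hb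
    have := HasTv.comm hb ha (by simp [Ne.symm hik, hik])
    simpa [P, smul_smul, dotProduct_single] using this
  have one : ∀ {i j : Fin n}, i ≠ j → P i j 1 := fun {i j} hij =>
    rat_tv C (ratVec_single _ (one_mem _)) (by simpa using ratVec_single (F₀ := F₀) j (one_mem _))
      (by simp [hij, Ne.symm hij])
  have right : ∀ {i j k : Fin n} {a : F}, i ≠ j → i ≠ k → P i j a → P i k a := by
    intro i j k a hij hik ha
    rcases eq_or_ne j k with rfl | hjk
    · exact ha
    · simpa using mul hij hjk hik ha (one hjk)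
  have left : ∀ {i j k : Fin n} {a : F}, i ≠ j → k ≠ j → P i j a → P k j a := by
    intro i j k a hij hkj ha
    rcases eq_or_ne k i with rfl | hki
    · exact ha
    · simpa using mul hki hij hkj (one hki) ha
  have spread : ∀ {i j : Fin n} {a : F}, i ≠ j → P i j a → ∀ k l, k ≠ l → P k l a := by
    intro i j a hij ha k l hkl
    rcases eq_or_ne k j with rfl | hkj
    · obtain ⟨p, hp⟩ := exists_avoid ({i, k} : Finset (Fin n))
        (Finset.card_le_two.trans_lt (by have := C.hn; omega))
      simp only [Finset.mem_insert, Finset.mem_singleton, not_or] at hp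
      exact right (Ne.symm hp.2) hkl (left (Ne.symm hp.1) (Ne.symm hp.2) (right hij (Ne.symm hp.1) ha))
    · exact right hkj hkl (left hij hkj ha)
  have hr : ∀ a ∈ F₀, ∀ i j : Fin n, i ≠ j → P i j a := fun a ha i j hij =>
    rat_tv C (ratVec_single _ (one_mem _)) (RatVec.smul ha (ratVec_single _ (one_mem _)))
      (by simp [hij, Ne.symm hij])
  let L : Subring F :=
    { carrier := {a | ∀ i j : Fin n, i ≠ j → P i j a}
      mul_mem' := fun {a b} ha hb i j hij => by
        obtain ⟨p, hp⟩ := exists_avoid ({i, j} : Finset (Fin n))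
          (Finset.card_le_two.trans_lt (by have := C.hn; omega))
        simp only [Finset.mem_insert, Finset.mem_singleton, not_or] at hp
        exact mul (Ne.symm hp.1) hp.2 hij (ha _ _ (Ne.symm hp.1)) (hb _ _ hp.2)
      one_mem' := fun i j hij => one hij
      add_mem' := fun {a b} ha hb i j hij => by
        have := HasTv.add (ha i j hij) (hb i j hij)
        rwa [← add_smul] at this
      zero_mem' := hr 0 (zero_mem _)
      neg_mem' := fun {a} ha i j hij => by
        have := HasTv.neg (ha i j hij)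
        rwa [← neg_smul] at this }
  have hall := subring_top C L hr (c := c) (spread hij h) hc
  refine C.not_sl (specialLinear_le_of_hasTv fun i j hij a => ?_)
  have h1 : HasTv M (Pi.single i (1 : F)) (a • Pi.single j 1) := hall a i j hij
  rcases eq_or_ne a 0 with rfl | ha
  · rw [Pi.single_zero]; exact hasTv_zero_left _
  · rw [← hasTv_smul_iff ha, ← Pi.single_smul] at h1
    simpa using h1

/-- A transvection with rational centre has rational functional. -/
theorem win {x φ : Fin n → F} (hx : RatVec F₀ x) (hx0 : x ≠ 0) (h : HasTv M x φ) :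
    RatVec F₀ φ := by
  classical
  intro k
  by_contra hk
  obtain ⟨k₀, hk₀, hk₀k⟩ : ∃ k₀, x k₀ ≠ 0 ∧ k₀ ≠ k := by
    by_contra hno
    push Not at hno
    obtain ⟨k₀, hk₀⟩ := Function.ne_iff.mp hx0
    have hke : k₀ = k := hno k₀ hk₀
    subst hke
    have h1 := h.1
    rw [dotProduct, Finset.sum_eq_single k₀ (fun z _ hz => by
      rw [show x z = 0 from by_contra fun h' => hz (hno z h'), mul_zero])
      (fun hh => absurd (Finset.mem_univ _) hh), mul_eq_zero] at h1
    exact hk (by rw [h1.resolve_right hk₀]; exact zero_mem _)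
  obtain ⟨χ, hχ, hχx, hχk, m, hm⟩ : ∃ χ : Fin n → F, RatVec F₀ χ ∧ χ ⬝ᵥ x = 0 ∧
      χ k = 0 ∧ ∃ m, χ m ≠ 0 := by
    obtain ⟨l', hl'⟩ := exists_avoid ({k, k₀} : Finset (Fin n))
      (Finset.card_le_two.trans_lt (by have := C.hn; omega))
    simp only [Finset.mem_insert, Finset.mem_singleton, not_or] at hl'
    refine ⟨x k₀ • Pi.single l' 1 - x l' • Pi.single k₀ 1,
        RatVec.sub (RatVec.smul (hx k₀) (ratVec_single _ (one_mem _)))
          (RatVec.smul (hx l') (ratVec_single _ (one_mem _))), ?_, ?_, l', ?_⟩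
    · simp [sub_dotProduct]; ring
    · simp [Ne.symm hl'.1, Ne.symm hk₀k]
    · simp [hl'.2, hk₀]
  obtain ⟨i, hik⟩ : ∃ i, i = k := ⟨k, rfl⟩
  have hχi : χ i = 0 := hik ▸ hχk
  have hk₀i : k₀ ≠ i := hik ▸ hk₀k
  -- `T(x, φ_k χ)`
  have h1 : HasTv M x ((φ ⬝ᵥ Pi.single k 1) • χ) :=
    (rat_tv C (ratVec_single k (one_mem _)) hχ (by simp [hχk])).comm h hχx
  rw [dotProduct_single, mul_one] at h1
  -- `T(e_i, φ_k χ)`
  have h2 : HasTv M (Pi.single i 1) (φ k • χ) := by
    have hθ : HasTv M (Pi.single i 1) ((x k₀)⁻¹ • Pi.single k₀ 1) :=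
      rat_tv C (ratVec_single _ (one_mem _))
        (RatVec.smul (inv_mem (hx k₀)) (ratVec_single _ (one_mem _)))
        (by simp [hk₀i, Ne.symm hk₀i])
    have := h1.comm hθ (by simp [hχi])
    rwa [smul_dotProduct, single_dotProduct, one_mul, smul_eq_mul, inv_mul_cancel₀ hk₀, one_smul]
      at this
  obtain ⟨j, hj⟩ := exists_avoid ({i, m} : Finset (Fin n))
    (Finset.card_le_two.trans_lt (by have := C.hn; omega))
  simp only [Finset.mem_insert, Finset.mem_singleton, not_or] at hj
  have h3 := (rat_tv C (ratVec_single m (one_mem _)) (ratVec_single (F₀ := F₀) j (one_mem _))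
      (by simp [hj.2, Ne.symm hj.2])).comm h2 (by simp [hj.1, Ne.symm hj.1])
  rw [smul_dotProduct, dotProduct_single, mul_one, smul_eq_mul] at h3
  have := no_entry C (Ne.symm hj.1) h3
  exact hk (by simpa [hm] using mul_mem this (inv_mem (hχ m)))

omit C in
theorem exists_omega {x x' : Fin n → F} (hx : RatVec F₀ x) (hx' : RatVec F₀ x') {a b : Fin n}
    (hab : x a * x' b - x b * x' a ≠ 0) :
    ∃ ω, RatVec F₀ ω ∧ ω ⬝ᵥ x = 0 ∧ ω ⬝ᵥ x' = 1 := by
  refine ⟨(x a * x' b - x b * x' a)⁻¹ • (x a • Pi.single b 1 - x b • Pi.single a 1),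
    RatVec.smul (inv_mem (sub_mem (mul_mem (hx a) (hx' b)) (mul_mem (hx b) (hx' a))))
      (RatVec.sub (RatVec.smul (hx a) (ratVec_single _ (one_mem _)))
        (RatVec.smul (hx b) (ratVec_single _ (one_mem _)))), ?_, ?_⟩
  · simp [sub_dotProduct, mul_comm]
  · simp only [smul_dotProduct, sub_dotProduct, single_dotProduct, one_mul, smul_eq_mul]
    exact inv_mul_cancel₀ hab

omit C in
/-- A vector pairing rationally with the rational annihilators of two independent vectors is
rational. -/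
theorem ratVec_of_pair {y y' w : Fin n → F} (hy : RatVec F₀ y) (hy' : RatVec F₀ y') {a b : Fin n}
    (hab : y a * y' b - y b * y' a ≠ 0)
    (h : ∀ χ, RatVec F₀ χ → χ ⬝ᵥ y = 0 → χ ⬝ᵥ w ∈ F₀)
    (h' : ∀ χ, RatVec F₀ χ → χ ⬝ᵥ y' = 0 → χ ⬝ᵥ w ∈ F₀) : RatVec F₀ w := by
  intro l
  obtain ⟨ω, hω, h1, h2⟩ := exists_omega hy hy' hab
  have e := ratVec_single (F₀ := F₀) l (one_mem F₀)
  have := add_mem (h ((Pi.single l 1 ⬝ᵥ y') • ω) (RatVec.smul (RatVec.dot e hy') hω)
      (by rw [smul_dotProduct, h1, smul_zero]))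
    (h' (Pi.single l 1 - (Pi.single l 1 ⬝ᵥ y') • ω) (RatVec.sub e (RatVec.smul (RatVec.dot e hy') hω))
      (by rw [sub_dotProduct, smul_dotProduct, h2, smul_eq_mul, mul_one, sub_self]))
  rw [← add_dotProduct, add_sub_cancel, single_dotProduct, one_mul] at this
  exact this

theorem mem_of_entries {g : GL (Fin n) F}
    (h : ∀ k l : Fin n, k ≠ l → ∀ a b,
      (g : Matrix (Fin n) (Fin n) F) a k * ((g⁻¹ : GL (Fin n) F) : Matrix (Fin n) (Fin n) F) l b ∈ F₀) :
    g ∈ Cfsg.Geo.subfieldSubgroup F₀ 1 := by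
  have hrow : ∀ l, ∃ b, ((g⁻¹ : GL (Fin n) F) : Matrix (Fin n) (Fin n) F) l b ≠ 0 := by
    intro l
    by_contra hno
    push Not at hno
    exact ((Matrix.isUnit_iff_isUnit_det _).1 (g⁻¹ : GL (Fin n) F).isUnit).ne_zero
      (Matrix.det_eq_zero_of_row_eq_zero l hno)
  have hcol : ∀ k, ∃ a, (g : Matrix (Fin n) (Fin n) F) a k ≠ 0 := by
    intro k
    by_contra hno
    push Not at hno
    exact ((Matrix.isUnit_iff_isUnit_det _).1 g.isUnit).ne_zero
      (Matrix.det_eq_zero_of_column_eq_zero k hno)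
  obtain ⟨j, hj⟩ := exists_avoid (∅ : Finset (Fin n)) (by have := C.hn; simp; omega)
  obtain ⟨j', hj'⟩ := exists_avoid ({j} : Finset (Fin n))
    (by rw [Finset.card_singleton]; have := C.hn; omega)
  obtain ⟨i, hi⟩ := exists_avoid ({j, j'} : Finset (Fin n))
    (Finset.card_le_two.trans_lt (by have := C.hn; omega))
  simp only [Finset.mem_insert, Finset.mem_singleton, not_or] at hi hj'
  obtain ⟨b, hb⟩ := hrow j
  obtain ⟨b', hb'⟩ := hrow j'
  obtain ⟨a, ha⟩ := hcol i
  refine (mem_subfieldSubgroup_one g).2 ⟨((g⁻¹ : GL (Fin n) F) : Matrix (Fin n) (Fin n) F) j b, hb,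
    fun x y => ?_⟩
  rw [Matrix.smul_apply, smul_eq_mul, mul_comm]
  by_cases hy : y = j
  · subst hy
    have h1 := h i y hi.1 a b
    have h2 := h i j' hi.2 a b'
    have h3 := h y j' (Ne.symm hj') x b'
    have := mul_mem (mul_mem h3 h1) (inv_mem h2)
    convert this using 1
    field_simp
  · exact h y j hy x b

theorem sq_mem (hr2 : r ≠ 2 ∨ (2 : F) = 0) {c : F} (h : c * c ∈ F₀) : c ∈ F₀ := by
  rcases hr2 with hr | h2
  · by_contra hc
    let L : Subring F :=
      { carrier := {x | ∃ a ∈ F₀, ∃ b ∈ F₀, x = a + b * c}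
        mul_mem' := by
          rintro _ _ ⟨a, ha, b, hb, rfl⟩ ⟨a', ha', b', hb', rfl⟩
          exact ⟨a * a' + b * b' * (c * c), add_mem (mul_mem ha ha') (mul_mem (mul_mem hb hb') h),
            a * b' + b * a', add_mem (mul_mem ha hb') (mul_mem hb ha'), by ring⟩
        one_mem' := ⟨1, one_mem _, 0, zero_mem _, by ring⟩
        add_mem' := by
          rintro _ _ ⟨a, ha, b, hb, rfl⟩ ⟨a', ha', b', hb', rfl⟩
          exact ⟨a + a', add_mem ha ha', b + b', add_mem hb hb', by ring⟩
        zero_mem' := ⟨0, zero_mem _, 0, zero_mem _, by ring⟩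
        neg_mem' := by
          rintro _ ⟨a, ha, b, hb, rfl⟩
          exact ⟨-a, neg_mem ha, -b, neg_mem hb, by ring⟩ }
    have hall := subring_top C L (fun x hx => ⟨x, hx, 0, zero_mem _, by ring⟩)
      (c := c) ⟨0, zero_mem _, 1, one_mem _, by ring⟩ hc
    have hsurj : Function.Surjective (fun p : F₀ × F₀ => (p.1 : F) + (p.2 : F) * c) := fun x => by
      obtain ⟨a, ha, b, hb, rfl⟩ := hall x
      exact ⟨(⟨a, ha⟩, ⟨b, hb⟩), rfl⟩
    have hle := Nat.card_le_card_of_surjective _ hsurj
    rw [Nat.card_prod, Nat.card_eq_fintype_card (α := F), C.card, ← sq] at hle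
    have := (Nat.pow_le_pow_iff_right (Finite.one_lt_card (α := F₀))).1 hle
    have := C.prime.two_le
    omega
  · haveI : CharP F₀ 2 := CharTwo.of_one_ne_zero_of_two_eq_zero one_ne_zero
      (Subtype.ext (by push_cast; exact h2))
    obtain ⟨d, hd⟩ := FiniteField.isSquare_of_char_two (ringChar.eq F₀ 2) (⟨_, h⟩ : F₀)
    have hd' : c * c = (d : F) * d := congrArg Subtype.val hd
    haveI : CharP F 2 := CharTwo.of_one_ne_zero_of_two_eq_zero one_ne_zero h2
    have h3 : (c + d) * (c + d) = 0 := by linear_combination hd' + (c * d + d * d) * h2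
    have h4 : c = (d : F) := by
      linear_combination (mul_self_eq_zero.1 h3) - (d : F) * h2
    rw [h4]; exact d.2

theorem case_quadratic (hr2 : r = 2) {g : GL (Fin n) F} (hg : g ∈ M) :
    g ∈ Cfsg.Geo.subfieldSubgroup F₀ 1 := by
  classical
  refine mem_of_entries C fun k l hkl a0 b0 => ?_
  by_contra hbad
  have h0 := (rat_tv C (ratVec_single (F₀ := F₀) k (one_mem _))
    (ratVec_single (F₀ := F₀) l (one_mem _)) (by simp [Ne.symm hkl])).conj hg
  set a := (g : Matrix (Fin n) (Fin n) F) *ᵥ Pi.single k 1 with ha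
  set φ := (Pi.single l 1 : Fin n → F) ᵥ* ((g⁻¹ : GL (Fin n) F) : Matrix (Fin n) (Fin n) F) with hφ
  have hbad' : a a0 * φ b0 ∉ F₀ := by simpa [ha, hφ, Matrix.col_apply] using hbad
  have hn := C.hn
  by_cases hp : ∃ d : F, d ≠ 0 ∧ RatVec F₀ (d • φ)
  · obtain ⟨d, hd, hdφ⟩ := hp
    set φ' := d • φ with hφ'
    have h1 : HasTv M (d⁻¹ • a) φ' := by
      rw [hasTv_smul_iff (inv_ne_zero hd), hφ', smul_smul, inv_mul_cancel₀ hd, one_smul]
      exact h0
    obtain ⟨q, hq⟩ : ∃ q, φ' q ≠ 0 := by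
      by_contra hno
      push Not at hno
      apply hbad'
      have := hno b0
      rw [hφ', Pi.smul_apply, smul_eq_mul, mul_eq_zero, or_iff_right hd] at this
      rw [this, mul_zero]
      exact zero_mem _
    obtain ⟨p, hp'⟩ := exists_avoid ({q} : Finset (Fin n))
      (by rw [Finset.card_singleton]; omega)
    obtain ⟨p', hpp'⟩ := exists_avoid ({p, q} : Finset (Fin n))
      (Finset.card_le_two.trans_lt (by omega))
    simp only [Finset.mem_insert, Finset.mem_singleton, not_or] at hp' hpp'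
    let v : Fin n → Fin n → F := fun p => φ' q • Pi.single p 1 - φ' p • Pi.single q 1
    have hv : ∀ p, RatVec F₀ (v p) := fun p =>
      RatVec.sub (RatVec.smul (hdφ q) (ratVec_single _ (one_mem _)))
        (RatVec.smul (hdφ p) (ratVec_single _ (one_mem _)))
    have step : ∀ p, p ≠ q → ∀ χ, RatVec F₀ χ → χ ⬝ᵥ v p = 0 → χ ⬝ᵥ (d⁻¹ • a) ∈ F₀ := by
      intro p hpq χ hχ hχv
      have hv0 : v p ≠ 0 := fun e => by
        have := congrFun e p; simp [v, hpq, hq] at this
      have := win C (hv p) hv0 (h1.comm (rat_tv C (hv p) hχ hχv)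
        (by simp [v, dotProduct_sub, mul_comm])) q
      rw [Pi.smul_apply, smul_eq_mul] at this
      have h' := mul_mem this (inv_mem (hdφ q))
      rwa [mul_assoc, mul_inv_cancel₀ hq, mul_one] at h'
    have hrat := ratVec_of_pair (hv p) (hv p') (a := p) (b := p')
      (by simp [v, hp', hpp'.1, Ne.symm hpp'.1, hpp'.2, hq]) (step p hp') (step p' hpp'.2)
    apply hbad'
    have := mul_mem (hrat a0) (hdφ b0)
    simp only [hφ', Pi.smul_apply, smul_eq_mul] at this
    convert this using 1
    field_simp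
  · push Not at hp
    have hfin : Module.finrank F₀ F = 2 := by
      have h1 := Module.natCard_eq_pow_finrank (K := F₀) (V := F)
      rw [Nat.card_eq_fintype_card (α := F), C.card, hr2] at h1
      exact (Nat.pow_right_injective (Finite.one_lt_card (α := F₀)) h1).symm
    let e : Fin 3 → Fin n := fun i => ⟨i.1, by omega⟩
    have he : Function.Injective e := fun i j h => Fin.ext (Fin.mk.inj h)
    have hdep : ¬ LinearIndependent F₀ (fun i : Fin 3 => φ (e i)) := fun h => by
      have := h.fintype_card_le_finrank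
      simp [hfin] at this
    rw [Fintype.not_linearIndependent_iff] at hdep
    obtain ⟨w, hw, i0, hi0⟩ := hdep
    let x : Fin n → F := ∑ i, (w i : F) • Pi.single (e i) (1 : F)
    have hx : RatVec F₀ x := fun j => by
      simp only [x, Finset.sum_apply]
      exact sum_mem fun i _ => RatVec.smul (w i).2 (ratVec_single _ (one_mem _)) j
    have hxi : x (e i0) = (w i0 : F) := by
      simp [x, Finset.sum_apply, Pi.single_apply, he.eq_iff]
    have hw0 : (w i0 : F) ≠ 0 := fun h => hi0 (Subtype.ext h)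
    have hφx : φ ⬝ᵥ x = 0 := by
      simp only [x, dotProduct_sum, dotProduct_smul, dotProduct_single, mul_one, smul_eq_mul]
      exact hw
    have hx0 : x ≠ 0 := fun h => hw0 (by rw [← hxi, h, Pi.zero_apply])
    have hstep : ∀ ψ, RatVec F₀ ψ → ψ ⬝ᵥ x = 0 → ψ ⬝ᵥ a = 0 := by
      intro ψ hψ hψx
      by_contra hne
      exact hp _ hne (win C hx hx0 (h0.comm (rat_tv C hx hψ hψx) hφx))
    have hax : a = (a (e i0) / (w i0 : F)) • x := by
      funext j
      have := hstep ((w i0 : F) • Pi.single j 1 - x j • Pi.single (e i0) 1)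
        (RatVec.sub (RatVec.smul (w i0).2 (ratVec_single _ (one_mem _)))
          (RatVec.smul (hx j) (ratVec_single _ (one_mem _))))
        (by simp [sub_dotProduct, hxi]; ring)
      simp only [sub_dotProduct, smul_dotProduct, single_dotProduct, one_mul, smul_eq_mul] at this
      rw [Pi.smul_apply, smul_eq_mul, div_mul_eq_mul_div, eq_div_iff hw0]
      linear_combination this
    by_cases hd : a (e i0) / (w i0 : F) = 0
    · apply hbad'
      rw [hax, hd, zero_smul, Pi.zero_apply, zero_mul]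
      exact zero_mem _
    · rw [hax, hasTv_smul_iff hd] at h0
      exact hp _ hd (win C hx hx0 h0)


end CfsgLib.MaxSub.SlThree.Sub
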