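import Cfsg.Agent.Lib.MaxSub.SlThree.Basic
import Cfsg.Agent.Lib.MaxSub.UnitFour
import Cfsg.Agent.Lib.Aschbacher.SLNotLe

/-!
The unitary similarity groups are maximal in `SL₃(q²)`.
-/

set_option autoImplicit false
set_option linter.unusedSectionVars false

namespace CfsgLib.MaxSub.SlThree

open Matrix
open scoped MatrixGroups
open CfsgLib.MaxSub
open Cfsg.Agent.S5643 (NonUnitary unitary_tv)

variable {F : Type*} [Field F] [Finite F] {σ : F ≃+* F}
  {f : (Fin 3 → F) → (Fin 3 → F) → F} {M : Subgroup (GL (Fin 3) F)}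

theorem exists_nonUnitary (hf : Cfsg.Geo.IsUnitaryForm σ f)
    (hM : Cfsg.Geo.similarityGroup f ⊓ Cfsg.Geo.specialLinear (Fin 3) F ≤ M)
    {g : GL (Fin 3) F} (hg : g ∈ M) (hgS : g ∉ Cfsg.Geo.similarityGroup f) :
    ∃ b ψ, HasTv M b ψ ∧ NonUnitary σ f b ψ := by
  by_contra hno
  have hno' : ∀ b ψ, HasTv M b ψ → b ≠ 0 → ψ ≠ 0 →
      f b b = 0 ∧ ∃ c, c + σ c = 0 ∧ ψ = c • hDual f b := fun b ψ h h1 h2 => by
    by_contra hc; exact hno ⟨b, ψ, h, h1, h2, hc⟩
  obtain ⟨c₀, hc₀, hc₀'⟩ := exists_trace_zero hf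
  have hginj : ∀ x, (g : Matrix (Fin 3) (Fin 3) F) *ᵥ x = 0 → x = 0 := fun x hx => by
    have := congrArg (((g⁻¹ : GL (Fin 3) F) : Matrix (Fin 3) (Fin 3) F) *ᵥ ·) hx
    simpa [inv_mulVec_mulVec] using this
  have hloc : ∀ a, f a a = 0 → a ≠ 0 → ∃ μ : F, ∀ x,
      f ((g : Matrix (Fin 3) (Fin 3) F) *ᵥ x) ((g : Matrix (Fin 3) (Fin 3) F) *ᵥ a) = μ * f x a := by
    intro a ha ha0
    have h1 := (unitary_tv hf hM ha hc₀').conj hg
    have hne : (c₀ • hDual f a) ᵥ* ((g⁻¹ : GL (Fin 3) F) : Matrix (Fin 3) (Fin 3) F) ≠ 0 := by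
      intro e
      refine smul_ne_zero hc₀ (hDual_ne_zero hf ha0) ?_
      have := congrArg (fun z => z ᵥ* (g : Matrix (Fin 3) (Fin 3) F)) e
      simpa [vecMul_vecMul] using this
    obtain ⟨-, d, -, hd⟩ := hno' _ _ h1 (fun e => ha0 (hginj a e)) hne
    have hd0 : d ≠ 0 := fun e => hne (by rw [hd, e, zero_smul])
    refine ⟨c₀ / d, fun x => ?_⟩
    have := congrArg (· ⬝ᵥ ((g : Matrix (Fin 3) (Fin 3) F) *ᵥ x)) hd
    simp only [vecMul_inv_dotProduct, inv_mulVec_mulVec, smul_dotProduct, hDual_dot hf,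
      smul_eq_mul] at this
    rw [div_mul_eq_mul_div, eq_div_iff hd0, this, mul_comm]
  choose! μ hμ using hloc
  have hpair : ∀ a a', f a a = 0 → f a' a' = 0 → f a a' ≠ 0 → μ a' = σ (μ a) := by
    intro a a' ha ha' hne
    have ha0 : a ≠ 0 := fun e => hne (by rw [e, herm_zero_left hf])
    have ha'0 : a' ≠ 0 := fun e => hne (by rw [e, herm_zero_right hf])
    have h1 := hμ a' ha' ha'0 a
    rw [hf.herm, hμ a ha ha0 a', map_mul, ← hf.herm] at h1
    exact (mul_right_cancel₀ hne h1).symm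
  have h5 : 3 + 2 < 2 * Module.finrank F (⊤ : Submodule F (Fin 3 → F)) := by
    rw [finrank_top, Module.finrank_fin_fun]; norm_num
  have htop : ∀ z, z ≠ 0 → ∃ y ∈ (⊤ : Submodule F (Fin 3 → F)), hDual f z ⬝ᵥ y ≠ 0 := fun z hz => by
    obtain ⟨y, hy⟩ := exists_dot_ne (hDual_ne_zero hf hz)
    exact ⟨y, trivial, by rw [hy]; exact one_ne_zero⟩
  obtain ⟨a₀, -, ha₀0, ha₀⟩ := exists_isotropic hf (U := (⊤ : Submodule F (Fin 3 → F)))
    (by rw [finrank_top, Module.finrank_fin_fun]; norm_num)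
  have hconst : ∀ a, f a a = 0 → a ≠ 0 → μ a = μ a₀ := by
    intro a ha ha0
    obtain ⟨w, -, hw, h1, h2⟩ := exists_isotropic_avoid hf h5 (htop a ha0) (htop a₀ ha₀0)
    rw [hDual_dot hf] at h1 h2
    rw [hpair w a hw ha h1, hpair w a₀ hw ha₀ h2]
  let P : Submodule F (Fin 3 → F) :=
    { carrier := {y | ∀ x, f ((g : Matrix (Fin 3) (Fin 3) F) *ᵥ x)
        ((g : Matrix (Fin 3) (Fin 3) F) *ᵥ y) = μ a₀ * f x y}
      add_mem' := fun {u v} hu hv x => by
        rw [mulVec_add, herm_add_right hf, herm_add_right hf, hu x, hv x, mul_add]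
      zero_mem' := fun x => by rw [mulVec_zero, herm_zero_right hf, herm_zero_right hf, mul_zero]
      smul_mem' := fun c u hu x => by
        rw [mulVec_smul, herm_smul_right hf, herm_smul_right hf, hu x, mul_left_comm] }
  have hP : (⊤ : Submodule F (Fin 3 → F)) ≤ P := le_of_isotropic_mem hf h5 fun a _ ha => by
    rcases eq_or_ne a 0 with rfl | ha0
    · exact P.zero_mem
    · intro x
      rw [hμ a ha ha0 x, hconst a ha ha0]
  have hμ0 : μ a₀ ≠ 0 := by
    intro e
    obtain ⟨x, hx⟩ := (hf.nondegenerate _ (fun h => ha₀0 (hginj _ h))).1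
    have := hP (Submodule.mem_top : a₀ ∈ ⊤) (((g⁻¹ : GL (Fin 3) F) : Matrix (Fin 3) (Fin 3) F) *ᵥ x)
    rw [mulVec_mulVec_inv, e, zero_mul] at this
    exact hx this
  exact hgS ⟨Units.mk0 _ hμ0, fun u v => hP (Submodule.mem_top : v ∈ ⊤) u⟩

/-- the standard unitary form -/
def stdU (σ : F ≃+* F) (d : F) (u v : Fin 3 → F) : F :=
  u 0 * σ (v 2) + u 2 * σ (v 0) + d * u 1 * σ (v 1)

/-- `M` contains the special isometries of the standard form -/
def HasIsom (σ : F ≃+* F) (d : F) (M : Subgroup (GL (Fin 3) F)) : Prop :=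
  ∀ A : Matrix (Fin 3) (Fin 3) F, A.det = 1 →
    (∀ u v, stdU σ d (A *ᵥ u) (A *ᵥ v) = stdU σ d u v) → ∃ g ∈ M, (g : Matrix (Fin 3) (Fin 3) F) = A

variable {d : F}

theorem exists_unip (hσ : ∀ a, σ (σ a) = a) (hne : σ ≠ RingEquiv.refl F) (hd : d ≠ 0)
    (hd' : σ d = d) (hI : HasIsom σ d M) (y : F) :
    ∃ g ∈ M, ∃ c, (g : Matrix (Fin 3) (Fin 3) F) = !![1, -(d * σ y), c; 0, 1, y; 0, 0, 1] := by
  obtain ⟨s, hs⟩ : ∃ s : F, s + σ s ≠ 0 := by
    by_contra hno
    push Not at hno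
    refine hne (RingEquiv.ext fun x => ?_)
    have h1 := hno 1
    rw [map_one] at h1
    show σ x = x
    linear_combination hno x - x * h1
  set c : F := -(d * (y * σ y)) * s / (s + σ s) with hc
  have hcc : c + σ c + d * (y * σ y) = 0 := by
    rw [hc, map_div₀, map_mul, map_neg, map_mul, map_mul, hσ, hd', map_add, hσ, add_comm (σ s) s]
    field_simp
    ring
  obtain ⟨g, hg, hgv⟩ := hI !![1, -(d * σ y), c; 0, 1, y; 0, 0, 1]
    (by simp [Matrix.det_fin_three]) fun u v => by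
    simp only [stdU, mulVec, dotProduct, Fin.sum_univ_three, Matrix.of_apply, Matrix.cons_val_zero,
      Matrix.cons_val_one, Matrix.cons_val, map_add, map_mul, map_neg, map_one, map_zero, hσ, hd']
    linear_combination u 2 * σ (v 2) * hcc
  exact ⟨g, hg, c, hgv⟩

theorem exists_flip (hI : HasIsom σ d M) :
    ∃ g ∈ M, (g : Matrix (Fin 3) (Fin 3) F) = !![0, 0, 1; 0, -1, 0; 1, 0, 0] :=
  hI _ (by simp [Matrix.det_fin_three]) fun u v => by
    simp [stdU, mulVec, dotProduct, Fin.sum_univ_three]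
    ring

theorem exists_diag_isom (hσ : ∀ a, σ (σ a) = a) (hI : HasIsom σ d M) {μ : F} (hμ : μ ≠ 0) :
    ∃ g ∈ M, (g : Matrix (Fin 3) (Fin 3) F) = Matrix.diagonal ![μ, σ μ / μ, (σ μ)⁻¹] := by
  have hμ' : σ μ ≠ 0 := (map_ne_zero σ).2 hμ
  refine hI _ ?_ fun u v => ?_
  · simp [Fin.prod_univ_three]
    field_simp
  · simp [stdU, Matrix.mulVec_diagonal, hσ]
    field_simp

theorem sl_le_of_tangent (hσ : ∀ a, σ (σ a) = a) (hne : σ ≠ RingEquiv.refl F) (hd : d ≠ 0)
    (hd' : σ d = d) (hI : HasIsom σ d M) (h13 : ∀ t, HasTv M ![1, 0, 0] ![0, 0, t]) :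
    Cfsg.Geo.specialLinear (Fin 3) F ≤ M := by
  obtain ⟨J, hJ, hJv⟩ := exists_flip hI
  have hJi : ((J⁻¹ : GL (Fin 3) F) : Matrix (Fin 3) (Fin 3) F) = !![0, 0, 1; 0, -1, 0; 1, 0, 0] := by
    rw [Units.inv_eq_of_mul_eq_one_right]
    rw [hJv]
    ext i j
    fin_cases i <;> fin_cases j <;> simp [Matrix.mul_apply, Fin.sum_univ_three]
  have h31 : ∀ t : F, HasTv M ![0, 0, 1] ![t, 0, 0] := fun t => by
    have h := (h13 t).conj hJ
    rw [hJv, hJi] at h
    convert h using 1
    · ext i; fin_cases i <;> simp [mulVec, dotProduct, Fin.sum_univ_three]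
    · ext i; fin_cases i <;> simp [vecMul, dotProduct, Fin.sum_univ_three]
  obtain ⟨g, hg, c, hgv⟩ := exists_unip hσ hne hd hd' hI 1
  exact sl_le_of_root_pair h13 h31 hg hgv (by simp [hd]) one_ne_zero

theorem sl_le_iso_centre [Finite F] (hσ : ∀ a, σ (σ a) = a) (hne : σ ≠ RingEquiv.refl F) (hd : d ≠ 0)
    (hd' : σ d = d) (hI : HasIsom σ d M) (hnorm : ∀ e, σ e = e → ∃ t, t * σ t = e)
    {φ : Fin 3 → F} (h : HasTv M ![1, 0, 0] φ) (hnu : φ 1 = 0 → φ 2 + σ (φ 2) ≠ 0) :
    Cfsg.Geo.specialLinear (Fin 3) F ≤ M := by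
  have h0 : φ 0 = 0 := by
    have := h.1
    rw [dot_three] at this
    simpa using this
  refine sl_le_of_tangent hσ hne hd hd' hI ?_
  by_cases h1 : φ 1 = 0
  · have hφ : φ = ![0, 0, φ 2] := by ext i; fin_cases i <;> simp [h0, h1]
    let G : AddSubgroup F :=
      { carrier := {u | HasTv M ![1, 0, 0] ![0, 0, u]}
        add_mem' := fun {u v} hu hv => by
          show HasTv M _ ![0, 0, u + v]
          convert HasTv.add hu hv using 1
          ext i; fin_cases i <;> simp
        zero_mem' := by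
          show HasTv M _ ![0, 0, 0]
          convert hasTv_zero (M := M) ![(1 : F), 0, 0] using 1
          ext i; fin_cases i <;> simp
        neg_mem' := fun {u} hu => by
          show HasTv M _ ![0, 0, -u]
          convert HasTv.neg hu using 1
          ext i; fin_cases i <;> simp }
    have hφG : φ 2 ∈ G := by
      show HasTv M ![1, 0, 0] ![0, 0, φ 2]
      rwa [← hφ]
    have hscale : ∀ μ u, u ∈ G → μ * σ μ * u ∈ G := by
      intro μ u hu
      rcases eq_or_ne μ 0 with rfl | hμ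
      · simp
      obtain ⟨g, hg, hgv⟩ := exists_diag_isom hσ hI hμ
      have hgi : ((g⁻¹ : GL (Fin 3) F) : Matrix (Fin 3) (Fin 3) F) =
          Matrix.diagonal ![μ⁻¹, μ / σ μ, σ μ] := by
        rw [Units.inv_eq_of_mul_eq_one_right]
        rw [hgv, Matrix.diagonal_mul_diagonal, ← Matrix.diagonal_one]
        congr 1
        have hμ' : σ μ ≠ 0 := (map_ne_zero σ).2 hμ
        funext i; fin_cases i <;> simp <;> field_simp
      have h2 := HasTv.conj (show HasTv M ![1, 0, 0] ![0, 0, u] from hu) hg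
      rw [hgv, hgi] at h2
      have h3 : HasTv M (μ • ![1, 0, 0]) ![0, 0, σ μ * u] := by
        convert h2 using 1
        · ext i; fin_cases i <;> simp [Matrix.mulVec_diagonal]
        · ext i; fin_cases i <;> simp [Matrix.vecMul_diagonal]; ring
      show HasTv M ![1, 0, 0] ![0, 0, μ * σ μ * u]
      convert (hasTv_smul_iff hμ).1 h3 using 1
      ext i; fin_cases i <;> simp; ring
    -- trace-zero coefficients come from isometries
    have hker : ∀ c, c + σ c = 0 → c ∈ G := by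
      intro c hc
      obtain ⟨g, hg, hgv⟩ := hI !![1, 0, c; 0, 1, 0; 0, 0, 1] (by simp [Matrix.det_fin_three])
        fun u v => by
          simp [stdU, mulVec, dotProduct, Fin.sum_univ_three]
          linear_combination u 2 * σ (v 2) * hc
      refine ⟨by simp [dot_three], g, hg, ?_⟩
      rw [hgv]
      ext i j; fin_cases i <;> fin_cases j <;> simp [tvMat, vecMulVec_apply]
    intro t
    show t ∈ G
    set e := φ 2 with he
    have hes := hnu h1
    -- `t = k e + c` with `k` fixed and `c` of trace zero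
    set k := (t + σ t) / (e + σ e) with hk
    have hkfix : σ k = k := by rw [hk, map_div₀, map_add, map_add, hσ, hσ, add_comm, add_comm (σ e)]
    obtain ⟨μ, hμ⟩ := hnorm k hkfix
    have : t = μ * σ μ * e + (t - k * e) := by rw [hμ]; ring
    rw [this]
    refine add_mem (hscale μ e hφG) (hker _ ?_)
    rw [map_sub, map_mul, hkfix]
    have : k * (e + σ e) = t + σ t := by rw [hk, div_mul_cancel₀ _ hes]
    linear_combination -this
  · intro t
    obtain ⟨g, hg, c, hgv⟩ := exists_unip hσ hne hd hd' hI (-(t / φ 1))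
    set y : F := -(t / φ 1) with hy
    have hgi : ((g⁻¹ : GL (Fin 3) F) : Matrix (Fin 3) (Fin 3) F) =
        !![1, d * σ y, -(d * σ y * y) - c; 0, 1, -y; 0, 0, 1] := by
      rw [Units.inv_eq_of_mul_eq_one_right]
      rw [hgv]
      ext i j
      fin_cases i <;> fin_cases j <;> simp [Matrix.mul_apply, Fin.sum_univ_three] <;> ring
    have h2 := h.conj hg
    rw [hgv, hgi] at h2
    have h3 : HasTv M ![1, 0, 0] ![0, φ 1, φ 2 + t] := by
      convert h2 using 1
      · ext i; fin_cases i <;> simp [mulVec, dotProduct, Fin.sum_univ_three]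
      · ext i; fin_cases i <;> simp [vecMul, dotProduct, Fin.sum_univ_three, h0, hy] <;> field_simp <;> ring
    convert h3.sub h using 1
    ext i; fin_cases i <;> simp [h0]

theorem sl_le_aniso_centre (hσ : ∀ a, σ (σ a) = a) (hne : σ ≠ RingEquiv.refl F) (hd : d ≠ 0)
    (hd' : σ d = d) (hI : HasIsom σ d M) {φ : Fin 3 → F} (h : HasTv M ![0, 1, 0] φ) (hφ : φ ≠ 0) :
    Cfsg.Geo.specialLinear (Fin 3) F ≤ M := by
  have h1 : φ 1 = 0 := by
    have := h.1
    rw [dot_three] at this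
    simpa using this
  obtain ⟨c₀, hc₀, hc₀'⟩ : ∃ c : F, c ≠ 0 ∧ c + σ c = 0 := by
    obtain ⟨x, hx⟩ : ∃ x, σ x ≠ x := by
      by_contra hall
      simp only [not_exists, not_not] at hall
      exact hne (RingEquiv.ext hall)
    exact ⟨x - σ x, sub_ne_zero.mpr (Ne.symm hx), by rw [map_sub, hσ]; ring⟩
  obtain ⟨J, hJ, hJv⟩ := exists_flip hI
  have hJi : ((J⁻¹ : GL (Fin 3) F) : Matrix (Fin 3) (Fin 3) F) = !![0, 0, 1; 0, -1, 0; 1, 0, 0] := by
    rw [Units.inv_eq_of_mul_eq_one_right]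
    rw [hJv]
    ext i j
    fin_cases i <;> fin_cases j <;> simp [Matrix.mul_apply, Fin.sum_univ_three]
  obtain ⟨k, hk, h2⟩ : ∃ k, k ≠ 0 ∧ HasTv M ![0, 1, 0] ![0, 0, k] := by
    by_cases h0 : φ 0 = 0
    · refine ⟨φ 2, fun e => hφ (by ext i; fin_cases i <;> simp [h0, h1, e]), ?_⟩
      convert h using 1
      ext i; fin_cases i <;> simp [h0, h1]
    · obtain ⟨g, hg, hgv⟩ := hI !![1, 0, c₀; 0, 1, 0; 0, 0, 1] (by simp [Matrix.det_fin_three])
        fun u v => by
          simp [stdU, mulVec, dotProduct, Fin.sum_univ_three]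
          linear_combination u 2 * σ (v 2) * hc₀'
      have hgi : ((g⁻¹ : GL (Fin 3) F) : Matrix (Fin 3) (Fin 3) F) = !![1, 0, -c₀; 0, 1, 0; 0, 0, 1] := by
        rw [Units.inv_eq_of_mul_eq_one_right]
        rw [hgv]
        ext i j
        fin_cases i <;> fin_cases j <;> simp [Matrix.mul_apply, Fin.sum_univ_three]
      have h3 := h.conj hg
      rw [hgv, hgi] at h3
      refine ⟨-(φ 0 * c₀), neg_ne_zero.2 (mul_ne_zero h0 hc₀), ?_⟩
      have h4 : HasTv M ![0, 1, 0] ![φ 0, φ 1, φ 2 - φ 0 * c₀] := by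
        convert h3 using 1
        · ext i; fin_cases i <;> simp [mulVec, dotProduct, Fin.sum_univ_three]
        · ext i; fin_cases i <;> simp [vecMul, dotProduct, Fin.sum_univ_three] <;> ring
      convert h4.sub h using 1
      ext i; fin_cases i <;> simp
  refine sl_le_of_tangent hσ hne hd hd' hI fun t => ?_
  obtain ⟨g, hg, c, hgv⟩ := exists_unip hσ hne hd hd' hI (σ (-(t / (k * d))))
  rw [hσ] at hgv
  set y : F := σ (-(t / (k * d))) with hy
  have hgi : ((g⁻¹ : GL (Fin 3) F) : Matrix (Fin 3) (Fin 3) F) =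
      !![1, d * -(t / (k * d)), -(d * -(t / (k * d)) * y) - c; 0, 1, -y; 0, 0, 1] := by
    rw [Units.inv_eq_of_mul_eq_one_right]
    rw [hgv]
    ext i j
    fin_cases i <;> fin_cases j <;> simp [Matrix.mul_apply, Fin.sum_univ_three] <;> ring
  have h3 := h2.conj hg
  rw [hgv, hgi] at h3
  have h4 : HasTv M ![t / k, 1, 0] ![0, 0, k] := by
    convert h3 using 1
    · ext i; fin_cases i <;> simp [mulVec, dotProduct, Fin.sum_univ_three]
      field_simp
    · ext i; fin_cases i <;> simp [vecMul, dotProduct, Fin.sum_univ_three]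
  have h5 : HasTv M (-![0, 1, 0]) ![0, 0, k] := by
    have := (hasTv_smul_iff (M := M) (a := ![0, 1, 0]) (φ := ![0, 0, k]) (c := (-1 : F)) (by simp)).2
      (by rw [neg_one_smul]; exact h2.neg)
    simpa [neg_smul] using this
  have h6 : HasTv M ((t / k) • ![1, 0, 0]) ![0, 0, k] := by
    convert h4.add_left h5 using 1
    ext i; fin_cases i <;> simp
  rcases eq_or_ne t 0 with rfl | ht
  · convert hasTv_zero (M := M) ![(1 : F), 0, 0] using 1
    ext i; fin_cases i <;> simp
  · convert (hasTv_smul_iff (div_ne_zero ht hk)).1 h6 using 1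
    ext i; fin_cases i <;> simp [hk]

theorem unit_basis (hf : Cfsg.Geo.IsUnitaryForm σ f)
    (hM : Cfsg.Geo.similarityGroup f ⊓ Cfsg.Geo.specialLinear (Fin 3) F ≤ M)
    {b z w : Fin 3 → F} (hbb : f b b = 0) (hww : f w w = 0) (hwb : f w b = 1)
    (hzb : f z b = 0) (hzw : f z w = 0) (hzz : f z z ≠ 0) :
    ∃ P : GL (Fin 3) F, (P : Matrix (Fin 3) (Fin 3) F) *ᵥ ![1, 0, 0] = b ∧
      (P : Matrix (Fin 3) (Fin 3) F) *ᵥ ![0, 1, 0] = z ∧
      (P : Matrix (Fin 3) (Fin 3) F) *ᵥ ![0, 0, 1] = w ∧ HasIsom σ (f z z) (pull P M) := by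
  set A : Matrix (Fin 3) (Fin 3) F := Matrix.of fun i j => ![b, z, w] j i with hA
  have hap : ∀ u : Fin 3 → F, A *ᵥ u = u 0 • b + u 1 • z + u 2 • w := fun u => by
    ext i; simp [hA, mulVec, dotProduct, Fin.sum_univ_three, mul_comm]
  have hbw : f b w = 1 := by rw [hf.herm b w, hwb, map_one]
  have hbz := herm_eq_zero_comm hf hzb
  have hwz := herm_eq_zero_comm hf hzw
  have hval : ∀ u v, f (A *ᵥ u) (A *ᵥ v) = stdU σ (f z z) u v := fun u v => by
    simp only [hap, hf.add_left, hf.smul_left, herm_add_right hf, herm_smul_right hf, hbb, hww, hwb, hbw,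
      hzb, hzw, hbz, hwz, stdU]
    ring
  have hinj : Function.Injective A.mulVec := fun u v e => by
    have key : ∀ x, stdU σ (f z z) u x = stdU σ (f z z) v x := fun x => by
      rw [← hval, ← hval, e]
    ext i
    fin_cases i
    · simpa [stdU] using key ![0, 0, 1]
    · simpa [stdU, hzz] using key ![0, 1, 0]
    · simpa [stdU] using key ![1, 0, 0]
  have hu : IsUnit A := Matrix.mulVec_injective_iff_isUnit.1 hinj
  refine ⟨hu.unit, ?_, ?_, ?_, fun B hB hiso => ?_⟩
  · show A *ᵥ _ = b; rw [hap]; simp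
  · show A *ᵥ _ = z; rw [hap]; simp
  · show A *ᵥ _ = w; rw [hap]; simp
  have hBu : IsUnit B := (Matrix.isUnit_iff_isUnit_det B).2 (by rw [hB]; exact isUnit_one)
  refine ⟨hBu.unit, mem_pull.2 (hM ⟨⟨1, fun u v => ?_⟩, conj_mem_sl.2 ?_⟩), rfl⟩
  · have e : ∀ x : Fin 3 → F, ((hu.unit * hBu.unit * hu.unit⁻¹ : GL (Fin 3) F) : Matrix (Fin 3) (Fin 3) F) *ᵥ x =
        A *ᵥ (B *ᵥ (((hu.unit⁻¹ : GL (Fin 3) F) : Matrix (Fin 3) (Fin 3) F) *ᵥ x)) := fun x => by
      simp only [Units.val_mul, ← mulVec_mulVec, IsUnit.unit_spec]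
    rw [e, e, hval, hiso, ← hval, Units.val_one, one_mul]
    have e2 : ∀ x : Fin 3 → F, A *ᵥ (((hu.unit⁻¹ : GL (Fin 3) F) : Matrix (Fin 3) (Fin 3) F) *ᵥ x) = x :=
      fun x => mulVec_mulVec_inv hu.unit x
    rw [e2, e2]
  · show Matrix.GeneralLinearGroup.det hBu.unit = 1
    exact Units.ext hB

theorem sl_le_of_not_unitary (hf : Cfsg.Geo.IsUnitaryForm σ f)
    (hM : Cfsg.Geo.similarityGroup f ⊓ Cfsg.Geo.specialLinear (Fin 3) F ≤ M)
    {g : GL (Fin 3) F} (hg : g ∈ M) (hgS : g ∉ Cfsg.Geo.similarityGroup f) :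
    Cfsg.Geo.specialLinear (Fin 3) F ≤ M := by
  obtain ⟨a, φ, h, ha0, hφ0, hnu⟩ := exists_nonUnitary hf hM hg hgS
  have htop : (2 : ℕ) ≤ Module.finrank F (⊤ : Submodule F (Fin 3 → F)) := by
    rw [finrank_top, Module.finrank_fin_fun]; norm_num
  by_cases haa : f a a = 0
  · obtain ⟨z', hz'⟩ : ∃ z', f z' a ≠ 0 := (hf.nondegenerate a ha0).1
    obtain ⟨w, -, hww, hwa⟩ := UnitFour.exists_pair hf (U := ⊤) (b := a) (z := z') trivial haa trivial hz'
    have h1 := finrank_le_inf_dotKer (⊤ : Submodule F (Fin 3 → F)) (hDual f a)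
    have h2 := finrank_le_inf_dotKer (⊤ ⊓ dotKer (hDual f a) : Submodule F (Fin 3 → F)) (hDual f w)
    obtain ⟨z, ⟨⟨-, hza⟩, hzw⟩, hz0⟩ :=
      (⊤ ⊓ dotKer (hDual f a) ⊓ dotKer (hDual f w) : Submodule F (Fin 3 → F)).exists_mem_ne_zero_of_ne_bot
        (by
          intro e
          rw [e, finrank_bot] at h2
          rw [finrank_top, Module.finrank_fin_fun] at h1
          omega)
    have hza' : f z a = 0 := by rw [← hDual_dot hf]; exact hza
    have hzw' : f z w = 0 := by rw [← hDual_dot hf]; exact hzw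
    have haw : f a w = 1 := by rw [hf.herm a w, hwa, map_one]
    have hzz : f z z ≠ 0 := by
      intro e
      obtain ⟨x, hx⟩ := (hf.nondegenerate z hz0).1
      set x' := x + (-f x a) • w + (-f x w) • a with hx'
      have h3 : f x' z = f x z := by
        rw [hx', hf.add_left, hf.add_left, hf.smul_left, hf.smul_left, herm_eq_zero_comm hf hzw',
          herm_eq_zero_comm hf hza']
        ring
      have hxa : f x' a = 0 := by
        rw [hx', hf.add_left, hf.add_left, hf.smul_left, hf.smul_left, hwa, haa]; ring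
      have hxw : f x' w = 0 := by
        rw [hx', hf.add_left, hf.add_left, hf.smul_left, hf.smul_left, hww, haw]; ring
      -- `z` and `x'` span a non-degenerate space orthogonal to the plane
      have hli : LinearIndependent F ![a, w, z, x'] := by
        rw [Fintype.linearIndependent_iff]
        intro k hk
        simp only [Fin.sum_univ_four, Matrix.cons_val_zero, Matrix.cons_val_one, Matrix.cons_val] at hk
        have e1 := congrArg (fun v => f v w) hk
        have e2 := congrArg (fun v => f v a) hk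
        have e3 := congrArg (fun v => f v z) hk
        simp only [hf.add_left, hf.smul_left, haw, hww, hzw', hxw, haa, hwa, hza', hxa, h3,
          herm_eq_zero_comm hf hza', herm_eq_zero_comm hf hzw', e, herm_zero_left hf] at e1 e2 e3
        simp at e1 e2 e3
        have k3 : k 3 = 0 := by rcases e3 with h | h; exacts [h, absurd h hx]
        rw [e1, e2, k3] at hk
        simp at hk
        intro i; fin_cases i
        exacts [e1, e2, hk.resolve_right hz0, k3]
      have := hli.fintype_card_le_finrank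
      simp [Module.finrank_fin_fun] at this
    obtain ⟨P, hP0, hP1, hP2, hI⟩ := unit_basis hf hM haa hww hwa hza' hzw' hzz
    refine sl_le_of_pull (sl_le_iso_centre hf.involutive hf.ne_refl hzz (herm_self_fixed hf z) hI
      (fun e he => exists_norm_eq hf he) (φ := φ ᵥ* (P : Matrix (Fin 3) (Fin 3) F)) ?_ ?_)
    · rw [hasTv_pull, hP0, vecMul_vecMul, ← Units.val_mul, mul_inv_cancel, Units.val_one, vecMul_one]
      exact h
    intro h1' h2'
    refine hnu ⟨haa, (φ ᵥ* (P : Matrix (Fin 3) (Fin 3) F)) 2, h2', ?_⟩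
    refine (dotProduct_eq _ _ fun x => ?_)
    obtain ⟨u, rfl⟩ : ∃ u, (P : Matrix (Fin 3) (Fin 3) F) *ᵥ u = x := ⟨_, mulVec_mulVec_inv P x⟩
    rw [smul_dotProduct, hDual_dot hf, dotProduct_mulVec, dot_three, h1']
    have e0 : (φ ᵥ* (P : Matrix (Fin 3) (Fin 3) F)) 0 = 0 := by
      have := congrArg (φ ⬝ᵥ ·) hP0
      simp only [dotProduct_mulVec, h.1, dot_three] at this
      simpa using this
    rw [e0]
    have e : (P : Matrix (Fin 3) (Fin 3) F) *ᵥ u = u 0 • a + u 1 • z + u 2 • w := by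
      rw [← hP0, ← hP1, ← hP2, ← mulVec_smul, ← mulVec_smul, ← mulVec_smul, ← mulVec_add, ← mulVec_add]
      congr 1
      ext i; fin_cases i <;> simp
    rw [e, hf.add_left, hf.add_left, hf.smul_left, hf.smul_left, hf.smul_left, haa, hza', hwa]
    simp
  · have hU : (2 : ℕ) ≤ Module.finrank F (dotKer (hDual f a) : Submodule F (Fin 3 → F)) := by
      have := finrank_dotKer_ge (hDual f a); omega
    obtain ⟨b, hb, hb0, hbb⟩ := exists_isotropic hf hU
    have hba : f b a = 0 := by rw [← hDual_dot hf]; exact hb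
    obtain ⟨z', hz'⟩ := (hf.nondegenerate b hb0).1
    obtain ⟨w, hw, hww, hwb⟩ := UnitFour.exists_pair hf (U := dotKer (hDual f a)) hb hbb
      (z := z' - (f z' a / f a a) • a) (show hDual f a ⬝ᵥ _ = 0 by
        rw [hDual_dot hf, sub_eq_add_neg, hf.add_left, ← neg_smul, hf.smul_left]; field_simp; ring)
      (by rw [sub_eq_add_neg, hf.add_left, ← neg_smul, hf.smul_left, herm_eq_zero_comm hf hba, mul_zero,
          add_zero]; exact hz')
    have hwa : f w a = 0 := by rw [← hDual_dot hf]; exact hw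
    obtain ⟨P, -, hP1, -, hI⟩ := unit_basis hf hM hbb hww hwb (herm_eq_zero_comm hf hba)
      (herm_eq_zero_comm hf hwa) haa
    refine sl_le_of_pull (sl_le_aniso_centre hf.involutive hf.ne_refl haa (herm_self_fixed hf a) hI
      (φ := φ ᵥ* (P : Matrix (Fin 3) (Fin 3) F)) ?_ ?_)
    · rw [hasTv_pull, hP1, vecMul_vecMul, ← Units.val_mul, mul_inv_cancel, Units.val_one, vecMul_one]
      exact h
    · intro e
      refine hφ0 ?_
      have := congrArg (fun v => v ᵥ* ((P⁻¹ : GL (Fin 3) F) : Matrix (Fin 3) (Fin 3) F)) e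
      rwa [vecMul_vecMul, ← Units.val_mul, mul_inv_cancel, Units.val_one, vecMul_one, zero_vecMul] at this

/-- unitary similarity groups are maximal -/
theorem similarity_maximal_three [Fintype F] (hf : Cfsg.Geo.IsUnitaryForm σ f) :
    Cfsg.Geo.IsMaximalIn (Cfsg.Geo.specialLinear (Fin 3) F)
      (Cfsg.Geo.similarityGroup f ⊓ Cfsg.Geo.specialLinear (Fin 3) F) := by
  refine isMaximalIn_of_lt (lt_of_le_of_ne inf_le_right fun he => ?_) fun M hM hMS g hg hgH =>
    sl_le_of_not_unitary hf hM hg fun h => hgH ⟨h, hMS hg⟩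
  exact CfsgLib.AschPrime.not_le_similarityGroup (ι := Fin 3) (by simp) hf.isSesqForm hf.nondegenerate
    (fun x hx => (he.ge hx).1)

end CfsgLib.MaxSub.SlThree
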